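import Mathlib
import Cfsg.Agent.Lib.Helper9.Wielandt
import Cfsg.Agent.Lib.Helper9.ConjLemmas

set_option autoImplicit false

namespace Cfsg.Agent.Lib.Helper9

open Subgroup
open scoped Pointwise

universe u

theorem card_lt_card_of_lt_sub {G : Type u} [Group G] [Finite G] {H K : Subgroup G} (h : H < K) :
    Nat.card H < Nat.card K := by
  by_contra hcon
  exact h.ne (Subgroup.eq_of_le_of_card_ge h.le (not_lt.mp hcon))

/-- A subnormal, non-normal subgroup has a conjugate different from it which normalizes it. -/
theorem exists_conj_le_normalizer {G : Type u} [Group G] (S : Subgroup G) (hS : S.IsSubnormal)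
    (hn : ¬ S.Normal) :
    ∃ x : G, x ∉ normalizer (S : Set G) ∧ MulAut.conj x • S ≤ normalizer (S : Set G) := by
  classical
  obtain ⟨n, f, hmono, hnorm, h0, hn'⟩ := Subgroup.IsSubnormal.isSubnormal_iff.mp hS
  have hP : ∃ j, ¬ f j ≤ normalizer (S : Set G) := ⟨n, by
    rw [hn']; intro h; exact hn (normalizer_eq_top_iff.mp (top_le_iff.mp h))⟩
  have hj0 : Nat.find hP ≠ 0 := by
    intro h0'
    have := Nat.find_spec hP
    rw [h0', h0] at this
    exact this le_normalizer
  obtain ⟨i, hi⟩ := Nat.exists_eq_succ_of_ne_zero hj0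
  have hPi : f i ≤ normalizer (S : Set G) := by
    by_contra h
    exact Nat.find_min hP (by omega) h
  have hPi1 : ¬ f (i + 1) ≤ normalizer (S : Set G) := by
    have := Nat.find_spec hP; rwa [hi] at this
  obtain ⟨x, hx, hxN⟩ := SetLike.not_le_iff_exists.mp hPi1
  refine ⟨x, hxN, ?_⟩
  have hSfi : S ≤ f i := h0 ▸ hmono (Nat.zero_le i)
  have hnorm_i : f (i + 1) ≤ normalizer ((f i : Subgroup G) : Set G) :=
    (normal_subgroupOf_iff_le_normalizer (hmono (Nat.le_succ i))).mp (hnorm i)
  have hx' : MulAut.conj x • f i = f i :=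
    conj_smul_eq_self_iff_mem_normalizer.mpr (hnorm_i hx)
  calc MulAut.conj x • S ≤ MulAut.conj x • f i := Subgroup.pointwise_smul_le_pointwise_smul_iff.mpr hSfi
    _ = f i := hx'
    _ ≤ _ := hPi

/-- transport of relative subnormality along conjugation -/
theorem isSubnormal_conj_rel {G : Type u} [Group G] (A K : Subgroup G) (x : G)
    (h : (A.subgroupOf K).IsSubnormal) :
    ((MulAut.conj x • A).subgroupOf (MulAut.conj x • K)).IsSubnormal := by
  have h1 := h.map (f := (Subgroup.equivSMul (MulAut.conj x) K).toMonoidHom)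
    (Subgroup.equivSMul (MulAut.conj x) K).surjective
  have h2 : (A.subgroupOf K).map (Subgroup.equivSMul (MulAut.conj x) K).toMonoidHom
      = (MulAut.conj x • A).subgroupOf (MulAut.conj x • K) := by
    ext z
    constructor
    · rintro ⟨k, hk, rfl⟩
      rw [SetLike.mem_coe, mem_subgroupOf] at hk
      rw [mem_subgroupOf]
      show ((Subgroup.equivSMul (MulAut.conj x) K k : (MulAut.conj x • K : Subgroup G)) : G)
        ∈ MulAut.conj x • A
      rw [Subgroup.equivSMul_apply_coe]
      exact Subgroup.smul_mem_pointwise_smul _ _ _ hk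
    · intro hz
      rw [mem_subgroupOf, mem_conj_smul_iff] at hz
      have hzK : x⁻¹ * (z : G) * x ∈ K := by
        have := z.2
        rwa [mem_conj_smul_iff] at this
      refine ⟨⟨x⁻¹ * (z : G) * x, hzK⟩, mem_subgroupOf.mpr hz, ?_⟩
      apply Subtype.ext
      show ((Subgroup.equivSMul (MulAut.conj x) K ⟨x⁻¹ * (z : G) * x, hzK⟩ :
        (MulAut.conj x • K : Subgroup G)) : G) = z
      rw [Subgroup.equivSMul_apply_coe]
      simp [MulAut.smul_def, mul_assoc]
  rwa [h2] at h1

theorem isSubnormal_subgroupOf_subgroupOf {G : Type u} [Group G] (A J H : Subgroup G)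
    (hJH : J ≤ H) (h : (A.subgroupOf J).IsSubnormal) :
    ((A.subgroupOf H).subgroupOf (J.subgroupOf H)).IsSubnormal := by
  have h1 := h.comap (Subgroup.subgroupOfEquivOfLe hJH).toMonoidHom
  have h2 : (A.subgroupOf J).comap (Subgroup.subgroupOfEquivOfLe hJH).toMonoidHom
      = (A.subgroupOf H).subgroupOf (J.subgroupOf H) := by
    ext z
    simp only [mem_comap, mem_subgroupOf]
    rfl
  rwa [h2] at h1

/-- In a finite nilpotent group every subgroup is subnormal. -/
theorem isSubnormal_of_isNilpotent {G : Type u} [Group G] [Finite G] [Group.IsNilpotent G]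
    (H : Subgroup G) : H.IsSubnormal := by
  have key : ∀ d : ℕ, ∀ H : Subgroup G, Nat.card G - Nat.card H ≤ d → H.IsSubnormal := by
    intro d
    induction d with
    | zero =>
      intro H hH
      have hle : Nat.card H ≤ Nat.card G := Subgroup.card_le_card_group H
      have : H = ⊤ := Subgroup.eq_top_of_le_card H (by omega)
      rw [this]; exact IsSubnormal.top
    | succ d ih =>
      intro H hH
      by_cases htop : H = ⊤
      · rw [htop]; exact IsSubnormal.top
      have hnc := Group.normalizerCondition_of_isNilpotent (G := G)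
      have hlt := hnc H (lt_top_iff_ne_top.mpr htop)
      have hcard := card_lt_card_of_lt_sub hlt
      have hle : Nat.card (normalizer (H : Set G)) ≤ Nat.card G := Subgroup.card_le_card_group _
      have hN := ih (normalizer (H : Set G)) (by omega)
      exact IsSubnormal.step H _ le_normalizer hN inferInstance
  exact key _ H le_rfl

/-- Wielandt's zipper lemma. -/
theorem zipper {G : Type u} [Group G] [Finite G] : ∀ (d : ℕ) (S : Subgroup G),
    Nat.card G - Nat.card S ≤ d → ¬ S.IsSubnormal →
    (∀ H : Subgroup G, S ≤ H → H ≠ ⊤ → (S.subgroupOf H).IsSubnormal) →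
    ∃ M : Subgroup G, S ≤ M ∧ M ≠ ⊤ ∧ ∀ K : Subgroup G, S ≤ K → K ≠ ⊤ → K ≤ M := by
  intro d
  induction d with
  | zero =>
    intro S hS hns _
    exfalso; apply hns
    have hle : Nat.card S ≤ Nat.card G := Subgroup.card_le_card_group S
    have : S = ⊤ := Subgroup.eq_top_of_le_card S (by omega)
    rw [this]; exact IsSubnormal.top
  | succ d ih =>
    intro S hS hns hyp
    have hnn : ¬ S.Normal := fun h => hns h.isSubnormal
    have hNtop : normalizer (S : Set G) ≠ ⊤ := fun h => hnn (normalizer_eq_top_iff.mp h)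
    obtain ⟨M, hNM, hMmax⟩ := Finite.exists_le_maximal (p := fun K : Subgroup G => K ≠ ⊤)
      (a := normalizer (S : Set G)) hNtop
    have hSM : S ≤ M := le_normalizer.trans hNM
    refine ⟨M, hSM, hMmax.prop, ?_⟩
    intro K hSK hKtop
    obtain ⟨K', hKK', hK'max⟩ := Finite.exists_le_maximal (p := fun K : Subgroup G => K ≠ ⊤)
      (a := K) hKtop
    have hSK' : S ≤ K' := hSK.trans hKK'
    suffices h : K' ≤ M from hKK'.trans h
    have hrel := hyp K' hSK' hK'max.prop
    by_cases hnorm : (S.subgroupOf K').Normal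
    · exact ((normal_subgroupOf_iff_le_normalizer hSK').mp hnorm).trans hNM
    · obtain ⟨x, hxN, hxle⟩ := exists_conj_le_normalizer _ hrel hnorm
      have hy_notin : (x : G) ∉ normalizer (S : Set G) := by
        intro hy
        apply hxN
        rw [mem_normalizer_iff]
        intro h
        rw [mem_subgroupOf, mem_subgroupOf]
        exact (mem_normalizer_iff.mp hy (h : G))
      have hconjK : MulAut.conj (x : G) • S ≤ K' := by
        intro s hs
        rw [mem_conj_smul_iff] at hs
        have h1 := K'.mul_mem (K'.mul_mem x.2 (hSK' hs)) (K'.inv_mem x.2)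
        simpa [mul_assoc] using h1
      have hconjN : MulAut.conj (x : G) • S ≤ normalizer (S : Set G) := by
        intro s hs
        have hsK : s ∈ K' := hconjK hs
        have h1 : (⟨s, hsK⟩ : K') ∈ MulAut.conj x • S.subgroupOf K' := by
          rw [conj_smul_subgroupOf, mem_subgroupOf]; exact hs
        have h2 := hxle h1
        apply mem_normalizer_of_conj_smul_le
        intro t ht
        rw [mem_conj_smul_iff] at ht
        have h3 := (mem_normalizer_iff.mp h2 ⟨s⁻¹ * t * s, hSK' ht⟩).mp (mem_subgroupOf.mpr ht)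
        rw [mem_subgroupOf] at h3
        have h4 : ((⟨s, hsK⟩ * ⟨s⁻¹ * t * s, hSK' ht⟩ * (⟨s, hsK⟩ : K')⁻¹ : K') : G) = t := by
          show s * (s⁻¹ * t * s) * s⁻¹ = t
          group
        rwa [h4] at h3
      have hTN : S ⊔ MulAut.conj (x : G) • S ≤ normalizer (S : Set G) :=
        sup_le le_normalizer hconjN
      have hTM : S ⊔ MulAut.conj (x : G) • S ≤ M := hTN.trans hNM
      have hTK' : S ⊔ MulAut.conj (x : G) • S ≤ K' := sup_le hSK' hconjK
      have hST : S < S ⊔ MulAut.conj (x : G) • S := by
        refine lt_of_le_of_ne le_sup_left ?_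
        intro heq
        apply hy_notin
        apply mem_normalizer_of_conj_smul_le
        calc MulAut.conj (x : G) • S ≤ S ⊔ MulAut.conj (x : G) • S := le_sup_right
          _ = S := heq.symm
      have hcard := card_lt_card_of_lt_sub hST
      have hTle : Nat.card (S ⊔ MulAut.conj (x : G) • S : Subgroup G) ≤ Nat.card G :=
        Subgroup.card_le_card_group _
      have hTns : ¬ (S ⊔ MulAut.conj (x : G) • S).IsSubnormal := fun hT =>
        hns (IsSubnormal.step S _ le_sup_left hT
          ((normal_subgroupOf_iff_le_normalizer le_sup_left).mpr hTN))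
      have hThyp : ∀ L : Subgroup G, S ⊔ MulAut.conj (x : G) • S ≤ L → L ≠ ⊤ →
          ((S ⊔ MulAut.conj (x : G) • S).subgroupOf L).IsSubnormal := by
        intro L hTL hLtop
        have hSL : S ≤ L := le_sup_left.trans hTL
        have hcL : MulAut.conj (x : G) • S ≤ L := le_sup_right.trans hTL
        have h1 := hyp L hSL hLtop
        have hL' : MulAut.conj (x : G)⁻¹ • L ≠ ⊤ := by
          intro h
          apply hLtop
          rw [eq_top_iff]
          intro g _
          have h5 : (x : G)⁻¹ * g * (x : G) ∈ MulAut.conj (x : G)⁻¹ • L := by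
            rw [h]; exact mem_top _
          rw [mem_conj_smul_iff] at h5
          simpa [mul_assoc] using h5
        have hSL' : S ≤ MulAut.conj (x : G)⁻¹ • L := (conj_smul_le_iff (x : G) S L).mp hcL
        have h2 := hyp _ hSL' hL'
        have h3 := isSubnormal_conj_rel S (MulAut.conj (x : G)⁻¹ • L) (x : G) h2
        rw [conj_smul_smul_inv] at h3
        have h4 := isSubnormal_sup _ _ h1 h3
        rwa [← subgroupOf_sup hSL hcL] at h4
      obtain ⟨M', hTM', hM'top, hM'⟩ := ih _ (by omega) hTns hThyp
      have h5 : M ≤ M' := hM' M hTM hMmax.prop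
      have h6 : K' ≤ M' := hM' K' hTK' hK'max.prop
      have h7 : M' ≤ M := hMmax.le_of_ge hM'top h5
      exact h6.trans h7

/-- Wielandt's subnormality criterion. -/
theorem wielandt_criterion_aux : ∀ (n : ℕ) (G : Type u) [Group G] [Finite G], Nat.card G = n →
    ∀ A : Subgroup G, (∀ g : G, (A.subgroupOf (A ⊔ MulAut.conj g • A)).IsSubnormal) →
      A.IsSubnormal := by
  intro n
  induction n using Nat.strong_induction_on with
  | _ n ih =>
  intro G _ _ hcard A h
  by_contra hA
  have hprop : ∀ H : Subgroup G, A ≤ H → H ≠ ⊤ → (A.subgroupOf H).IsSubnormal := by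
    intro H hAH hH
    have hlt : Nat.card H < n := by
      rw [← hcard, ← Subgroup.card_top (G := G)]
      exact card_lt_card_of_lt_sub (lt_top_iff_ne_top.mpr hH)
    apply ih _ hlt H rfl
    intro g
    have hc : MulAut.conj (g : G) • A ≤ H := by
      intro s hs; rw [mem_conj_smul_iff] at hs
      have h1 := H.mul_mem (H.mul_mem g.2 (hAH hs)) (H.inv_mem g.2)
      simpa [mul_assoc] using h1
    rw [conj_smul_subgroupOf, ← subgroupOf_sup hAH hc]
    exact isSubnormal_subgroupOf_subgroupOf A _ H (sup_le hAH hc) (h g)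
  obtain ⟨M, hAM, hMtop, hM⟩ := zipper _ A le_rfl hA hprop
  have hconj : ∀ g : G, MulAut.conj g • A ≤ M := by
    intro g
    have hJ : A ⊔ MulAut.conj g • A ≠ ⊤ := by
      intro htop
      apply hA
      have h1 := h g
      exact IsSubnormal.trans le_sup_left h1 (htop ▸ IsSubnormal.top)
    exact le_sup_right.trans (hM _ le_sup_left hJ)
  have hNM : normalClosure (A : Set G) ≤ M := by
    rw [normalClosure, closure_le]
    intro y hy
    obtain ⟨a, ha, hconj'⟩ := Group.mem_conjugatesOfSet_iff.mp hy
    obtain ⟨c, rfl⟩ := isConj_iff.mp hconj'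
    exact hconj c (conj_mem_conj_smul c ha)
  have hNtop : normalClosure (A : Set G) ≠ ⊤ := fun htop => hMtop (top_le_iff.mp (htop ▸ hNM))
  exact hA (IsSubnormal.trans le_normalClosure (hprop _ le_normalClosure hNtop)
    (normalClosure_normal.isSubnormal))

theorem wielandt_criterion {G : Type u} [Group G] [Finite G] (A : Subgroup G)
    (h : ∀ g : G, (A.subgroupOf (A ⊔ MulAut.conj g • A)).IsSubnormal) : A.IsSubnormal :=
  wielandt_criterion_aux _ G rfl A h

end Cfsg.Agent.Lib.Helper9
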