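import Mathlib

set_option autoImplicit false

namespace Cfsg.Agent.Lib.Helper9

open Subgroup
open scoped commutatorElement

universe u

/-- In a finite nilpotent group the commutator subgroup lies in the Frattini subgroup. -/
theorem commutator_le_frattini_of_isNilpotent (F : Type u) [Group F] [Finite F]
    [Group.IsNilpotent F] : commutator F ≤ frattini F := by
  unfold frattini Order.radical
  refine le_iInf₂ ?_
  intro M hM
  have hM' : IsCoatom M := hM
  have hMn : M.Normal :=
    NormalizerCondition.normal_of_coatom M Group.normalizerCondition_of_isNilpotent hM'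
  have hnt : Nontrivial (F ⧸ M) := by
    rw [← Finite.one_lt_card_iff_nontrivial]
    have h1 : Nat.card (F ⧸ M) ≠ 1 := by
      rw [← Subgroup.index_eq_card]; exact fun h1 => hM'.1 (Subgroup.index_eq_one.mp h1)
    have h2 : 0 < Nat.card (F ⧸ M) := Nat.card_pos
    omega
  have hlt := Group.IsSolvable.commutator_lt_top_of_nontrivial (F ⧸ M)
  have hsurj : Function.Surjective (QuotientGroup.mk' M) := QuotientGroup.mk'_surjective M
  have hK : (commutator (F ⧸ M)).comap (QuotientGroup.mk' M) = M := by
    by_contra hne
    have hle : M ≤ (commutator (F ⧸ M)).comap (QuotientGroup.mk' M) := by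
      intro x hx
      have h0 : QuotientGroup.mk' M x = 1 := (QuotientGroup.eq_one_iff x).mpr hx
      rw [Subgroup.mem_comap, h0]
      exact Subgroup.one_mem _
    have h1 := hM'.2 _ (lt_of_le_of_ne hle (Ne.symm hne))
    have h2 : commutator (F ⧸ M) = ⊤ := by
      rw [← Subgroup.map_comap_eq_self_of_surjective hsurj (commutator (F ⧸ M)), h1,
        Subgroup.map_top_of_surjective _ hsurj]
    exact hlt.ne h2
  rw [← hK, ← Subgroup.map_le_iff_le_comap, _root_.commutator_def, Subgroup.map_commutator,
    Subgroup.map_top_of_surjective _ hsurj]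
  exact le_of_eq (_root_.commutator_def (F ⧸ M)).symm

/-- A finite nilpotent group with trivial Frattini subgroup is abelian. -/
theorem comm_of_isNilpotent_of_frattini_eq_bot (F : Type u) [Group F] [Finite F]
    [Group.IsNilpotent F] (h : frattini F = ⊥) (a b : F) : a * b = b * a := by
  have h1 : ⁅a, b⁆ ∈ commutator F := by
    rw [_root_.commutator_def]
    exact Subgroup.commutator_mem_commutator (Subgroup.mem_top a) (Subgroup.mem_top b)
  have h2 := commutator_le_frattini_of_isNilpotent F h1
  rw [h, Subgroup.mem_bot] at h2
  exact commutatorElement_eq_one_iff_mul_comm.mp h2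

end Cfsg.Agent.Lib.Helper9
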