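import Cfsg.Agent.Lib.Helper2.Frobenius
import Cfsg.Agent.Lib.Helper8.CoprimeOmega

set_option autoImplicit false

namespace Cfsg.Agent.Lib.Helper9

open Subgroup Cfsg.Agent.Lib.Helper2 Cfsg.Agent.Lib.Helper8

universe u

/-- Frobenius' condition follows once `p'`-elements normalizing a `p`-subgroup `Q` centralize the
elements of `Q` of order dividing `e` (`e = p` for odd `p`, `e = 4` for `p = 2`). -/
theorem frobCond_of_omega {G : Type u} [Group G] [Finite G] (p : ℕ) [Fact p.Prime] (e : ℕ)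
    (hpe : p ∣ e) (hch : p ∣ e.choose 2)
    (h : ∀ Q : Subgroup G, IsPGroup p Q → ∀ g ∈ normalizer (Q : Set G), (orderOf g).Coprime p →
      ∀ x ∈ Q, x ^ e = 1 → g * x = x * g) : FrobCond p G := by
  intro Q hQ g hg hgp
  have key := h8_coprime_aut_omega p e hpe hch g (orderOf g) hgp (pow_orderOf_eq_one g) _ Q rfl hQ
    (fun x hx => (Subgroup.mem_normalizer_iff.mp hg x).mp hx) (h Q hQ g hg hgp)
  rw [Subgroup.mem_centralizer_iff]
  intro x hx
  exact (key x hx).symm

/-- The exponent `e` to use: `p` for odd `p`, `4` for `p = 2`. -/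
theorem exists_omega_exp (p : ℕ) [hp : Fact p.Prime] :
    ∃ e : ℕ, p ∣ e ∧ p ∣ e.choose 2 ∧ (p ≠ 2 → e = p) ∧ (p = 2 → e = 4) := by
  by_cases h2 : p = 2
  · refine ⟨4, ?_, ?_, fun h => absurd h2 h, fun _ => rfl⟩
    · rw [h2]; decide
    · rw [h2]; decide
  · refine ⟨p, dvd_rfl, ?_, fun _ => rfl, fun h => absurd h h2⟩
    exact hp.out.dvd_choose_self (by norm_num) (lt_of_le_of_ne hp.out.two_le (Ne.symm h2))

end Cfsg.Agent.Lib.Helper9
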