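import Mathlib
import Cfsg.Prelude.Def_Characters
import Cfsg.Prelude.Def_Solvable
import Cfsg.Agent.Lib.Lead.CharCons
import Cfsg.Agent.Lib.Lead.CharNorm
import Cfsg.Agent.Lib.Lead.CharComplete
import Cfsg.Agent.Lib.Lead.CharRing
import Cfsg.Agent.Lib.Helper7.FrobCount

set_option autoImplicit false

namespace Cfsg.Agent.Lib.Helper9

open Cfsg Cfsg.Agent.Lib.Lead
open Cfsg.Agent.Lib.Helper2 (extendByZero_mem extendByZero_not_mem frobenius_reciprocity
  indFun_isClassFunction sum_extendByZero_mul)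
open Cfsg.Agent.Lib.Helper7 (fc_mal fc_mem_kernel_iff fc_kernel_card)
open scoped ComplexConjugate

section FrobThm

variable {G : Type*} [Group G] [Fintype G]

/-- Induction from a Frobenius complement fixes the class functions vanishing at `1`. -/
theorem frob_ind_apply (H : Subgroup G) [Fintype H] (hH : IsFrobeniusComplement H) (φ : H → ℂ)
    (hφ : IsClassFunction H φ) (hφ1 : φ 1 = 0) (h : H) : indFun H φ (h : G) = φ h := by
  classical
  by_cases h1 : h = 1
  · subst h1
    rw [Subgroup.coe_one, indFun_one, hφ1, mul_zero]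
  · unfold indFun
    have hH0 : (Nat.card H : ℂ) ≠ 0 := by exact_mod_cast (Nat.card_pos (α := H)).ne'
    have key : ∀ x : G, extendByZero H φ (x⁻¹ * (h : G) * x) =
        extendByZero H (fun _ : H => φ h) x * (fun _ : G => (1 : ℂ)) x := by
      intro x
      by_cases hx : x ∈ H
      · have hmem : x⁻¹ * (h : G) * x ∈ H := H.mul_mem (H.mul_mem (H.inv_mem hx) h.2) hx
        rw [extendByZero_mem H φ hmem, extendByZero_mem H _ hx, mul_one]
        have h2 := hφ h (⟨x, hx⟩⁻¹ : H)
        rw [← h2]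
        congr 1
        apply Subtype.ext
        simp
      · have hnm : x⁻¹ * (h : G) * x ∉ H := by
          intro hm
          exact hx (fc_mal H hH x (h : G) h.2 (fun e => h1 (Subtype.ext e)) hm)
        rw [extendByZero_not_mem H φ hnm, extendByZero_not_mem H _ hx, zero_mul]
    have hsum : ∑ x : G, extendByZero H φ (x⁻¹ * (h : G) * x) =
        ∑ y : H, (fun _ : H => φ h) y * (fun _ : G => (1 : ℂ)) (y : G) := by
      rw [← sum_extendByZero_mul H (fun _ : H => φ h) (fun _ : G => (1 : ℂ))]
      exact Finset.sum_congr rfl (fun x _ => key x)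
    rw [hsum]
    simp only [mul_one, Finset.sum_const, Finset.card_univ, nsmul_eq_mul]
    rw [← Nat.card_eq_fintype_card]
    field_simp

/-- Induced functions vanish off the conjugates of the subgroup. -/
theorem frob_ind_zero (H : Subgroup G) (θ : H → ℂ) (g : G) (hg : ∀ x : G, x⁻¹ * g * x ∉ H) :
    indFun H θ g = 0 := by
  unfold indFun
  rw [Finset.sum_eq_zero (fun x _ => extendByZero_not_mem H θ (hg x)), mul_zero]

/-- The extension `θ^G - θ(1) (1_H)^G + θ(1) 1_G` of a class function of a Frobenius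
complement. -/
noncomputable def frobExt (H : Subgroup G) (θ : H → ℂ) : G → ℂ :=
  fun g => indFun H (fun h => θ h - θ 1) g + θ 1

theorem frobExt_isClassFunction (H : Subgroup G) (θ : H → ℂ) :
    IsClassFunction G (frobExt H θ) := by
  intro g y
  unfold frobExt
  rw [indFun_isClassFunction H _ g y]

theorem frobExt_apply_coe (H : Subgroup G) [Fintype H] (hH : IsFrobeniusComplement H)
    (θ : H → ℂ) (hθ : IsClassFunction H θ) (h : H) : frobExt H θ (h : G) = θ h := by
  unfold frobExt
  rw [frob_ind_apply H hH _ (fun a b => by show θ (b * a * b⁻¹) - θ 1 = θ a - θ 1; rw [hθ a b]) (by simp) h]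
  ring

theorem frobExt_apply_kernel (H : Subgroup G) [Fintype H] (hH : IsFrobeniusComplement H)
    (θ : H → ℂ) (hθ : IsClassFunction H θ) (k : G) (hk : k ∈ frobeniusKernel H) :
    frobExt H θ k = θ 1 := by
  rcases (fc_mem_kernel_iff H k).mp hk with rfl | hk'
  · have h1 := frobExt_apply_coe H hH θ hθ 1
    rw [Subgroup.coe_one] at h1
    exact h1
  · unfold frobExt
    rw [frob_ind_zero H _ k hk', zero_add]

theorem frobExt_inner (H : Subgroup G) [Fintype H] (θ : H → ℂ) (χ : G → ℂ)
    (hχ : IsClassFunction G χ) :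
    classInner (frobExt H θ) χ = classInner θ (fun h : H => χ h)
      - θ 1 * classInner (fun _ : H => (1 : ℂ)) (fun h : H => χ h)
      + θ 1 * classInner (fun _ : G => (1 : ℂ)) χ := by
  have e : frobExt H θ = indFun H (fun h => θ h - θ 1) + (θ 1) • (fun _ : G => (1 : ℂ)) := by
    funext g; simp [frobExt]
  rw [e, classInner_add_left, classInner_smul_left, frobenius_reciprocity H _ χ hχ]
  have e2 : (fun h : H => θ h - θ 1) = θ - (θ 1) • (fun _ : H => (1 : ℂ)) := by
    funext h; simp
  rw [e2, classInner_sub_left, classInner_smul_left]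

theorem classInner_one_one : classInner (fun _ : G => (1 : ℂ)) (fun _ : G => (1 : ℂ)) = 1 := by
  have h0 : (Nat.card G : ℂ) ≠ 0 := card_ne_zero_complex
  unfold classInner
  simp only [map_one, mul_one, Finset.sum_const, Finset.card_univ, nsmul_eq_mul]
  rw [← Nat.card_eq_fintype_card]
  field_simp

theorem frobExt_norm (H : Subgroup G) [Fintype H] (hH : IsFrobeniusComplement H)
    (θ : H → ℂ) (hθ : IsIrrCharacter H θ) :
    classInner (frobExt H θ) (frobExt H θ) = 1 := by
  have hcl : IsClassFunction H θ := isClassFunction_of_isCharacter (isCharacter_of_isIrrCharacter hθ)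
  have hres : (fun h : H => frobExt H θ (h : G)) = θ := by
    funext h; exact frobExt_apply_coe H hH θ hcl h
  have h1 : classInner (frobExt H θ) (fun _ : G => (1 : ℂ)) =
      classInner θ (fun _ : H => (1 : ℂ)) := by
    rw [frobExt_inner H θ _ (fun _ _ => rfl), classInner_one_one, classInner_one_one]
    ring
  rw [frobExt_inner H θ _ (frobExt_isClassFunction H θ), hres,
    classInner_conj_symm (frobExt H θ) (fun _ : G => (1 : ℂ)), h1,
    ← classInner_conj_symm θ (fun _ : H => (1 : ℂ)), irr_orthonormal hθ hθ, if_pos rfl]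
  ring

/-- A class function with integral inner products against the irreducible characters, of
norm one and positive degree, is an irreducible character. -/
theorem isIrr_of_int_norm_one {ψ : G → ℂ} (hψ : IsClassFunction G ψ)
    (hint : ∀ χ : IrrCharacter G, ∃ z : ℤ, classInner ψ χ = (z : ℂ))
    (hnorm : classInner ψ ψ = 1) (n : ℕ) (hn : 0 < n) (h1 : ψ 1 = (n : ℂ)) :
    IsIrrCharacter G ψ := by
  classical
  have : Finite (IrrCharacter G) := irr_finite
  let _i : Fintype (IrrCharacter G) := Fintype.ofFinite _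
  choose m hm using hint
  have hexp := expansion ψ hψ
  have hsq : ∑ χ : IrrCharacter G, m χ * m χ = 1 := by
    have h0 : classInner ψ ψ =
        classInner (∑ χ : IrrCharacter G, classInner ψ χ • (χ : G → ℂ)) ψ := by
      rw [← hexp]
    have h2 : classInner ψ ψ = ∑ χ : IrrCharacter G, (m χ : ℂ) * (m χ : ℂ) := by
      rw [h0, classInner_sum_left]
      apply Finset.sum_congr rfl
      intro χ _
      rw [classInner_smul_left, classInner_conj_symm ψ χ, hm χ, map_intCast]
    have h3 : ((∑ χ : IrrCharacter G, m χ * m χ : ℤ) : ℂ) = ((1 : ℤ) : ℂ) := by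
      push_cast; rw [← h2, hnorm]
    exact_mod_cast h3
  obtain ⟨χ₀, hχ₀⟩ : ∃ χ₀ : IrrCharacter G, m χ₀ ≠ 0 := by
    by_contra hcon
    have hall : ∀ χ : IrrCharacter G, m χ = 0 := fun χ => by
      by_contra h; exact hcon ⟨χ, h⟩
    simp [hall] at hsq
  rw [← Finset.add_sum_erase Finset.univ _ (Finset.mem_univ χ₀)] at hsq
  have hpos : 1 ≤ m χ₀ * m χ₀ := by
    have := mul_self_pos.mpr hχ₀
    omega
  have hnn : 0 ≤ ∑ χ ∈ Finset.univ.erase χ₀, m χ * m χ :=
    Finset.sum_nonneg (fun χ _ => mul_self_nonneg (m χ))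
  have hrest : ∑ χ ∈ Finset.univ.erase χ₀, m χ * m χ = 0 := by omega
  have h1' : m χ₀ * m χ₀ = 1 := by omega
  have hothers : ∀ χ : IrrCharacter G, χ ≠ χ₀ → m χ = 0 := by
    intro χ hχ
    have := (Finset.sum_eq_zero_iff_of_nonneg (fun χ _ => mul_self_nonneg (m χ))).mp hrest χ
      (Finset.mem_erase.mpr ⟨hχ, Finset.mem_univ χ⟩)
    exact mul_self_eq_zero.mp this
  have hψeq : ψ = (m χ₀ : ℂ) • (χ₀ : G → ℂ) := by
    conv_lhs => rw [hexp]
    rw [Finset.sum_eq_single χ₀]
    · rw [hm χ₀]
    · intro b _ hb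
      rw [hm b, hothers b hb]; simp
    · intro hh; exact absurd (Finset.mem_univ _) hh
  have hdeg := isIrrCharacter_one_eq_charDegree χ₀.2
  have hdpos := charDegree_pos_of_irr χ₀.2
  rcases mul_self_eq_one_iff.mp h1' with hm1 | hm1
  · rw [hψeq, hm1]
    simp only [Int.cast_one, one_smul]
    exact χ₀.2
  · exfalso
    have h5 : ψ 1 = -(Cfsg.charDegree (χ₀ : G → ℂ) : ℂ) := by
      rw [hψeq, hm1]
      simp [hdeg]
    rw [h1] at h5
    have h6 : ((n + Cfsg.charDegree (χ₀ : G → ℂ) : ℕ) : ℂ) = 0 := by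
      push_cast; rw [h5]; ring
    have h7 : n + Cfsg.charDegree (χ₀ : G → ℂ) = 0 := by exact_mod_cast h6
    omega

theorem frobExt_isIrr (H : Subgroup G) [Fintype H] (hH : IsFrobeniusComplement H)
    (θ : H → ℂ) (hθ : IsIrrCharacter H θ) : IsIrrCharacter G (frobExt H θ) := by
  have hθc := isCharacter_of_isIrrCharacter hθ
  have hcl : IsClassFunction H θ := isClassFunction_of_isCharacter hθc
  have hdeg := isIrrCharacter_one_eq_charDegree hθ
  apply isIrr_of_int_norm_one (frobExt_isClassFunction H θ) ?_ (frobExt_norm H hH θ hθ)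
    (Cfsg.charDegree θ) (charDegree_pos_of_irr hθ)
  · have h1 := frobExt_apply_coe H hH θ hcl 1
    rw [Subgroup.coe_one] at h1
    rw [h1, hdeg]
  · intro χ
    have hχc := isCharacter_of_isIrrCharacter χ.2
    obtain ⟨n₁, hn₁⟩ := classInner_isCharacter_nat hθc (isCharacter_res H hχc)
    obtain ⟨n₂, hn₂⟩ := classInner_isCharacter_nat (isCharacter_one (G := H))
      (isCharacter_res H hχc)
    obtain ⟨n₃, hn₃⟩ := classInner_isCharacter_nat (isCharacter_one (G := G)) hχc
    refine ⟨(n₁ : ℤ) - (Cfsg.charDegree θ : ℤ) * n₂ + (Cfsg.charDegree θ : ℤ) * n₃, ?_⟩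
    rw [frobExt_inner H θ _ (isClassFunction_irr χ), hn₁, hn₂, hn₃, hdeg]
    push_cast
    ring

end FrobThm

/-- The kernel `{g | χ g = χ 1}` of a character is a normal subgroup. -/
theorem exists_char_ker {G : Type*} [Group G] [Finite G] {χ : G → ℂ} (hχ : IsCharacter G χ) :
    ∃ N : Subgroup G, N.Normal ∧ ∀ g, g ∈ N ↔ χ g = χ 1 := by
  obtain ⟨n, ρ, rfl⟩ := hχ
  refine ⟨MonoidHom.ker ρ, MonoidHom.normal_ker ρ, ?_⟩
  intro g
  rw [MonoidHom.mem_ker, Representation.char_one, char_eq_finrank_iff]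
  rfl

/-- **Frobenius' theorem**: the Frobenius kernel is a normal subgroup complementing the
Frobenius complement. -/
theorem frobenius_kernel_subgroup {G : Type*} [Group G] [Finite G] (H : Subgroup G)
    (hH : IsFrobeniusComplement H) :
    ∃ N : Subgroup G, (N : Set G) = frobeniusKernel H ∧ N.Normal ∧
      Subgroup.IsComplement' N H := by
  classical
  let _i1 : Fintype G := Fintype.ofFinite G
  let _i2 : Fintype H := Fintype.ofFinite H
  have hirr : ∀ θ : IrrCharacter H, IsIrrCharacter G (frobExt H (θ : H → ℂ)) :=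
    fun θ => frobExt_isIrr H hH θ θ.2
  have hex : ∀ θ : IrrCharacter H, ∃ N : Subgroup G, N.Normal ∧
      ∀ g, g ∈ N ↔ frobExt H (θ : H → ℂ) g = frobExt H (θ : H → ℂ) 1 :=
    fun θ => exists_char_ker (isCharacter_of_isIrrCharacter (hirr θ))
  choose Nθ hNn hNmem using hex
  have hcl : ∀ θ : IrrCharacter H, IsClassFunction H (θ : H → ℂ) := fun θ => isClassFunction_irr θ
  have h1K : (1 : G) ∈ frobeniusKernel H := (fc_mem_kernel_iff H 1).mpr (Or.inl rfl)
  have hset : ((⨅ θ, Nθ θ : Subgroup G) : Set G) = frobeniusKernel H := by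
    ext g
    rw [SetLike.mem_coe, Subgroup.mem_iInf]
    constructor
    · intro hg
      by_contra hgK
      rw [fc_mem_kernel_iff] at hgK
      have hg1 : g ≠ 1 := fun h => hgK (Or.inl h)
      obtain ⟨x, hx⟩ : ∃ x : G, x⁻¹ * g * x ∈ H := by
        by_contra hcon
        exact hgK (Or.inr (fun x hx => hcon ⟨x, hx⟩))
      have hconj : IsConj (⟨x⁻¹ * g * x, hx⟩ : H) 1 := by
        rw [isConj_iff_forall_irr]
        intro θ
        have e1 := frobExt_apply_coe H hH (θ : H → ℂ) (hcl θ) ⟨x⁻¹ * g * x, hx⟩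
        have e2 := frobExt_apply_coe H hH (θ : H → ℂ) (hcl θ) 1
        rw [Subgroup.coe_one] at e2
        have e3 := frobExt_isClassFunction H (θ : H → ℂ) g x⁻¹
        rw [inv_inv] at e3
        rw [← e1, ← e2]
        show frobExt H (θ : H → ℂ) (x⁻¹ * g * x) = _
        rw [e3]
        exact (hNmem θ g).mp (hg θ)
      have h2 : (⟨x⁻¹ * g * x, hx⟩ : H) = 1 := isConj_one_left.mp hconj
      have h3 : x⁻¹ * g * x = 1 := congrArg Subtype.val h2
      apply hg1
      have h4 : g = x * (x⁻¹ * g * x) * x⁻¹ := by group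
      rw [h4, h3]; group
    · intro hgK θ
      rw [hNmem θ g, frobExt_apply_kernel H hH _ (hcl θ) g hgK,
        frobExt_apply_kernel H hH _ (hcl θ) 1 h1K]
  refine ⟨⨅ θ, Nθ θ, hset, Subgroup.normal_iInf_normal hNn, ?_⟩
  apply Subgroup.isComplement'_of_card_mul_and_disjoint
  · have hc : Nat.card (⨅ θ, Nθ θ : Subgroup G) = Nat.card (frobeniusKernel H) := by
      rw [← hset]; rfl
    rw [hc, fc_kernel_card H hH, mul_comm]
    exact Subgroup.card_mul_index H
  · rw [Subgroup.disjoint_def]
    intro x hxN hxH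
    have hxK : x ∈ frobeniusKernel H := by rw [← hset]; exact hxN
    rcases (fc_mem_kernel_iff H x).mp hxK with h | h
    · exact h
    · exfalso
      apply h 1
      simpa using hxH

end Cfsg.Agent.Lib.Helper9
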