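import Cfsg.Agent.Lib.Helper9.ThompsonFPF

set_option autoImplicit false
set_option linter.style.haveILetI false

namespace Cfsg.Agent.Lib.Helper9

open Cfsg
open scoped Pointwise

universe u

/-- `α` is a splitting endomorphism of period `r` -/
def KSpl {G : Type*} [Group G] (r : ℕ) (α : G →* G) : Prop :=
  (α : G → G)^[r] = id ∧ ∀ x : G, ((List.range r).map (fun i => α^[i] x)).prod = 1

theorem kspl_conj {G : Type*} [Group G] {r : ℕ} {α : G →* G} (h : KSpl r α) (g : G) :
    KSpl r ((MulAut.conj g).toMonoidHom.comp α) := by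
  obtain ⟨hper, hspl⟩ := h
  have hβapp : ∀ x, ((MulAut.conj g).toMonoidHom.comp α) x = g * α x * g⁻¹ := fun x => rfl
  generalize (MulAut.conj g).toMonoidHom.comp α = β at hβapp
  have hc0 : ((List.range 0).map (fun i => α^[i] g)).prod = 1 := rfl
  have hcs : ∀ m, ((List.range (m + 1)).map (fun i => α^[i] g)).prod =
      ((List.range m).map (fun i => α^[i] g)).prod * α^[m] g := by
    intro m
    simp only [List.range_succ, List.map_append, List.prod_append, List.map_cons, List.map_nil,
      List.prod_cons, List.prod_nil, mul_one]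
  have hcs' : ∀ m, ((List.range (m + 1)).map (fun i => α^[i] g)).prod =
      g * α (((List.range m).map (fun i => α^[i] g)).prod) := by
    intro m
    induction m with
    | zero => rw [hcs 0, hc0, map_one, one_mul, mul_one]; rfl
    | succ m ih =>
      conv_lhs => rw [hcs (m + 1), ih]
      conv_rhs => rw [hcs m, map_mul]
      rw [mul_assoc, Function.iterate_succ_apply']
  obtain ⟨c, hcdef⟩ : ∃ c : ℕ → G, ∀ m, c m = ((List.range m).map (fun i => α^[i] g)).prod :=
    ⟨_, fun m => rfl⟩
  have hc0' : c 0 = 1 := by rw [hcdef]; exact hc0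
  have hcs2 : ∀ m, c (m + 1) = c m * α^[m] g := by intro m; rw [hcdef, hcdef]; exact hcs m
  have hcs2' : ∀ m, c (m + 1) = g * α (c m) := by intro m; rw [hcdef, hcdef]; exact hcs' m
  have hcr : c r = 1 := by rw [hcdef]; exact hspl g
  have hiter : ∀ m x, β^[m] x = c m * α^[m] x * (c m)⁻¹ := by
    intro m
    induction m with
    | zero => intro x; simp [hc0']
    | succ m ih =>
      intro x
      rw [Function.iterate_succ_apply', ih, hβapp, hcs2', map_mul, map_mul, map_inv,
        Function.iterate_succ_apply']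
      group
  refine ⟨?_, ?_⟩
  · funext x
    rw [hiter, hcr, hper]; simp
  · intro x
    have key : ∀ m, ((List.range m).map (fun i => β^[i] x)).prod =
        ((List.range m).map (fun i => α^[i] (x * g))).prod * (c m)⁻¹ := by
      intro m
      induction m with
      | zero => simp [hc0']
      | succ m ih =>
        rw [List.range_succ, List.map_append, List.prod_append, List.map_append, List.prod_append,
          ih]
        simp only [List.map_cons, List.map_nil, List.prod_cons, List.prod_nil, mul_one]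
        rw [hiter, hcs2, iterate_map_mul]
        group
    rw [key, hspl, hcr]; simp

theorem kspl_res {G : Type*} [Group G] {r : ℕ} {α : G →* G} (h : KSpl r α) (H : Subgroup G)
    (hH : ∀ x ∈ H, α x ∈ H) : KSpl r (tfRes α H hH) := by
  refine ⟨?_, ?_⟩
  · funext x
    apply Subtype.ext
    rw [tfRes_iterate, h.1]; rfl
  · intro x
    apply Subtype.ext
    have h2 := h.2 (x : G)
    rw [Subgroup.coe_one, ← h2, ← Subgroup.coe_subtype, map_list_prod, List.map_map]
    congr 1
    apply List.map_congr_left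
    intro i _
    exact tfRes_iterate α H hH i x

theorem kspl_quot {G : Type*} [Group G] {r : ℕ} {α : G →* G} (h : KSpl r α) (N : Subgroup G)
    [N.Normal] (hN : N ≤ N.comap α) : KSpl r (QuotientGroup.map N N α hN) := by
  have hit : ∀ (k : ℕ) (g : G), (QuotientGroup.map N N α hN)^[k] (g : G ⧸ N) =
      ((α^[k] g : G) : G ⧸ N) := by
    intro k
    induction k with
    | zero => intro g; rfl
    | succ k ih =>
      intro g
      rw [Function.iterate_succ_apply', ih, QuotientGroup.map_mk, Function.iterate_succ_apply']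
  refine ⟨?_, ?_⟩
  · funext x
    obtain ⟨g, rfl⟩ := QuotientGroup.mk_surjective x
    rw [hit, h.1]; rfl
  · intro x
    obtain ⟨g, rfl⟩ := QuotientGroup.mk_surjective x
    have h2 := congrArg (QuotientGroup.mk' N) (h.2 g)
    rw [map_list_prod, List.map_map, map_one] at h2
    rw [← h2]
    congr 1
    apply List.map_congr_left
    intro i _
    exact hit i g

theorem kspl_fixed {G : Type*} [Group G] {r : ℕ} {α : G →* G} (h : KSpl r α) (x : G)
    (hx : α x = x) : x ^ r = 1 := by
  have h2 := h.2 x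
  have hi : ∀ i, α^[i] x = x := fun i => Function.iterate_fixed hx i
  simp only [hi] at h2
  simpa using h2

/-- the averaging lemma, with `β` merely splitting on `V` -/
theorem kg_fixed_abs {V S : Type*} [CommGroup V] [Finite V] [Group S] [Finite S]
    (σ : S →* MulAut V) (β : V →* V) (γ : S →* S) (r : ℕ) (hr : r.Prime)
    (hcomp : ∀ s v, β (σ s v) = σ (γ s) (β v))
    (hβ : ∀ v : V, ((List.range r).map (fun k => β^[k] v)).prod = 1)
    (hγ : MonoidHom.FixedPointFree γ) (hγr : (γ : S → S)^[r] = id)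
    (hcop : (Nat.card V).Coprime (Nat.card S))
    (hfix : ∀ v, (∀ s, σ s v = v) → v = 1) (v : V) : v = 1 := by
  classical
  have := Fintype.ofFinite S
  have hT : ∀ w : V, ∏ s : S, σ s w = 1 := by
    intro w
    apply hfix
    intro t
    rw [map_prod]
    refine Fintype.prod_equiv (Equiv.mulLeft t) _ _ (fun s => ?_)
    simp [map_mul]
  have hcompi : ∀ (i : ℕ) (s : S) (v : V), β^[i] (σ s v) = σ (γ^[i] s) (β^[i] v) := by
    intro i
    induction i with
    | zero => intro s v; rfl
    | succ i ih =>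
      intro s v
      rw [Function.iterate_succ_apply', Function.iterate_succ_apply',
        Function.iterate_succ_apply', ih, hcomp]
  have hγi : ∀ (i : ℕ) (s : S), γ^[i] (s⁻¹) = (γ^[i] s)⁻¹ := fun i s => iterate_map_inv γ i s
  have h1 : ∀ s : S, ∏ i ∈ Finset.range r, σ (s * (γ^[i] s)⁻¹) (β^[i] v) = 1 := by
    intro s
    have e : ∀ i ∈ Finset.range r,
        σ (s * (γ^[i] s)⁻¹) (β^[i] v) = σ s (β^[i] (σ s⁻¹ v)) := by
      intro i _
      rw [hcompi, hγi, map_mul]; rfl
    rw [Finset.prod_congr rfl e, ← map_prod]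
    have h := hβ (σ s⁻¹ v)
    have e2 : ∏ i ∈ Finset.range r, β^[i] (σ s⁻¹ v) =
        ((List.range r).map fun k => β^[k] (σ s⁻¹ v)).prod := by
      rfl
    rw [e2, h, map_one]
  have h2 : ∏ s : S, ∏ i ∈ Finset.range r, σ (s * (γ^[i] s)⁻¹) (β^[i] v) = v ^ Nat.card S := by
    rw [Finset.prod_comm]
    obtain ⟨r', rfl⟩ : ∃ r', r = r' + 1 := ⟨r - 1, by have := hr.pos; omega⟩
    rw [Finset.prod_range_succ']
    have e0 : ∏ s : S, σ (s * (γ^[0] s)⁻¹) (β^[0] v) = v ^ Nat.card S := by
      simp [Nat.card_eq_fintype_card]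
    have ei : ∀ i ∈ Finset.range r',
        ∏ s : S, σ (s * (γ^[i + 1] s)⁻¹) (β^[i + 1] v) = 1 := by
      intro i hi
      have hi' := Finset.mem_range.mp hi
      obtain ⟨γi, hγi'⟩ : ∃ γi : S →* S, (γi : S → S) = γ^[i + 1] :=
        ⟨@HPow.hPow (Monoid.End S) ℕ (Monoid.End S) _ γ (i + 1), Monoid.End.coe_pow _ _ _⟩
      have hfpfi : MonoidHom.FixedPointFree γi := by
        intro s hs
        rw [hγi'] at hs
        have hp1 : Function.IsPeriodicPt γ (i + 1) s := hs
        have hp2 : Function.IsPeriodicPt γ (r' + 1) s := congrFun hγr s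
        have hp3 := hp1.gcd hp2
        have hg : Nat.gcd (i + 1) (r' + 1) = 1 := by
          rw [Nat.gcd_comm]
          exact (Nat.Prime.coprime_iff_not_dvd hr).mpr
            (fun hd => by have := Nat.le_of_dvd (by omega) hd; omega)
        rw [hg] at hp3
        exact hγ s hp3
      have hbij : Function.Bijective (MonoidHom.commutatorMap γi) :=
        ⟨hfpfi.commutatorMap_injective, hfpfi.commutatorMap_surjective⟩
      have h := Function.Bijective.prod_comp hbij (fun t => σ t (β^[i + 1] v))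
      rw [← hT (β^[i + 1] v), ← h]
      refine Finset.prod_congr rfl (fun s _ => ?_)
      rw [MonoidHom.commutatorMap_apply, hγi', div_eq_mul_inv]
    rw [Finset.prod_eq_one ei, one_mul, e0]
  have h3 : v ^ Nat.card S = 1 := by
    rw [← h2]; exact Finset.prod_eq_one (fun s _ => h1 s)
  have h4 : orderOf v ∣ Nat.card S := orderOf_dvd_of_pow_eq_one h3
  have h5 : orderOf v ∣ Nat.card V := orderOf_dvd_natCard v
  exact orderOf_eq_one_iff.mp (Nat.eq_one_of_dvd_coprimes hcop h5 h4)

/-- concrete version of the averaging lemma for a splitting endomorphism -/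
theorem kg_fixed {G : Type*} [Group G] [Finite G] (α : G →* G) (r : ℕ) (hr : r.Prime)
    (hα : KSpl r α)
    (V S : Subgroup G) (hV : ∀ x ∈ V, α x ∈ V) (hS : ∀ x ∈ S, α x ∈ S)
    (hfpfS : ∀ x ∈ S, α x = x → x = 1)
    (hab : ∀ a ∈ V, ∀ b ∈ V, a * b = b * a)
    (hSV : S ≤ Subgroup.normalizer (V : Set G)) (hcop : (Nat.card V).Coprime (Nat.card S))
    (hfix : ∀ v ∈ V, (∀ s ∈ S, s * v = v * s) → v = 1) : V = ⊥ := by
  classical
  let _ : CommGroup V :=
    { (inferInstance : Group V) with mul_comm := fun a b => Subtype.ext (hab a a.2 b b.2) }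
  rw [Subgroup.eq_bot_iff_forall]
  intro v hv
  have key := kg_fixed_abs (Cfsg.Agent.S0666.conjOn V S hSV) (tfRes α V hV) (tfRes α S hS) r hr
    ?_ ?_ ?_ ?_ hcop ?_ ⟨v, hv⟩
  · exact congrArg Subtype.val key
  · intro s w
    apply Subtype.ext
    show α ((s : G) * w * (s : G)⁻¹) = α s * α w * (α s)⁻¹
    simp only [map_mul, map_inv]
  · exact (kspl_res hα V hV).2
  · intro w hw
    apply Subtype.ext
    exact hfpfS w w.2 (congrArg Subtype.val hw)
  · exact (kspl_res hα S hS).1
  · intro w hw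
    apply Subtype.ext
    apply hfix w w.2
    intro s hs
    have h1 := hw ⟨s, hs⟩
    have h2 : s * (w : G) * s⁻¹ = w := congrArg Subtype.val h1
    calc s * (w : G) = (s * (w : G) * s⁻¹) * s := by group
      _ = w * s := by rw [h2]

theorem kg_iter_mod {X : Type*} (f : X → X) (r : ℕ) (h : f^[r] = id) (m : ℕ) :
    f^[m] = f^[m % r] := by
  conv_lhs => rw [← Nat.mod_add_div m r]
  rw [Function.iterate_add, Function.iterate_mul, h, Function.iterate_id, Function.comp_id]

/-- commuting operators `ζ`, `b` on an abelian `r'`-group with all `ζ^j b` splitting: `ζ = 1` -/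
theorem kg_zabs {V : Type*} [CommGroup V] [Finite V] (ζ b : V →* V) (r : ℕ) (hr : r.Prime)
    (hc : ∀ v, ζ (b v) = b (ζ v))
    (hbr : (b : V → V)^[r] = id)
    (hper : ((ζ : V → V) ∘ b)^[r] = id)
    (hspl : ∀ (j : ℕ) (v : V), ∏ i ∈ Finset.range r, ((ζ : V → V)^[j] ∘ b)^[i] v = 1)
    (hcop : (Nat.card V).Coprime r) (v : V) : ζ v = v := by
  classical
  have hcomm : Function.Commute (ζ : V → V) b := fun v => hc v
  have hζr : (ζ : V → V)^[r] = id := by
    have h := hcomm.comp_iterate r
    rw [hper, hbr, Function.comp_id] at h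
    exact h.symm
  have hmod : ∀ m : ℕ, (ζ : V → V)^[m] = (ζ : V → V)^[m % r] := kg_iter_mod _ r hζr
  have hspl' : ∀ (j : ℕ) (v : V),
      ∏ i ∈ Finset.range r, (ζ : V → V)^[i * j] (b^[i] v) = 1 := by
    intro j v
    rw [← hspl j v]
    refine Finset.prod_congr rfl (fun i _ => ?_)
    have h1 : Function.Commute ((ζ : V → V)^[j]) b := hcomm.iterate_left j
    rw [h1.comp_iterate i, Function.comp_apply, ← Function.iterate_mul, mul_comm]
  have hhom : ∀ j : ℕ, ∃ ζj : V →* V, (ζj : V → V) = (ζ : V → V)^[j] := fun j =>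
    ⟨@HPow.hPow (Monoid.End V) ℕ (Monoid.End V) _ ζ j, Monoid.End.coe_pow _ _ _⟩
  have hT1 : ∀ (i : ℕ), 0 < i → i < r → ∀ w : V,
      ∏ j ∈ Finset.range r, (ζ : V → V)^[i * j] w = ∏ j ∈ Finset.range r, (ζ : V → V)^[j] w := by
    intro i hi0 hir w
    have hcop' : Nat.Coprime r i := (Nat.Prime.coprime_iff_not_dvd hr).mpr
      (fun hd => by have := Nat.le_of_dvd hi0 hd; omega)
    have hinj : Set.InjOn (fun j => (i * j) % r) (Finset.range r : Set ℕ) := by
      intro j hj j' hj' h
      have hj1 := Finset.mem_range.mp (Finset.mem_coe.mp hj)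
      have hj2 := Finset.mem_range.mp (Finset.mem_coe.mp hj')
      have h2 : i * j ≡ i * j' [MOD r] := h
      have h3 : j ≡ j' [MOD r] := Nat.ModEq.cancel_left_of_coprime hcop' h2
      have h4 : j % r = j' % r := h3
      rwa [Nat.mod_eq_of_lt hj1, Nat.mod_eq_of_lt hj2] at h4
    have himg : (Finset.range r).image (fun j => (i * j) % r) = Finset.range r := by
      apply Finset.eq_of_subset_of_card_le
      · intro m hm
        obtain ⟨j, _, rfl⟩ := Finset.mem_image.mp hm
        exact Finset.mem_range.mpr (Nat.mod_lt _ hr.pos)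
      · rw [Finset.card_image_of_injOn hinj]
    calc ∏ j ∈ Finset.range r, (ζ : V → V)^[i * j] w
        = ∏ j ∈ Finset.range r, (ζ : V → V)^[(i * j) % r] w := by
          refine Finset.prod_congr rfl (fun j _ => ?_)
          rw [hmod (i * j)]
      _ = ∏ m ∈ (Finset.range r).image (fun j => (i * j) % r), (ζ : V → V)^[m] w :=
          (Finset.prod_image (f := fun m => (ζ : V → V)^[m] w) hinj).symm
      _ = ∏ j ∈ Finset.range r, (ζ : V → V)^[j] w := by rw [himg]
  have hTv : ∏ j ∈ Finset.range r, (ζ : V → V)^[j] v = v ^ r := by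
    have h1 : ∏ j ∈ Finset.range r, ∏ i ∈ Finset.range r, (ζ : V → V)^[i * j] (b^[i] v) = 1 :=
      Finset.prod_eq_one (fun j _ => hspl' j v)
    rw [Finset.prod_comm] at h1
    have hb0 := hspl 0 v
    obtain ⟨r', rfl⟩ : ∃ r', r = r' + 1 := ⟨r - 1, by have := hr.pos; omega⟩
    rw [Finset.prod_range_succ'] at h1
    have e0 : ∏ j ∈ Finset.range (r' + 1), (ζ : V → V)^[0 * j] (b^[0] v) = v ^ (r' + 1) := by
      simp
    have ei : ∀ i ∈ Finset.range r',
        ∏ j ∈ Finset.range (r' + 1), (ζ : V → V)^[(i + 1) * j] (b^[i + 1] v) =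
          ∏ j ∈ Finset.range (r' + 1), (ζ : V → V)^[j] (b^[i + 1] v) := by
      intro i hi
      exact hT1 (i + 1) (by omega) (by have := Finset.mem_range.mp hi; omega) _
    rw [Finset.prod_congr rfl ei, e0, Finset.prod_comm] at h1
    have e2 : ∀ j ∈ Finset.range (r' + 1),
        ∏ i ∈ Finset.range r', (ζ : V → V)^[j] (b^[i + 1] v) =
          ((ζ : V → V)^[j] v)⁻¹ := by
      intro j _
      obtain ⟨ζj, hζj⟩ := hhom j
      rw [← hζj, ← map_prod, ← map_inv]
      congr 1
      simp only [Function.iterate_zero, Function.id_comp] at hb0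
      rw [Finset.prod_range_succ'] at hb0
      exact eq_inv_of_mul_eq_one_left hb0
    rw [Finset.prod_congr rfl e2, Finset.prod_inv_distrib] at h1
    exact (inv_mul_eq_one.mp h1)
  have hshift : ζ (∏ j ∈ Finset.range r, (ζ : V → V)^[j] v) =
      ∏ j ∈ Finset.range r, (ζ : V → V)^[j] v := by
    rw [map_prod]
    have h1 : ∀ j ∈ Finset.range r, ζ ((ζ : V → V)^[j] v) = (ζ : V → V)^[j + 1] v :=
      fun j _ => (Function.iterate_succ_apply' ζ j v).symm
    rw [Finset.prod_congr rfl h1]
    have h2 := Finset.prod_range_succ' (fun j => (ζ : V → V)^[j] v) r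
    have h3 := Finset.prod_range_succ (fun j => (ζ : V → V)^[j] v) r
    rw [h3] at h2
    have h4 : (ζ : V → V)^[r] v = v := by rw [hζr]; rfl
    simp only [h4, Function.iterate_zero, id] at h2
    exact (mul_right_cancel h2).symm
  rw [hTv, map_pow] at hshift
  have h5 : (ζ v / v) ^ r = 1 := by rw [div_pow, hshift, div_self']
  have h6 : orderOf (ζ v / v) ∣ r := orderOf_dvd_of_pow_eq_one h5
  have h7 : orderOf (ζ v / v) ∣ Nat.card V := orderOf_dvd_natCard _
  have h8 : ζ v / v = 1 := orderOf_eq_one_iff.mp (Nat.eq_one_of_dvd_coprimes hcop h7 h6)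
  exact div_eq_one.mp h8

/-- a splitting endomorphism commuting with `z` forces `z` to centralize invariant abelian
`r'`-subgroups normalized by `z` -/
theorem kg_central {G : Type*} [Group G] [Finite G] (r : ℕ) (hr : r.Prime) (β : G →* G)
    (hβ : KSpl r β) (V : Subgroup G) (hV : ∀ x ∈ V, β x ∈ V)
    (hab : ∀ a ∈ V, ∀ b ∈ V, a * b = b * a) (hVr : (Nat.card V).Coprime r) (z : G)
    (hzV : ∀ v ∈ V, z * v * z⁻¹ ∈ V) (hz : β z = z) : ∀ v ∈ V, z * v * z⁻¹ = v := by
  classical
  let _ : CommGroup V :=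
    { (inferInstance : Group V) with mul_comm := fun a b => Subtype.ext (hab a a.2 b b.2) }
  let ζ : V →* V := ((MulAut.conj z).toMonoidHom.comp V.subtype).codRestrict V
    (fun v => hzV v v.2)
  have hζ : ∀ w : V, ((ζ w : V) : G) = z * w * z⁻¹ := fun w => rfl
  have hζj : ∀ (j : ℕ) (w : V), (((ζ : V → V)^[j] w : V) : G) = z ^ j * w * (z ^ j)⁻¹ := by
    intro j
    induction j with
    | zero => intro w; simp
    | succ j ih =>
      intro w
      rw [Function.iterate_succ_apply', hζ, ih, pow_succ']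
      group
  have hVj : ∀ (j : ℕ), ∀ x ∈ V, ((MulAut.conj (z ^ j)).toMonoidHom.comp β) x ∈ V := by
    intro j x hx
    have h1 := hζj j ⟨β x, hV x hx⟩
    show z ^ j * β x * (z ^ j)⁻¹ ∈ V
    rw [← h1]
    exact Subtype.mem _
  have hfun : ∀ j : ℕ, ((ζ : V → V)^[j] ∘ (tfRes β V hV)) =
      ⇑(tfRes ((MulAut.conj (z ^ j)).toMonoidHom.comp β) V (hVj j)) := by
    intro j
    funext w
    apply Subtype.ext
    rw [Function.comp_apply, hζj]
    rfl
  intro v hv
  have key := kg_zabs ζ (tfRes β V hV) r hr ?_ ?_ ?_ ?_ hVr ⟨v, hv⟩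
  · exact congrArg Subtype.val key
  · intro w
    apply Subtype.ext
    show z * β w * z⁻¹ = β (z * w * z⁻¹)
    rw [map_mul, map_mul, map_inv, hz]
  · exact (kspl_res hβ V hV).1
  · have h1 := hfun 1
    rw [Function.iterate_one] at h1
    rw [h1]
    exact (kspl_res (kspl_conj hβ (z ^ 1)) V (hVj 1)).1
  · intro j w
    rw [hfun j]
    exact (kspl_res (kspl_conj hβ (z ^ j)) V (hVj j)).2 w

theorem kg_fixed_point {G : Type*} [Group G] [Finite G] (r : ℕ) (hr : r.Prime) (β : G →* G)
    (hβ : KSpl r β) (Z : Subgroup G) (hZ : ∀ x ∈ Z, β x ∈ Z) (hZr : IsPGroup r Z)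
    (hZne : Z ≠ ⊥) : ∃ z ∈ Z, z ≠ 1 ∧ β z = z := by
  classical
  haveI : Fact r.Prime := ⟨hr⟩
  haveI := Fintype.ofFinite Z
  have hres := kspl_res hβ Z hZ
  have hr1 : (r - 1).succ = r := by have := hr.pos; omega
  let σ : Equiv.Perm Z :=
    { toFun := tfRes β Z hZ
      invFun := (tfRes β Z hZ)^[r - 1]
      left_inv := fun x => by
        show (tfRes β Z hZ)^[r - 1] (tfRes β Z hZ x) = x
        rw [← Function.iterate_succ_apply, hr1, hres.1]; rfl
      right_inv := fun x => by
        show tfRes β Z hZ ((tfRes β Z hZ)^[r - 1] x) = x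
        rw [(Function.iterate_succ_apply' (tfRes β Z hZ) (r - 1) x).symm, hr1, hres.1]; rfl }
  have hσ : σ ^ r ^ 1 = 1 := by
    rw [pow_one]
    ext x
    rw [← Equiv.Perm.iterate_eq_pow]
    show (((tfRes β Z hZ)^[r] x : Z) : G) = x
    rw [hres.1]; rfl
  have hdvd : r ∣ Fintype.card Z := by
    rw [← Nat.card_eq_fintype_card]
    obtain ⟨k, hk⟩ := IsPGroup.iff_card.mp hZr
    rw [hk]
    have hk0 : k ≠ 0 := by
      rintro rfl
      rw [pow_zero] at hk
      exact hZne ((Subgroup.card_eq_one).mp hk)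
    exact dvd_pow_self r hk0
  obtain ⟨b, hb, hb1⟩ := Equiv.Perm.exists_fixed_point_of_prime' hdvd hσ
    (show σ 1 = 1 from map_one (tfRes β Z hZ))
  exact ⟨b, b.2, fun h => hb1 (Subtype.ext h), congrArg Subtype.val hb⟩

theorem kg_zk_inv {G : Type*} [Group G] (β : G →* G) (hsurj : Function.Surjective β)
    (hinj : Function.Injective β) (K : Subgroup G) (hK : K.map β = K) :
    ∀ x ∈ K ⊓ Subgroup.centralizer (K : Set G), β x ∈ K ⊓ Subgroup.centralizer (K : Set G) := by
  intro x hx
  obtain ⟨hxK, hxc⟩ := Subgroup.mem_inf.mp hx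
  refine Subgroup.mem_inf.mpr ⟨(tf_mem_iff β hinj K hK x).mpr hxK, ?_⟩
  rw [Subgroup.mem_centralizer_iff] at hxc ⊢
  intro k hk
  obtain ⟨k', rfl⟩ := hsurj k
  have hk' : k' ∈ K := (tf_mem_iff β hinj K hK k').mp hk
  rw [← map_mul, ← map_mul, hxc k' hk']

theorem kg_zk_ab {G : Type*} [Group G] (K : Subgroup G) :
    ∀ a ∈ K ⊓ Subgroup.centralizer (K : Set G), ∀ b ∈ K ⊓ Subgroup.centralizer (K : Set G),
      a * b = b * a := by
  intro a ha b hb
  exact Subgroup.mem_centralizer_iff.mp (Subgroup.mem_inf.mp hb).2 a (Subgroup.mem_inf.mp ha).1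

theorem kg_zk_normal {G : Type*} [Group G] (K : Subgroup G) (hKn : K.Normal) :
    (K ⊓ Subgroup.centralizer (K : Set G)).Normal := by
  constructor
  intro v hv g
  obtain ⟨hvK, hvc⟩ := Subgroup.mem_inf.mp hv
  refine Subgroup.mem_inf.mpr ⟨hKn.conj_mem v hvK g, ?_⟩
  rw [Subgroup.mem_centralizer_iff] at hvc ⊢
  intro k hk
  have h1 := hvc (g⁻¹ * k * g) (by have := hKn.conj_mem k hk g⁻¹; simpa using this)
  calc k * (g * v * g⁻¹) = g * ((g⁻¹ * k * g) * v) * g⁻¹ := by group
    _ = g * (v * (g⁻¹ * k * g)) * g⁻¹ := by rw [h1]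
    _ = g * v * g⁻¹ * k := by group

theorem kg_center_of_sup {G : Type*} [Group G] (A B : Subgroup G) (h : A ⊔ B = ⊤) (v : G)
    (hA : ∀ a ∈ A, a * v = v * a) (hB : ∀ b ∈ B, b * v = v * b) : v ∈ Subgroup.center G := by
  have hle : A ⊔ B ≤ Subgroup.centralizer {v} := by
    apply sup_le
    · intro k hk
      rw [Subgroup.mem_centralizer_iff]
      rintro _ rfl
      exact (hA k hk).symm
    · intro s hs
      rw [Subgroup.mem_centralizer_iff]
      rintro _ rfl
      exact (hB s hs).symm
  rw [Subgroup.mem_center_iff]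
  intro g
  have hg : g ∈ Subgroup.centralizer {v} := hle (h ▸ Subgroup.mem_top g)
  exact (Subgroup.mem_centralizer_iff.mp hg v rfl).symm


/-- Kegel's theorem (with Thompson's), in endomorphism form: a finite group with a splitting
endomorphism of prime period is nilpotent -/
theorem kegel_aux (r : ℕ) (hr : r.Prime) : ∀ (n : ℕ) (G : Type u) [Group G] [Finite G],
    Nat.card G = n → ∀ α : G →* G, KSpl r α → Group.IsNilpotent G := by
  intro n
  induction n using Nat.strong_induction_on with
  | _ n ih =>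
  intro G _ _ hn α hα
  classical
  haveI : Fact r.Prime := ⟨hr⟩
  have hinjβ : ∀ β : G →* G, KSpl r β → Function.Injective β :=
    fun β hβ => tf_injective β r hr.pos hβ.1
  have hsurjβ : ∀ β : G →* G, KSpl r β → Function.Surjective β :=
    fun β hβ => Finite.surjective_of_injective (hinjβ β hβ)
  have ihsub : ∀ β : G →* G, KSpl r β → ∀ M : Subgroup G, (∀ x ∈ M, β x ∈ M) → M ≠ ⊤ →
      Group.IsNilpotent M := by
    intro β hβ M hM hne
    have hlt : Nat.card M < n := by
      rw [← hn]
      exact lt_of_le_of_ne (Subgroup.card_le_card_group M)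
        (fun h => hne ((Subgroup.card_eq_iff_eq_top M).mp h))
    exact ih _ hlt M rfl (tfRes β M hM) (kspl_res hβ M hM)
  have ihquot : ∀ β : G →* G, KSpl r β → ∀ (N : Subgroup G) [N.Normal],
      (∀ x ∈ N, β x ∈ N) → N ≠ ⊥ → Group.IsNilpotent (G ⧸ N) := by
    intro β hβ N _ hN hne
    have hlt : Nat.card (G ⧸ N) < n := by
      rw [← hn, ← Subgroup.index_eq_card, ← Subgroup.index_mul_card N]
      have h1 : 1 < Nat.card N := (Subgroup.one_lt_card_iff_ne_bot N).mpr hne
      have h2 : 0 < N.index := Nat.pos_of_ne_zero Subgroup.index_ne_zero_of_finite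
      nlinarith
    exact ih _ hlt (G ⧸ N) rfl (QuotientGroup.map N N β (fun x hx => hN x hx))
      (kspl_quot hβ N _)
  -- Step 0 : if `r ∤ |G|` then `α` is fixed-point-free
  by_cases hrdvd : r ∣ Nat.card G
  swap
  · have hfpf : MonoidHom.FixedPointFree α := by
      intro x hx
      have h1 := kspl_fixed hα x hx
      have h2 : orderOf x ∣ r := orderOf_dvd_of_pow_eq_one h1
      have h3 : orderOf x ∣ Nat.card G := orderOf_dvd_natCard x
      have hcop : (Nat.card G).Coprime r :=
        ((Nat.Prime.coprime_iff_not_dvd hr).mpr hrdvd).symm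
      exact orderOf_eq_one_iff.mp (Nat.eq_one_of_dvd_coprimes hcop h3 h2)
    exact thompson_fpf_aux r hr n G hn α hfpf hα.1
  -- Step 1 : the center is trivial
  by_cases hZ : Subgroup.center G = ⊥
  swap
  · have hZinv : ∀ x ∈ Subgroup.center G, α x ∈ Subgroup.center G := by
      intro x hx
      rw [Subgroup.mem_center_iff] at hx ⊢
      intro g
      obtain ⟨g', rfl⟩ := hsurjβ α hα g
      rw [← map_mul, ← map_mul, hx g']
    have h1 := ihquot α hα (Subgroup.center G) hZinv hZ
    exact Group.of_quotient_center_nilpotent h1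
  exfalso
  -- every Sylow subgroup is invariant under some twist
  have htwS : ∀ (q : ℕ) [Fact q.Prime] (Q : Sylow q G), ∃ β : G →* G, KSpl r β ∧
      (Q : Subgroup G).map β = Q := by
    intro q _ Q
    have hc : Nat.card ((Q : Subgroup G).map α) = q ^ (Nat.card G).factorization q := by
      rw [Subgroup.card_map_of_injective (hinjβ α hα), Sylow.card_eq_multiplicity]
    obtain ⟨g, hg⟩ := MulAction.exists_smul_eq G Q (Sylow.ofCard _ hc)
    have hg' : (Q : Subgroup G).map α = MulAut.conj g • (Q : Subgroup G) := by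
      have h1 := congrArg (fun R : Sylow q G => (R : Subgroup G)) hg
      simp only [Sylow.coe_ofCard, Sylow.coe_subgroup_smul] at h1
      exact h1.symm
    refine ⟨(MulAut.conj g⁻¹).toMonoidHom.comp α, kspl_conj hα g⁻¹, ?_⟩
    rw [← Subgroup.map_map, hg']
    show MulAut.conj g⁻¹ • (MulAut.conj g • (Q : Subgroup G)) = Q
    rw [← mul_smul, ← map_mul, inv_mul_cancel, map_one, one_smul]
  have hnormS : ∀ (q : ℕ) [Fact q.Prime] (Q : Sylow q G), (Q : Subgroup G).Normal →
      ∀ β : G →* G, KSpl r β → (Q : Subgroup G).map β = Q := by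
    intro q _ Q hQn β hβ
    have hc : Nat.card ((Q : Subgroup G).map β) = q ^ (Nat.card G).factorization q := by
      rw [Subgroup.card_map_of_injective (hinjβ β hβ), Sylow.card_eq_multiplicity]
    obtain ⟨g, hg⟩ := MulAction.exists_smul_eq G Q (Sylow.ofCard _ hc)
    haveI := hQn
    rw [Sylow.smul_eq_of_normal] at hg
    have h1 := congrArg (fun R : Sylow q G => (R : Subgroup G)) hg
    simp only [Sylow.coe_ofCard] at h1
    exact h1.symm
  -- no nontrivial normal Sylow subgroup
  have hNS : ∀ (q : ℕ) [Fact q.Prime] (Q : Sylow q G), (Q : Subgroup G).Normal →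
      (Q : Subgroup G) ≠ ⊥ → False := by
    intro q hqF Q hQn hQne
    have hq := hqF.out
    haveI := hQn
    by_cases hqr : q = r
    · subst hqr
      have hcopQ : (Nat.card (Q : Subgroup G)).Coprime (Q : Subgroup G).index :=
        Sylow.card_coprime_index Q
      obtain ⟨L, hL⟩ := Subgroup.exists_right_complement'_of_coprime hcopQ
      have hLi : Nat.card L = (Q : Subgroup G).index :=
        Nat.eq_of_mul_eq_mul_left Nat.card_pos
          (hL.card_mul_card.trans (Subgroup.card_mul_index (Q : Subgroup G)).symm)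
      have hLmapc : Subgroup.IsComplement' (Q : Subgroup G) (L.map α) := by
        apply Subgroup.isComplement'_of_coprime
        · rw [Subgroup.card_map_of_injective (hinjβ α hα)]; exact hL.card_mul_card
        · rw [Subgroup.card_map_of_injective (hinjβ α hα), hLi]; exact hcopQ
      have hQsolv : Group.IsSolvable (Q : Subgroup G) := by
        haveI := Q.isPGroup'.isNilpotent
        infer_instance
      obtain ⟨g, hg⟩ := Cfsg.Agent.Lib.Helper7.sz_conj (Q : Subgroup G) hcopQ (Or.inl hQsolv)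
        L (L.map α) hL hLmapc
      obtain ⟨β, hβ, hLβ⟩ : ∃ β : G →* G, KSpl q β ∧ L.map β = L := by
        refine ⟨(MulAut.conj g⁻¹).toMonoidHom.comp α, kspl_conj hα g⁻¹, ?_⟩
        rw [← Subgroup.map_map, ← hg]
        show MulAut.conj g⁻¹ • (MulAut.conj g • L) = L
        rw [← mul_smul, ← map_mul, inv_mul_cancel, map_one, one_smul]
      have hQβ := hnormS q Q hQn β hβ
      have hinj := hinjβ β hβ
      have hsurj := hsurjβ β hβ
      have hLinv : ∀ x ∈ L, β x ∈ L := fun x hx => (tf_mem_iff β hinj L hLβ x).mpr hx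
      have hVinv := kg_zk_inv β hsurj hinj (Q : Subgroup G) hQβ
      have hfpfL : ∀ x ∈ L, β x = x → x = 1 := by
        intro x hx hfx
        have h1 := kspl_fixed hβ x hfx
        have h2 : orderOf x ∣ q := orderOf_dvd_of_pow_eq_one h1
        have h3 : orderOf x ∣ Nat.card L := Subgroup.orderOf_dvd_natCard L hx
        have hcop : (Nat.card L).Coprime q := by
          rw [hLi]; exact ((Nat.Prime.coprime_iff_not_dvd hq).mpr Q.not_dvd_index).symm
        exact orderOf_eq_one_iff.mp (Nat.eq_one_of_dvd_coprimes hcop h3 h2)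
      have hVbot : (Q : Subgroup G) ⊓ Subgroup.centralizer ((Q : Subgroup G) : Set G) = ⊥ := by
        apply kg_fixed β q hq hβ _ L hVinv hLinv hfpfL (kg_zk_ab _)
        · haveI := kg_zk_normal (Q : Subgroup G) hQn
          rw [Subgroup.normalizer_eq_top]; exact le_top
        · have h1 : Nat.card ((Q : Subgroup G) ⊓
              Subgroup.centralizer ((Q : Subgroup G) : Set G) : Subgroup G) ∣
              Nat.card (Q : Subgroup G) := Subgroup.card_dvd_of_le inf_le_left
          rw [hLi]
          exact Nat.Coprime.coprime_dvd_left h1 hcopQ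
        · intro v hv hvS
          have hvZ : v ∈ Subgroup.center G := by
            apply kg_center_of_sup (Q : Subgroup G) L hL.sup_eq_top v
            · intro k hk
              exact Subgroup.mem_centralizer_iff.mp (Subgroup.mem_inf.mp hv).2 k hk
            · exact hvS
          rw [hZ, Subgroup.mem_bot] at hvZ
          exact hvZ
      exact (Cfsg.Agent.Lib.Helper3.cfZ.{u} q).ne_bot (Q : Subgroup G) Q.isPGroup' hQne hVbot
    · -- `q ≠ r`
      have hQα := hnormS q Q hQn α hα
      have hQinvα : ∀ x ∈ (Q : Subgroup G), α x ∈ (Q : Subgroup G) :=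
        fun x hx => (tf_mem_iff α (hinjβ α hα) _ hQα x).mpr hx
      have hquot := ihquot α hα (Q : Subgroup G) hQinvα hQne
      have hpnq := Cfsg.Agent.S4040.pn_of_nilpotent hquot r
      obtain ⟨K, hKn, hKc, a, ha⟩ := Cfsg.Agent.Lib.Helper2.hasNormalPComplement_iff.mp hpnq
      haveI := hKn
      obtain ⟨H, hHdef⟩ : ∃ H : Subgroup G, H = K.comap (QuotientGroup.mk' (Q : Subgroup G)) :=
        ⟨_, rfl⟩
      haveI hHn : H.Normal := by rw [hHdef]; infer_instance
      have hQH : (Q : Subgroup G) ≤ H := by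
        rw [hHdef]; exact Cfsg.Agent.Lib.Helper7.le_comap_mk' _ K
      have hHcard : (Nat.card H).Coprime r := by
        rw [hHdef, Cfsg.Agent.Lib.Helper7.card_comap_mk']
        apply Nat.Coprime.mul_left _ hKc
        rw [Sylow.card_eq_multiplicity]
        exact Nat.Coprime.pow_left _ ((Nat.coprime_primes hq hr).mpr hqr)
      have hHidx : H.index = r ^ a := by
        rw [hHdef, Subgroup.index_comap_of_surjective _ (QuotientGroup.mk'_surjective _)]
        exact ha
      have hHne : H ≠ ⊥ := fun h => hQne (le_bot_iff.mp (h ▸ hQH))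
      have hHinv : ∀ β : G →* G, KSpl r β → ∀ x ∈ H, β x ∈ H := by
        intro β hβ x hx
        apply Cfsg.Agent.Lib.Helper2.mem_of_index_pow_of_coprime_orderOf H hHidx
        rw [orderOf_injective β (hinjβ β hβ) x]
        exact Nat.Coprime.coprime_dvd_left (Subgroup.orderOf_dvd_natCard H hx) hHcard
      have hHnil : Group.IsNilpotent H := by
        apply thompson_fpf_aux r hr _ H rfl (tfRes α H (hHinv α hα)) _ (kspl_res hα H _).1
        intro x hx
        have h1 := kspl_fixed (kspl_res hα H (hHinv α hα)) x hx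
        have h2 : orderOf x ∣ r := orderOf_dvd_of_pow_eq_one h1
        have h3 : orderOf x ∣ Nat.card H := orderOf_dvd_natCard x
        exact orderOf_eq_one_iff.mp (Nat.eq_one_of_dvd_coprimes hHcard h3 h2)
      obtain ⟨P⟩ : Nonempty (Sylow r G) := inferInstance
      have hPne : (P : Subgroup G) ≠ ⊥ := Sylow.ne_bot_of_dvd_card P hrdvd
      obtain ⟨β, hβ, hPβ⟩ := htwS r P
      have hinj := hinjβ β hβ
      have hsurj := hsurjβ β hβ
      have hZPne : (P : Subgroup G) ⊓ Subgroup.centralizer ((P : Subgroup G) : Set G) ≠ ⊥ :=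
        (Cfsg.Agent.Lib.Helper3.cfZ.{u} r).ne_bot (P : Subgroup G) P.isPGroup' hPne
      obtain ⟨z, hzZ, hz1, hzfix⟩ := kg_fixed_point r hr β hβ _
        (kg_zk_inv β hsurj hinj (P : Subgroup G) hPβ) (P.isPGroup'.to_le inf_le_left) hZPne
      obtain ⟨hzP, hzC⟩ := Subgroup.mem_inf.mp hzZ
      have hzr : z ^ r = 1 := kspl_fixed hβ z hzfix
      have hHP : H ⊔ (P : Subgroup G) = ⊤ := by
        rw [← Subgroup.index_eq_one]
        have h1 : (H ⊔ (P : Subgroup G)).index ∣ r ^ a :=
          hHidx ▸ Subgroup.index_dvd_of_le le_sup_left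
        have h2 : (H ⊔ (P : Subgroup G)).index ∣ (P : Subgroup G).index :=
          Subgroup.index_dvd_of_le le_sup_right
        have h3 : (r ^ a).Coprime (P : Subgroup G).index :=
          Nat.Coprime.pow_left a ((Nat.Prime.coprime_iff_not_dvd hr).mpr P.not_dvd_index)
        exact Nat.eq_one_of_dvd_coprimes h3 h1 h2
      have hHβ : H.map β = H := tf_map_eq β hinj H (hHinv β hβ)
      by_cases htop : H ⊔ Subgroup.zpowers z = ⊤
      · have hVinv := kg_zk_inv β hsurj hinj H hHβ
        haveI hVn := kg_zk_normal H hHn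
        have hVr : (Nat.card (H ⊓ Subgroup.centralizer (H : Set G) : Subgroup G)).Coprime r :=
          Nat.Coprime.coprime_dvd_left (Subgroup.card_dvd_of_le inf_le_left) hHcard
        have hcen := kg_central r hr β hβ _ hVinv (kg_zk_ab H) hVr z
          (fun v hv => hVn.conj_mem v hv z) hzfix
        haveI : Nontrivial H := (Subgroup.nontrivial_iff_ne_bot H).mpr hHne
        apply tf_center_ne_bot hHnil
        rw [Subgroup.eq_bot_iff_forall]
        intro w hw
        have hwV : (w : G) ∈ H ⊓ Subgroup.centralizer (H : Set G) := by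
          refine Subgroup.mem_inf.mpr ⟨w.2, ?_⟩
          rw [Subgroup.mem_centralizer_iff]
          intro k hk
          have := Subgroup.mem_center_iff.mp hw ⟨k, hk⟩
          exact congrArg Subtype.val this
        have hwZ : (w : G) ∈ Subgroup.center G := by
          apply kg_center_of_sup H (Subgroup.zpowers z) htop
          · intro k hk
            exact Subgroup.mem_centralizer_iff.mp (Subgroup.mem_inf.mp hwV).2 k hk
          · intro s hs
            have hs' : s ∈ Subgroup.centralizer {(w : G)} := by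
              have hle : Subgroup.zpowers z ≤ Subgroup.centralizer {(w : G)} := by
                rw [Subgroup.zpowers_le, Subgroup.mem_centralizer_iff]
                rintro _ rfl
                have h1 := hcen (w : G) hwV
                calc (w : G) * z = (z * w * z⁻¹) * z := by rw [h1]
                  _ = z * w := by group
              exact hle hs
            exact (Subgroup.mem_centralizer_iff.mp hs' (w : G) rfl).symm
        rw [hZ, Subgroup.mem_bot] at hwZ
        exact Subtype.ext hwZ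
      · -- `H₁ = H ⟨z⟩` is a proper invariant subgroup, hence nilpotent
        have hH1inv : ∀ x ∈ H ⊔ Subgroup.zpowers z, β x ∈ H ⊔ Subgroup.zpowers z := by
          intro x hx
          have h1 : β x ∈ (H ⊔ Subgroup.zpowers z).map β := Subgroup.mem_map_of_mem β hx
          rw [Subgroup.map_sup, hHβ, MonoidHom.map_zpowers, hzfix] at h1
          exact h1
        have hH1nil := ihsub β hβ _ hH1inv htop
        have hzH1 : z ∈ H ⊔ Subgroup.zpowers z :=
          (le_sup_right : Subgroup.zpowers z ≤ _) (Subgroup.mem_zpowers z)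
        have hall : ∀ (s : ℕ) (_ : Fact s.Prime) (R : Sylow s (H ⊔ Subgroup.zpowers z : Subgroup G)),
            (R : Subgroup (H ⊔ Subgroup.zpowers z : Subgroup G)).Normal :=
          ((Group.isNilpotent_of_finite_tfae
            (G := (H ⊔ Subgroup.zpowers z : Subgroup G))).out 0 3).mp hH1nil
        have hzpg : IsPGroup r (Subgroup.zpowers
            (⟨z, hzH1⟩ : (H ⊔ Subgroup.zpowers z : Subgroup G))) := by
          apply IsPGroup.of_card (n := 1)
          rw [pow_one, Nat.card_zpowers]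
          have h1 : (⟨z, hzH1⟩ : (H ⊔ Subgroup.zpowers z : Subgroup G)) ^ r = 1 :=
            Subtype.ext hzr
          have h2 : (⟨z, hzH1⟩ : (H ⊔ Subgroup.zpowers z : Subgroup G)) ≠ 1 :=
            fun h => hz1 (congrArg Subtype.val h)
          exact orderOf_eq_prime h1 h2
        obtain ⟨R, hR⟩ := hzpg.exists_le_sylow
        haveI hRn := hall r inferInstance R
        have hzR : (⟨z, hzH1⟩ : (H ⊔ Subgroup.zpowers z : Subgroup G)) ∈ R :=
          hR (Subgroup.mem_zpowers _)
        have hzH : ∀ h ∈ H, h * z = z * h := by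
          intro h hh
          have hhH1 : h ∈ H ⊔ Subgroup.zpowers z := (le_sup_left : H ≤ _) hh
          have hcR : (⟨h, hhH1⟩ : (H ⊔ Subgroup.zpowers z : Subgroup G)) * ⟨z, hzH1⟩ *
              (⟨h, hhH1⟩ : (H ⊔ Subgroup.zpowers z : Subgroup G))⁻¹ * (⟨z, hzH1⟩)⁻¹ ∈
              (R : Subgroup (H ⊔ Subgroup.zpowers z : Subgroup G)) :=
            Subgroup.mul_mem _ (hRn.conj_mem _ hzR _) (Subgroup.inv_mem _ hzR)
          obtain ⟨k, hk⟩ := R.isPGroup' ⟨_, hcR⟩
          have hk' : (h * z * h⁻¹ * z⁻¹) ^ r ^ k = 1 := by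
            have := congrArg (fun x : (R : Subgroup (H ⊔ Subgroup.zpowers z : Subgroup G)) =>
              ((x : (H ⊔ Subgroup.zpowers z : Subgroup G)) : G)) hk
            simpa using this
          have hcH : h * z * h⁻¹ * z⁻¹ ∈ H := by
            have h1 : z * h⁻¹ * z⁻¹ ∈ H := hHn.conj_mem _ (H.inv_mem hh) z
            have h2 : h * z * h⁻¹ * z⁻¹ = h * (z * h⁻¹ * z⁻¹) := by group
            rw [h2]; exact H.mul_mem hh h1
          have h3 : orderOf (h * z * h⁻¹ * z⁻¹) ∣ r ^ k := orderOf_dvd_of_pow_eq_one hk'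
          have h4 : orderOf (h * z * h⁻¹ * z⁻¹) ∣ Nat.card H :=
            Subgroup.orderOf_dvd_natCard H hcH
          have h5 : h * z * h⁻¹ * z⁻¹ = 1 :=
            orderOf_eq_one_iff.mp
              (Nat.eq_one_of_dvd_coprimes (Nat.Coprime.pow_right k hHcard) h4 h3)
          calc h * z = (h * z * h⁻¹ * z⁻¹) * (z * h) := by group
            _ = z * h := by rw [h5, one_mul]
        have hzcen : z ∈ Subgroup.center G := by
          apply kg_center_of_sup H (P : Subgroup G) hHP z hzH
          intro k hk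
          exact Subgroup.mem_centralizer_iff.mp hzC k hk
        rw [hZ, Subgroup.mem_bot] at hzcen
        exact hz1 hzcen
  -- Thompson's criterion : normal `q`-complements for odd `q`
  have hpn : ∀ (q : ℕ) [Fact q.Prime], q ≠ 2 → q ∣ Nat.card G →
      Cfsg.HasNormalPComplement q G := by
    intro q hqF hq2 hqdvd
    have hq := hqF.out
    obtain ⟨Q⟩ : Nonempty (Sylow q G) := inferInstance
    obtain ⟨β, hβ, hQinv⟩ := htwS q Q
    have hinj := hinjβ β hβ
    have hsurj := hsurjβ β hβ
    have hQne : (Q : Subgroup G) ≠ ⊥ := Sylow.ne_bot_of_dvd_card Q hqdvd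
    by_contra hpn
    have hker : (Q : Subgroup G) ⊓ β.ker = ⊥ := by
      rw [(MonoidHom.ker_eq_bot_iff β).mpr hinj, inf_bot_eq]
    have hZmap : ((Q : Subgroup G) ⊓ Subgroup.centralizer ((Q : Subgroup G) : Set G)).map β =
        (Q : Subgroup G) ⊓ Subgroup.centralizer ((Q : Subgroup G) : Set G) := by
      have h1 := (Cfsg.Agent.Lib.Helper3.cfZ.{u} q).map β (Q : Subgroup G) hker
      rw [hQinv] at h1
      exact h1.symm
    have hJmap : (Cfsg.thompsonSubgroupOf q (Q : Subgroup G)).map β =
        Cfsg.thompsonSubgroupOf q (Q : Subgroup G) := by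
      have h1 := (Cfsg.Agent.Lib.Helper3.cfJe.{u} q).map β (Q : Subgroup G) hker
      rw [hQinv] at h1
      exact h1.symm
    have hZne : (Q : Subgroup G) ⊓ Subgroup.centralizer ((Q : Subgroup G) : Set G) ≠ ⊥ :=
      (Cfsg.Agent.Lib.Helper3.cfZ.{u} q).ne_bot (Q : Subgroup G) Q.isPGroup' hQne
    have hJne : Cfsg.thompsonSubgroupOf q (Q : Subgroup G) ≠ ⊥ :=
      (Cfsg.Agent.Lib.Helper3.cfJe.{u} q).ne_bot (Q : Subgroup G) Q.isPGroup' hQne
    generalize hZdef : (Q : Subgroup G) ⊓ Subgroup.centralizer ((Q : Subgroup G) : Set G) = Z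
      at hZmap hZne
    generalize hJdef : Cfsg.thompsonSubgroupOf q (Q : Subgroup G) = J at hJmap hJne
    have hCinv : ∀ x ∈ Subgroup.centralizer (Z : Set G),
        β x ∈ Subgroup.centralizer (Z : Set G) := by
      intro x hx
      rw [Subgroup.mem_centralizer_iff] at hx ⊢
      intro z hz
      obtain ⟨z', rfl⟩ := hsurj z
      have hz' : z' ∈ Z := (tf_mem_iff β hinj Z hZmap z').mp hz
      rw [← map_mul, ← map_mul, hx z' hz']
    have hNinv : ∀ x ∈ Subgroup.normalizer (J : Set G),
        β x ∈ Subgroup.normalizer (J : Set G) := by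
      intro x hx
      rw [Subgroup.mem_normalizer_iff] at hx ⊢
      intro h
      obtain ⟨h', rfl⟩ := hsurj h
      rw [tf_mem_iff β hinj J hJmap, hx h', ← tf_mem_iff β hinj J hJmap (x * h' * x⁻¹)]
      simp only [map_mul, map_inv]
    have hCne : Subgroup.centralizer (Z : Set G) ≠ ⊤ := by
      intro h
      apply hZne
      rw [eq_bot_iff, ← hZ]
      intro z hz
      rw [Subgroup.mem_center_iff]
      intro g
      have hg : g ∈ Subgroup.centralizer (Z : Set G) := h ▸ Subgroup.mem_top g
      exact (Subgroup.mem_centralizer_iff.mp hg z hz).symm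
    have hB : Cfsg.HasNormalPComplement q (Subgroup.centralizer (Z : Set G)) :=
      Cfsg.Agent.S4040.pn_of_nilpotent (ihsub β hβ _ hCinv hCne) q
    have hA : ¬ Cfsg.HasNormalPComplement q (Subgroup.normalizer (J : Set G)) := by
      intro hA
      have hset : ((Q : Subgroup G) : Set G) ⊓
          (Subgroup.centralizer (Q : Set G) : Set G) = (Z : Set G) := by
        rw [← hZdef]; rfl
      refine hpn ((Cfsg.Agent.S0108.result hq2 Q).mpr ⟨?_, ?_⟩)
      · rw [hJdef]; exact hA
      · rw [hset]; exact hB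
    have hJtop : Subgroup.normalizer (J : Set G) = ⊤ := by
      by_contra hne
      exact hA (Cfsg.Agent.S4040.pn_of_nilpotent (ihsub β hβ _ hNinv hne) q)
    haveI hJn : J.Normal := Subgroup.normalizer_eq_top_iff.mp hJtop
    have hJinv : ∀ x ∈ J, β x ∈ J := fun x hx => (tf_mem_iff β hinj J hJmap x).mpr hx
    have hquot := ihquot β hβ J hJinv hJne
    have hJQ : J ≤ (Q : Subgroup G) := by
      rw [← hJdef]; exact (Cfsg.Agent.Lib.Helper3.cfJe.{u} q).le (Q : Subgroup G)
    have hQn : (Q : Subgroup G).Normal := by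
      have hall : ∀ (r : ℕ) (_ : Fact r.Prime) (R : Sylow r (G ⧸ J)),
          (R : Subgroup (G ⧸ J)).Normal :=
        ((Group.isNilpotent_of_finite_tfae (G := G ⧸ J)).out 0 3).mp hquot
      obtain ⟨R, hR⟩ := (Q.isPGroup'.map (QuotientGroup.mk' J)).exists_le_sylow
      haveI := hall q inferInstance R
      have h1 : (Q : Subgroup G) ≤ (R : Subgroup (G ⧸ J)).comap (QuotientGroup.mk' J) := by
        intro x hx
        exact hR (Subgroup.mem_map_of_mem _ hx)
      have h2 : IsPGroup q ((R : Subgroup (G ⧸ J)).comap (QuotientGroup.mk' J)) := by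
        have hc := Cfsg.Agent.Lib.Helper7.card_comap_mk' J (R : Subgroup (G ⧸ J))
        obtain ⟨a, ha⟩ := IsPGroup.iff_card.mp (Q.isPGroup'.to_le hJQ)
        obtain ⟨b, hb⟩ := IsPGroup.iff_card.mp R.isPGroup'
        apply IsPGroup.of_card (n := a + b)
        rw [hc, ha, hb, pow_add]
      have h3 := Q.is_maximal' h2 h1
      rw [← h3]
      infer_instance
    exact hNS q Q hQn hQne
  -- conclusion
  obtain ⟨q₀, hq₀, hq₀dvd, hodd⟩ : ∃ q₀ : ℕ, q₀.Prime ∧ q₀ ∣ Nat.card G ∧
      ∀ s : ℕ, s.Prime → s ∣ Nat.card G → s ≠ q₀ → s ≠ 2 := by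
    by_cases h2 : 2 ∣ Nat.card G
    · exact ⟨2, Nat.prime_two, h2, fun s _ _ hs => hs⟩
    · exact ⟨r, hr, hrdvd, fun s _ hsd _ hs2 => h2 (hs2 ▸ hsd)⟩
  haveI : Fact q₀.Prime := ⟨hq₀⟩
  let 𝒦 : Set (Subgroup G) := {K | K.Normal ∧ ∃ s : ℕ, s.Prime ∧ s ≠ q₀ ∧
    (Nat.card K).Coprime s ∧ ∃ a, K.index = s ^ a}
  have hEn : (sInf 𝒦).Normal := by
    constructor
    intro x hx g
    rw [Subgroup.mem_sInf] at hx ⊢
    intro L hL
    exact hL.1.conj_mem x (hx L hL) g
  obtain ⟨Q₀⟩ : Nonempty (Sylow q₀ G) := inferInstance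
  have hQ₀E : (Q₀ : Subgroup G) ≤ sInf 𝒦 := by
    intro x hx
    rw [Subgroup.mem_sInf]
    rintro K ⟨hKn, s, hs, hsq, hKc, a, ha⟩
    haveI := hKn
    apply Cfsg.Agent.Lib.Helper2.mem_of_index_pow_of_coprime_orderOf K ha
    obtain ⟨k, hk⟩ := Q₀.isPGroup' ⟨x, hx⟩
    have hk' : x ^ q₀ ^ k = 1 := congrArg Subtype.val hk
    have h1 : orderOf x ∣ q₀ ^ k := orderOf_dvd_of_pow_eq_one hk'
    exact Nat.Coprime.coprime_dvd_left h1
      (Nat.Coprime.pow_left k ((Nat.coprime_primes hq₀ hs).mpr (Ne.symm hsq)))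
  have hEpg : IsPGroup q₀ (sInf 𝒦 : Subgroup G) := by
    apply IsPGroup.of_card (n := (Nat.card (sInf 𝒦 : Subgroup G)).primeFactorsList.length)
    apply Nat.eq_prime_pow_of_unique_prime_dvd Nat.card_pos.ne'
    intro s hs hsd
    by_contra hsq
    have hsG : s ∣ Nat.card G := hsd.trans (Subgroup.card_subgroup_dvd_card _)
    haveI : Fact s.Prime := ⟨hs⟩
    obtain ⟨K, hKn, hKc, a, ha⟩ := Cfsg.Agent.Lib.Helper2.hasNormalPComplement_iff.mp
      (hpn s (hodd s hs hsG hsq) hsG)
    have hEK : sInf 𝒦 ≤ K := sInf_le ⟨hKn, s, hs, hsq, hKc, a, ha⟩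
    have h1 : s ∣ Nat.card K := hsd.trans (Subgroup.card_dvd_of_le hEK)
    exact hs.one_lt.ne' (Nat.Coprime.eq_one_of_dvd hKc.symm h1)
  have hEQ := Q₀.is_maximal' hEpg hQ₀E
  have hQ₀n : (Q₀ : Subgroup G).Normal := by rw [← hEQ]; exact hEn
  exact hNS q₀ Q₀ hQ₀n (Sylow.ne_bot_of_dvd_card Q₀ hq₀dvd)

end Cfsg.Agent.Lib.Helper9
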