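import Mathlib
import Cfsg.Agent.S4242
import Cfsg.Agent.S4249
import Cfsg.Agent.S0561
import Cfsg.Agent.Lib.Helper9.ConjLemmas
import Cfsg.Agent.Lib.Helper7.PCore
import Cfsg.Agent.Lib.Helper1.GenFit

/-! Generic machinery for the Kegel–Wielandt theorems (S0563–S0565). -/

set_option autoImplicit false

namespace Cfsg.Agent.Lib.Helper9

open Subgroup
open scoped Pointwise

universe u

variable {G : Type u} [Group G]

theorem kw_eq_one_of_dvd_coprime {d a b : ℕ} (h : a.Coprime b) (ha : d ∣ a) (hb : d ∣ b) :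
    d = 1 := by
  have h1 := Nat.dvd_gcd ha hb
  rw [h.gcd_eq_one] at h1
  exact Nat.dvd_one.mp h1

theorem kw_dvd_of_forall_prime_pow {m n : ℕ} (hm : m ≠ 0)
    (h : ∀ p, p.Prime → p ^ m.factorization p ∣ n) : m ∣ n := by
  rw [Nat.dvd_iff_prime_pow_dvd_dvd]
  intro p k hp hpk
  exact (pow_dvd_pow p ((hp.pow_dvd_iff_le_factorization hm).mp hpk)).trans (h p hp)

theorem kw_orderOf_conj (g y : G) : orderOf (g * y * g⁻¹) = orderOf y := by
  rw [← MulAut.conj_apply]
  exact MulEquiv.orderOf_eq _ _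

theorem kw_orderOf_of_isPGroup {p : ℕ} (hp : p.Prime) {S : Subgroup G} (hS : IsPGroup p S)
    {y : G} (hy : y ∈ S) : ∃ k, orderOf y = p ^ k := by
  obtain ⟨k, hk⟩ := hS ⟨y, hy⟩
  have h1 : y ^ p ^ k = 1 := by
    have := congrArg Subtype.val hk
    simpa using this
  obtain ⟨j, -, hj⟩ := (Nat.dvd_prime_pow hp).mp (orderOf_dvd_of_pow_eq_one h1)
  exact ⟨j, hj⟩

theorem kw_isPGroup_of_orderOf {p : ℕ} {S : Subgroup G}
    (h : ∀ y ∈ S, ∃ k, orderOf y = p ^ k) : IsPGroup p S := by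
  rintro ⟨y, hy⟩
  obtain ⟨k, hk⟩ := h y hy
  refine ⟨k, Subtype.ext ?_⟩
  simp only [Subgroup.coe_pow, Subgroup.coe_one]
  rw [← hk]
  exact pow_orderOf_eq_one y

theorem kw_exists_prime_ne_of_not_pgroup [Finite G] (H : Subgroup G) (p : ℕ)
    (h : ¬ IsPGroup p H) : ∃ s, s.Prime ∧ s ≠ p ∧ s ∣ Nat.card H := by
  by_contra hcon
  push Not at hcon
  apply h
  have h1 : Nat.card H = p ^ (Nat.card H).primeFactorsList.length :=
    Nat.eq_prime_pow_of_unique_prime_dvd Nat.card_pos.ne' (fun {d} hd hdvd => by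
      by_contra hne
      exact hcon d hd hne hdvd)
  exact IsPGroup.of_card h1

/-- in a finite nilpotent subgroup a `p`-element commutes with a `p'`-element -/
theorem kw_nil_comm [Finite G] {H : Subgroup G} (hH : Group.IsNilpotent H) (p : ℕ)
    [Fact p.Prime] {x y : G} (hx : x ∈ H) (hy : y ∈ H) (hox : ∃ k, orderOf x = p ^ k)
    (hoy : (orderOf y).Coprime p) : x * y = y * x := by
  have h := Cfsg.Agent.S4242.nil_commute hH p ⟨x, hx⟩ ⟨y, hy⟩
    (by rw [Subgroup.orderOf_mk]; exact hox) (by rw [Subgroup.orderOf_mk]; exact hoy)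
  exact congrArg Subtype.val h

/-- the Sylow `p`-subgroup of a (nilpotent) subgroup `H`, as a subgroup of `G` -/
noncomputable def kwSy (p : ℕ) [Fact p.Prime] (H : Subgroup G) : Subgroup G :=
  ((Classical.arbitrary (Sylow p H) : Sylow p H) : Subgroup H).map H.subtype

theorem kwSy_le (p : ℕ) [Fact p.Prime] (H : Subgroup G) : kwSy p H ≤ H :=
  Subgroup.map_subtype_le _

theorem kwSy_isPGroup (p : ℕ) [Fact p.Prime] (H : Subgroup G) : IsPGroup p (kwSy p H) :=
  (Classical.arbitrary (Sylow p H)).isPGroup'.map H.subtype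

theorem kwSy_card [Finite G] (p : ℕ) [Fact p.Prime] (H : Subgroup G) :
    Nat.card (kwSy p H) = p ^ (Nat.card H).factorization p := by
  unfold kwSy
  rw [Subgroup.card_map_of_injective H.subtype_injective]
  exact Sylow.card_eq_multiplicity _

theorem kwSy_mem [Finite G] {p : ℕ} [Fact p.Prime] {H : Subgroup G} (hH : Group.IsNilpotent H)
    {x : G} (hx : x ∈ H) (hox : ∃ k, orderOf x = p ^ k) : x ∈ kwSy p H := by
  have hall : ∀ (r : ℕ) (_ : Fact r.Prime) (R : Sylow r H), (R : Subgroup H).Normal :=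
    ((Group.isNilpotent_of_finite_tfae (G := H)).out 0 3).mp hH
  obtain ⟨k, hk⟩ := hox
  have hpg : IsPGroup p (Subgroup.zpowers (⟨x, hx⟩ : H)) := by
    apply IsPGroup.of_card (n := k)
    rw [Nat.card_zpowers, Subgroup.orderOf_mk, hk]
  obtain ⟨Q, hQ⟩ := hpg.exists_le_sylow
  have hxQ : (⟨x, hx⟩ : H) ∈ (Q : Subgroup H) := hQ (Subgroup.mem_zpowers _)
  obtain ⟨g, hg⟩ := MulAction.exists_smul_eq H (Classical.arbitrary (Sylow p H)) Q
  have := hall p inferInstance (Classical.arbitrary (Sylow p H))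
  rw [Sylow.smul_eq_of_normal] at hg
  rw [← hg] at hxQ
  exact Subgroup.mem_map.mpr ⟨⟨x, hx⟩, hxQ, rfl⟩

theorem kwSy_conj [Finite G] {p : ℕ} [Fact p.Prime] {H : Subgroup G} (hH : Group.IsNilpotent H)
    {g : G} (hg : g ∈ normalizer (H : Set G)) : MulAut.conj g • kwSy p H = kwSy p H := by
  rw [conj_smul_eq_self_iff_mem_normalizer]
  apply mem_normalizer_of_conj_smul_le
  intro x hx
  rw [mem_conj_smul_iff] at hx
  have hxH : g⁻¹ * x * g ∈ H := kwSy_le p H hx
  have h1 : x ∈ H := by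
    have := (Subgroup.mem_normalizer_iff.mp hg (g⁻¹ * x * g)).mp hxH
    simpa [mul_assoc] using this
  obtain ⟨k, hk⟩ := kw_orderOf_of_isPGroup (Fact.out : p.Prime) (kwSy_isPGroup p H) hx
  have h2 : orderOf (g⁻¹ * x * g) = orderOf x := by
    have := kw_orderOf_conj g⁻¹ x
    rwa [inv_inv] at this
  exact kwSy_mem hH h1 ⟨k, by rw [← h2, hk]⟩

theorem kwSy_normalizer [Finite G] {p : ℕ} [Fact p.Prime] {H : Subgroup G}
    (hH : Group.IsNilpotent H) : H ≤ normalizer (kwSy p H : Set G) := by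
  intro g hg
  rw [← conj_smul_eq_self_iff_mem_normalizer]
  exact kwSy_conj hH (Subgroup.le_normalizer hg)

theorem kwSy_comm [Finite G] {p q : ℕ} [Fact p.Prime] [Fact q.Prime] {H : Subgroup G}
    (hH : Group.IsNilpotent H) (hpq : p ≠ q) {x y : G} (hx : x ∈ kwSy p H)
    (hy : y ∈ kwSy q H) : x * y = y * x := by
  obtain ⟨j, hj⟩ := kw_orderOf_of_isPGroup (Fact.out : q.Prime) (kwSy_isPGroup q H) hy
  refine kw_nil_comm hH p (kwSy_le p H hx) (kwSy_le q H hy)
    (kw_orderOf_of_isPGroup (Fact.out : p.Prime) (kwSy_isPGroup p H) hx) ?_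
  rw [hj]
  exact Nat.Coprime.pow_left j ((Nat.coprime_primes Fact.out Fact.out).mpr hpq.symm)

theorem kwSy_ne_bot [Finite G] {p : ℕ} [Fact p.Prime] {H : Subgroup G}
    (hpd : p ∣ Nat.card H) : kwSy p H ≠ ⊥ := by
  intro h
  have h1 := kwSy_card p H
  rw [h, Subgroup.card_bot] at h1
  have hp : p.Prime := Fact.out
  have h2 : 0 < (Nat.card H).factorization p :=
    hp.factorization_pos_of_dvd Nat.card_pos.ne' hpd
  have h3 : 1 < p ^ (Nat.card H).factorization p := Nat.one_lt_pow h2.ne' hp.one_lt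
  omega

theorem kwSy_eq_bot [Finite G] {p : ℕ} [Fact p.Prime] {H : Subgroup G}
    (hpd : ¬ p ∣ Nat.card H) : kwSy p H = ⊥ := by
  rw [← Subgroup.card_eq_one, kwSy_card, Nat.factorization_eq_zero_of_not_dvd hpd, pow_zero]

/-- a subgroup containing a conjugate of each Sylow subgroup of `H` has order divisible by `|H|` -/
theorem kwSy_card_dvd [Finite G] (H Y : Subgroup G)
    (h : ∀ (p : ℕ) [Fact p.Prime], ∃ x : G, MulAut.conj x • kwSy p H ≤ Y) :
    Nat.card H ∣ Nat.card Y := by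
  apply kw_dvd_of_forall_prime_pow Nat.card_pos.ne'
  intro p hp
  have := Fact.mk hp
  obtain ⟨x, hx⟩ := h p
  rw [← kwSy_card p H, ← card_conj_smul (kwSy p H) x]
  exact Subgroup.card_dvd_of_le hx

/-- Sylow conjugacy, for a subgroup of full `p`-power order -/
theorem kw_exists_conj_le [Finite G] {p : ℕ} [Fact p.Prime] (S : Subgroup G)
    (hS : Nat.card S = p ^ (Nat.card G).factorization p) (M : Subgroup G) (hM : IsPGroup p M) :
    ∃ x : G, M ≤ MulAut.conj x • S := by
  obtain ⟨Q, hQ⟩ := hM.exists_le_sylow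
  obtain ⟨g, hg⟩ := MulAction.exists_smul_eq G (Sylow.ofCard S hS) Q
  refine ⟨g, ?_⟩
  have h1 : (Q : Subgroup G) = MulAut.conj g • S := by
    rw [← hg, Sylow.smul_def, Sylow.pointwise_smul_def]
    rfl
  rw [← h1]
  exact hQ

/-- Sylow conjugacy inside a subgroup `C` -/
theorem kw_exists_conj_le_in [Finite G] {p : ℕ} [Fact p.Prime] (C S M : Subgroup G)
    (hSC : S ≤ C) (hMC : M ≤ C) (hS : Nat.card S = p ^ (Nat.card G).factorization p)
    (hM : IsPGroup p M) : ∃ c ∈ C, M ≤ MulAut.conj c • S := by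
  have hp : p.Prime := Fact.out
  have hcS : Nat.card (S.subgroupOf C) = Nat.card S :=
    Nat.card_congr (Subgroup.subgroupOfEquivOfLe hSC).toEquiv
  have h1 : p ^ (Nat.card G).factorization p ∣ Nat.card C := by
    rw [← hS]; exact Subgroup.card_dvd_of_le hSC
  have h2 : (Nat.card G).factorization p ≤ (Nat.card C).factorization p :=
    (hp.pow_dvd_iff_le_factorization Nat.card_pos.ne').mp h1
  have h3 : (Nat.card C).factorization p ≤ (Nat.card G).factorization p :=
    (Nat.factorization_le_iff_dvd Nat.card_pos.ne' Nat.card_pos.ne').mpr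
      (Subgroup.card_subgroup_dvd_card C) p
  have hS' : Nat.card (S.subgroupOf C) = p ^ (Nat.card C).factorization p := by
    rw [hcS, hS, le_antisymm h2 h3]
  obtain ⟨c, hc⟩ := kw_exists_conj_le (G := C) (S.subgroupOf C) hS' (M.subgroupOf C)
    (hM.comap_subtype)
  refine ⟨c, c.2, ?_⟩
  intro m hm
  have h4 : (⟨m, hMC hm⟩ : C) ∈ MulAut.conj c • S.subgroupOf C :=
    hc (by rw [Subgroup.mem_subgroupOf]; exact hm)
  rw [mem_conj_smul_iff, Subgroup.mem_subgroupOf] at h4
  rw [mem_conj_smul_iff]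
  simpa using h4

/-- an element of order dividing `|X|` normalizing a Hall subgroup `X` lies in `X` -/
theorem kw_mem_of_normalizer_hall [Finite G] (X : Subgroup G)
    (hX : (Nat.card X).Coprime X.index) {u : G} (hu : u ∈ normalizer (X : Set G))
    (hou : orderOf u ∣ Nat.card X) : u ∈ X := by
  have hXn : (X.subgroupOf (normalizer (X : Set G))).Normal := Subgroup.normal_in_normalizer
  have h1 : orderOf (QuotientGroup.mk' (X.subgroupOf (normalizer (X : Set G))) ⟨u, hu⟩) ∣
      orderOf (⟨u, hu⟩ : normalizer (X : Set G)) := orderOf_map_dvd _ _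
  rw [Subgroup.orderOf_mk] at h1
  have h3 : orderOf (QuotientGroup.mk' (X.subgroupOf (normalizer (X : Set G))) ⟨u, hu⟩) ∣
      X.relIndex (normalizer (X : Set G)) := orderOf_dvd_natCard _
  have h5 : X.relIndex (normalizer (X : Set G)) ∣ X.index :=
    Subgroup.relIndex_dvd_index_of_le Subgroup.le_normalizer
  have h6 := kw_eq_one_of_dvd_coprime hX (h1.trans hou) (h3.trans h5)
  rw [orderOf_eq_one_iff] at h6
  have h7 := (QuotientGroup.eq_one_iff _).mp h6
  exact Subgroup.mem_subgroupOf.mp h7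

/-- a normal subgroup of a factorized group `L` of order prime to `|H|` lies in `K` -/
theorem kw_le_of_coprime [Finite G] (L H K N : Subgroup G)
    (hfac : ∀ g ∈ L, ∃ h ∈ L ⊓ H, ∃ k ∈ L ⊓ K, g = h * k) (hNL : N ≤ L)
    (hLN : L ≤ normalizer (N : Set G)) (hcN : (Nat.card N).Coprime (Nat.card H))
    (hcK : (Nat.card K).Coprime (Nat.card H)) : N ≤ K := by
  intro n hn
  obtain ⟨h, hh, k, hk, rfl⟩ := hfac n (hNL hn)
  have hhN : h ∈ normalizer (N : Set G) := hLN hh.1
  have hkN : k ∈ normalizer (N : Set G) := hLN hk.1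
  have hXn : (N.subgroupOf (normalizer (N : Set G))).Normal := Subgroup.normal_in_normalizer
  have h1 : QuotientGroup.mk' (N.subgroupOf (normalizer (N : Set G))) ⟨h, hhN⟩ *
      QuotientGroup.mk' (N.subgroupOf (normalizer (N : Set G))) ⟨k, hkN⟩ = 1 := by
    rw [← map_mul]
    exact (QuotientGroup.eq_one_iff _).mpr (by rw [Subgroup.mem_subgroupOf]; exact hn)
  have h2 := eq_inv_of_mul_eq_one_left h1
  have h3 : orderOf (QuotientGroup.mk' (N.subgroupOf (normalizer (N : Set G))) ⟨h, hhN⟩) ∣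
      Nat.card H := by
    refine (orderOf_map_dvd _ _).trans ?_
    rw [Subgroup.orderOf_mk]
    exact Subgroup.orderOf_dvd_natCard H hh.2
  have h4 : orderOf (QuotientGroup.mk' (N.subgroupOf (normalizer (N : Set G))) ⟨h, hhN⟩) ∣
      Nat.card K := by
    rw [h2, orderOf_inv]
    refine (orderOf_map_dvd _ _).trans ?_
    rw [Subgroup.orderOf_mk]
    exact Subgroup.orderOf_dvd_natCard K hk.2
  have h5 := kw_eq_one_of_dvd_coprime hcK h4 h3
  rw [orderOf_eq_one_iff] at h5
  have h6 : h ∈ N := Subgroup.mem_subgroupOf.mp ((QuotientGroup.eq_one_iff _).mp h5)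
  have h7 : orderOf h = 1 :=
    kw_eq_one_of_dvd_coprime hcN (Subgroup.orderOf_dvd_natCard N h6)
      (Subgroup.orderOf_dvd_natCard H hh.2)
  rw [orderOf_eq_one_iff] at h7
  rw [h7, one_mul]
  exact hk.2

theorem kw_map_normal_le_normalizer (C : Subgroup G) (N' : Subgroup C) [N'.Normal] :
    C ≤ normalizer ((N'.map C.subtype : Subgroup G) : Set G) := by
  intro c hc
  rw [Subgroup.mem_normalizer_iff]
  intro n
  constructor
  · rintro ⟨n', hn', rfl⟩
    exact ⟨⟨c, hc⟩ * n' * ⟨c, hc⟩⁻¹, ‹N'.Normal›.conj_mem n' hn' ⟨c, hc⟩, rfl⟩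
  · rintro ⟨m', hm', hm⟩
    refine ⟨⟨c, hc⟩⁻¹ * m' * ⟨c, hc⟩, ?_, ?_⟩
    · have := ‹N'.Normal›.conj_mem m' hm' ⟨c, hc⟩⁻¹
      simpa using this
    · simp only [Subgroup.subtype_apply, Subgroup.coe_mul, Subgroup.coe_inv] at hm ⊢
      rw [hm]
      group

/-- `C` solvable, `u ∈ C` an `s`-element centralizing all normal `t`-subgroups of `C`:
then `u` lies in a normal `s`-subgroup of `C` -/
theorem kw_fit [Finite G] (C : Subgroup G) (hCs : Group.IsSolvable C) (s : ℕ) [Fact s.Prime]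
    (u : G) (huC : u ∈ C) (hou : ∃ j, orderOf u = s ^ j)
    (hcomm : ∀ (t : ℕ), t.Prime → ∀ N : Subgroup G, N ≤ C → IsPGroup t N →
      C ≤ normalizer (N : Set G) → ∀ n ∈ N, n * u = u * n) :
    ∃ N₀ : Subgroup G, N₀ ≤ C ∧ IsPGroup s N₀ ∧ C ≤ normalizer (N₀ : Set G) ∧ u ∈ N₀ := by
  classical
  have hCs' := hCs
  have hstep1 : ∀ t : ℕ, t.Prime → Cfsg.pCore t C ≤ Subgroup.centralizer {(⟨u, huC⟩ : C)} := by
    intro t ht n' hn'
    have := Fact.mk ht
    have hnorm : (Cfsg.pCore t C).Normal := Cfsg.Agent.Lib.Helper7.pCore_normal t C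
    have h1 := hcomm t ht ((Cfsg.pCore t C).map C.subtype) (Subgroup.map_subtype_le _)
      ((Cfsg.Agent.Lib.Helper7.pCore_isPGroup t C).map C.subtype)
      (kw_map_normal_le_normalizer C _) (n' : G) (Subgroup.mem_map.mpr ⟨n', hn', rfl⟩)
    rw [Subgroup.mem_centralizer_singleton_iff]
    exact Subtype.ext h1
  have hstep2 : Cfsg.fittingSubgroup C ≤ Subgroup.centralizer {(⟨u, huC⟩ : C)} := by
    rw [Cfsg.Agent.Lib.Helper7.fitting_eq_pCoreJoin]
    unfold Cfsg.Agent.Lib.Helper7.pCoreJoin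
    apply iSup_le
    intro t
    exact hstep1 t t.2
  have hstep3 : (⟨u, huC⟩ : C) ∈
      Subgroup.centralizer ((Cfsg.fittingSubgroup C : Subgroup C) : Set C) := by
    rw [Subgroup.mem_centralizer_iff]
    intro h hh
    have := hstep2 hh
    rw [Subgroup.mem_centralizer_singleton_iff] at this
    exact this
  have hcentF : Subgroup.centralizer ((Cfsg.fittingSubgroup C : Subgroup C) : Set C) ≤
      Cfsg.fittingSubgroup C := by
    have hFn' : (Cfsg.fittingSubgroup C).Normal := Cfsg.Agent.Lib.Helper7.fitting_normal C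
    have hCFn : (Subgroup.centralizer ((Cfsg.fittingSubgroup C : Subgroup C) : Set C)).Normal :=
      Subgroup.normal_centralizer
    have hN := Cfsg.Agent.Lib.Helper1.le_center_fitting_of_solvable (G := C)
      (Subgroup.centralizer ((Cfsg.fittingSubgroup C : Subgroup C) : Set C)) le_rfl
      (by rw [Subgroup.normalizer_eq_top]; exact le_top) inferInstance
    exact hN.trans (Subgroup.map_subtype_le _)
  have huF : (⟨u, huC⟩ : C) ∈ Cfsg.fittingSubgroup C := hcentF hstep3
  have hFnil : Group.IsNilpotent (Cfsg.fittingSubgroup C) :=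
    Cfsg.Agent.Lib.Helper7.fitting_isNilpotent C
  have hFn : (Cfsg.fittingSubgroup C).Normal := Cfsg.Agent.Lib.Helper7.fitting_normal C
  have huS : (⟨u, huC⟩ : C) ∈ kwSy s (Cfsg.fittingSubgroup C) :=
    kwSy_mem hFnil huF (by rw [Subgroup.orderOf_mk]; exact hou)
  have hSn : (kwSy s (Cfsg.fittingSubgroup C)).Normal := by
    rw [← Subgroup.normalizer_eq_top_iff, eq_top_iff]
    intro g _
    rw [← conj_smul_eq_self_iff_mem_normalizer]
    apply kwSy_conj hFnil
    rw [Subgroup.normalizer_eq_top]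
    exact Subgroup.mem_top g
  exact ⟨(kwSy s (Cfsg.fittingSubgroup C)).map C.subtype, Subgroup.map_subtype_le _,
    (kwSy_isPGroup s _).map C.subtype, kw_map_normal_le_normalizer C _,
    Subgroup.mem_map.mpr ⟨⟨u, huC⟩, huS, rfl⟩⟩

/-- S0561 inside a solvable factorized subgroup `L`, with trivial conjugators -/
theorem kw_s561_sub [Finite G] (L H' K' A B : Subgroup G) (hLs : Group.IsSolvable L)
    (hH' : H' ≤ L) (hK' : K' ≤ L) (hfac : ∀ g ∈ L, ∃ h ∈ H', ∃ k ∈ K', g = h * k)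
    (hA : A ≤ H') (hAn : H' ≤ normalizer (A : Set G)) (hB : B ≤ K')
    (hBn : K' ≤ normalizer (B : Set G)) (hAh : (Nat.card A).Coprime A.index)
    (hBh : (Nat.card B).Coprime B.index) :
    ∃ S : Subgroup G, (S : Set G) = (A : Set G) * (B : Set G) := by
  have hLs' := hLs
  have hAL : A ≤ L := hA.trans hH'
  have hBL : B ≤ L := hB.trans hK'
  have hA' : A.subgroupOf L ≤ H'.subgroupOf L := by
    intro x hx; rw [Subgroup.mem_subgroupOf] at hx ⊢; exact hA hx
  have hB' : B.subgroupOf L ≤ K'.subgroupOf L := by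
    intro x hx; rw [Subgroup.mem_subgroupOf] at hx ⊢; exact hB hx
  have hAn' : ((A.subgroupOf L).subgroupOf (H'.subgroupOf L)).Normal := by
    rw [Subgroup.normal_subgroupOf_iff_le_normalizer hA']
    intro x hx
    rw [Subgroup.mem_subgroupOf] at hx
    rw [Subgroup.mem_normalizer_iff]
    intro n
    simp only [Subgroup.mem_subgroupOf, Subgroup.coe_mul, Subgroup.coe_inv]
    exact Subgroup.mem_normalizer_iff.mp (hAn hx) n
  have hBn' : ((B.subgroupOf L).subgroupOf (K'.subgroupOf L)).Normal := by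
    rw [Subgroup.normal_subgroupOf_iff_le_normalizer hB']
    intro x hx
    rw [Subgroup.mem_subgroupOf] at hx
    rw [Subgroup.mem_normalizer_iff]
    intro n
    simp only [Subgroup.mem_subgroupOf, Subgroup.coe_mul, Subgroup.coe_inv]
    exact Subgroup.mem_normalizer_iff.mp (hBn hx) n
  have hAh' : (Nat.card (A.subgroupOf L)).Coprime (A.subgroupOf L).index := by
    rw [Nat.card_congr (Subgroup.subgroupOfEquivOfLe hAL).toEquiv]
    exact hAh.coprime_dvd_right (Subgroup.relIndex_dvd_index_of_le hAL)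
  have hBh' : (Nat.card (B.subgroupOf L)).Coprime (B.subgroupOf L).index := by
    rw [Nat.card_congr (Subgroup.subgroupOfEquivOfLe hBL).toEquiv]
    exact hBh.coprime_dvd_right (Subgroup.relIndex_dvd_index_of_le hBL)
  obtain ⟨S, hS⟩ := Cfsg.Agent.S0561.result (G := L) (H'.subgroupOf L) (K'.subgroupOf L)
    (A.subgroupOf L) (B.subgroupOf L)
    (by
      intro g
      obtain ⟨h, hh, k, hk, hg⟩ := hfac g g.2
      exact ⟨⟨h, hH' hh⟩, Subgroup.mem_subgroupOf.mpr hh, ⟨k, hK' hk⟩,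
        Subgroup.mem_subgroupOf.mpr hk, Subtype.ext hg⟩)
    hA' hAn' hB' hBn' hAh' hBh' 1 1
  rw [map_one, one_smul, one_smul] at hS
  refine ⟨S.map L.subtype, ?_⟩
  rw [Subgroup.coe_map, hS, Set.image_mul, ← Subgroup.coe_map, ← Subgroup.coe_map,
    Subgroup.map_subgroupOf_eq_of_le hAL, Subgroup.map_subgroupOf_eq_of_le hBL]

/-- the type-level induction hypothesis, transported to proper subgroups -/
theorem kw_ih_sub [Finite G]
    (hIH : ∀ (X : Type u) [Group X] [Finite X], Nat.card X < Nat.card G →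
      ∀ A B : Subgroup X, Group.IsNilpotent A → Group.IsNilpotent B →
      (Nat.card A).Coprime (Nat.card B) → (∀ g : X, ∃ a ∈ A, ∃ b ∈ B, g = a * b) →
      Group.IsSolvable X)
    (L : Subgroup G) (hL : L ≠ ⊤) (A B : Subgroup G) (hAL : A ≤ L) (hBL : B ≤ L)
    (hA : Group.IsNilpotent A) (hB : Group.IsNilpotent B)
    (hcop : (Nat.card A).Coprime (Nat.card B))
    (hfac : ∀ g ∈ L, ∃ a ∈ A, ∃ b ∈ B, g = a * b) : Group.IsSolvable L := by
  have hlt : Nat.card L < Nat.card G := by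
    by_contra hcon
    exact hL (Subgroup.eq_top_of_le_card L (not_lt.mp hcon))
  have hA' := hA
  have hB' := hB
  refine hIH L hlt (A.subgroupOf L) (B.subgroupOf L)
    (Group.nilpotent_of_mulEquiv (Subgroup.subgroupOfEquivOfLe hAL).symm)
    (Group.nilpotent_of_mulEquiv (Subgroup.subgroupOfEquivOfLe hBL).symm) ?_ ?_
  · rw [Nat.card_congr (Subgroup.subgroupOfEquivOfLe hAL).toEquiv,
      Nat.card_congr (Subgroup.subgroupOfEquivOfLe hBL).toEquiv]
    exact hcop
  · intro g
    obtain ⟨a, ha, b, hb, hg⟩ := hfac g g.2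
    exact ⟨⟨a, hAL ha⟩, Subgroup.mem_subgroupOf.mpr ha, ⟨b, hBL hb⟩,
      Subgroup.mem_subgroupOf.mpr hb, Subtype.ext hg⟩

theorem kw_conj_smul_mul (S A B : Subgroup G) (hS : (S : Set G) = (A : Set G) * (B : Set G))
    (h : G) : ((MulAut.conj h • S : Subgroup G) : Set G) =
      ((MulAut.conj h • A : Subgroup G) : Set G) * ((MulAut.conj h • B : Subgroup G) : Set G) := by
  ext x
  constructor
  · intro hx
    have hx' : h⁻¹ * x * h ∈ (S : Set G) := mem_conj_smul_iff.mp hx
    rw [hS] at hx'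
    obtain ⟨a, ha, b, hb, hab⟩ := Set.mem_mul.mp hx'
    refine Set.mem_mul.mpr ⟨h * a * h⁻¹, conj_mem_conj_smul h ha, h * b * h⁻¹,
      conj_mem_conj_smul h hb, ?_⟩
    have e : h * a * h⁻¹ * (h * b * h⁻¹) = h * (a * b) * h⁻¹ := by group
    rw [e, hab]
    group
  · intro hx
    obtain ⟨a, ha, b, hb, rfl⟩ := Set.mem_mul.mp hx
    have ha' : h⁻¹ * a * h ∈ A := mem_conj_smul_iff.mp ha
    have hb' : h⁻¹ * b * h ∈ B := mem_conj_smul_iff.mp hb
    show a * b ∈ MulAut.conj h • S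
    rw [mem_conj_smul_iff]
    have e : h⁻¹ * (a * b) * h = (h⁻¹ * a * h) * (h⁻¹ * b * h) := by group
    rw [e]
    show _ ∈ (S : Set G)
    rw [hS]
    exact Set.mul_mem_mul ha' hb'

theorem kw_conj_smul_ne_top [Finite G] {S : Subgroup G} (hS : S ≠ ⊤) (h : G) :
    MulAut.conj h • S ≠ ⊤ := by
  intro htop
  apply hS
  apply Subgroup.eq_top_of_le_card
  rw [← card_conj_smul S h, htop, Subgroup.card_top]

theorem kw_conj_smul_ne_bot [Finite G] {S : Subgroup G} (hS : S ≠ ⊥) (h : G) :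
    MulAut.conj h • S ≠ ⊥ := by
  intro hbot
  apply hS
  rw [← Subgroup.card_eq_one, ← card_conj_smul S h, hbot, Subgroup.card_bot]

theorem kw_mem_normalizer_conj_smul {M : Subgroup G} {g a : G}
    (ha : g⁻¹ * a * g ∈ normalizer (M : Set G)) :
    a ∈ normalizer ((MulAut.conj g • M : Subgroup G) : Set G) := by
  rw [← conj_smul_eq_self_iff_mem_normalizer] at ha ⊢
  rw [← conj_smul_smul]
  have e : a * g = g * (g⁻¹ * a * g) := by group
  rw [e, conj_smul_smul, ha]

theorem kw_mem_normalizer_of_comm [Finite G] {M : Subgroup G} {b : G}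
    (h : ∀ y ∈ M, b * y = y * b) : b ∈ normalizer (M : Set G) := by
  apply mem_normalizer_of_conj_smul_le
  intro x hx
  rw [mem_conj_smul_iff] at hx
  have h1 := h _ hx
  have h2 : x = b⁻¹ * x * b := by
    have e : x * b = b⁻¹ * x * b * b := by rw [← h1]; group
    exact mul_right_cancel e
  rw [h2]
  exact hx

/-- a `p`-subgroup normalized by a subgroup of full `p`-power order lies in it -/
theorem kw_le_of_isPGroup_sup [Finite G] {p : ℕ} [Fact p.Prime] (S : Subgroup G)
    (hS : Nat.card S = p ^ (Nat.card G).factorization p) (N : Subgroup G) (hN : IsPGroup p N)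
    (hSN : S ≤ normalizer (N : Set G)) : N ≤ S := by
  have hp : p.Prime := Fact.out
  have hSp : IsPGroup p S := IsPGroup.of_card hS
  have hT : IsPGroup p (N ⊔ S : Subgroup G) := IsPGroup.to_sup_of_normal_left' hN hSp hSN
  obtain ⟨j, hj⟩ := IsPGroup.iff_card.mp hT
  have h1 : p ^ j ∣ Nat.card G := hj ▸ Subgroup.card_subgroup_dvd_card _
  have h2 : j ≤ (Nat.card G).factorization p :=
    (hp.pow_dvd_iff_le_factorization Nat.card_pos.ne').mp h1
  have h3 : Nat.card (N ⊔ S : Subgroup G) ≤ Nat.card S := by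
    rw [hj, hS]; exact Nat.pow_le_pow_right hp.pos h2
  have h4 : S = N ⊔ S := Subgroup.eq_of_le_of_card_ge le_sup_right h3
  calc N ≤ N ⊔ S := le_sup_left
    _ = S := h4.symm

theorem kw_exists_prime_pow {k : G} [Finite G] (hk : k ≠ 1) :
    ∃ (q : ℕ) (n : ℕ), q.Prime ∧ orderOf (k ^ n) = q := by
  have ho : orderOf k ≠ 1 := fun h => hk (orderOf_eq_one_iff.mp h)
  obtain ⟨q, hq, hqd⟩ := Nat.exists_prime_and_dvd ho
  exact ⟨q, orderOf k / q, hq, orderOf_pow_orderOf_div (orderOf_pos k).ne' hqd⟩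

theorem kw_ne_one_of_orderOf_prime {y : G} {q : ℕ} (hq : q.Prime) (hy : orderOf y = q) :
    y ≠ 1 := by
  intro h
  rw [h, orderOf_one] at hy
  exact hq.one_lt.ne hy

/-- a nontrivial normal subgroup of a nilpotent subgroup `H` meets the centre of `H` -/
theorem kw_exists_central_in [Finite G] {H : Subgroup G} (hH : Group.IsNilpotent H)
    (N : Subgroup G) (hNH : N ≤ H) (hHN : H ≤ normalizer (N : Set G)) (hN : N ≠ ⊥) :
    ∃ z ∈ N, z ≠ 1 ∧ ∀ x ∈ H, z * x = x * z := by
  have hNn : (N.subgroupOf H).Normal := (Subgroup.normal_subgroupOf_iff_le_normalizer hNH).mpr hHN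
  have hN' : N.subgroupOf H ≠ ⊥ := by
    intro h
    apply hN
    rw [Subgroup.eq_bot_iff_forall]
    intro x hx
    have h1 : (⟨x, hNH hx⟩ : H) ∈ N.subgroupOf H := Subgroup.mem_subgroupOf.mpr hx
    rw [h, Subgroup.mem_bot] at h1
    exact congrArg Subtype.val h1
  have h2 := Cfsg.Agent.S4249.nil_inf_center_ne_bot hH (N.subgroupOf H) hN'
  rw [Ne, Subgroup.eq_bot_iff_forall] at h2
  push Not at h2
  obtain ⟨z, hz, hz1⟩ := h2
  refine ⟨z, Subgroup.mem_subgroupOf.mp hz.1, fun h => hz1 (Subtype.ext h), ?_⟩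
  intro x hx
  have h3 := Subgroup.mem_center_iff.mp hz.2 ⟨x, hx⟩
  exact (congrArg Subtype.val h3).symm

theorem kwSy_eq_map [Finite G] {p : ℕ} [Fact p.Prime] {H : Subgroup G}
    (hH : Group.IsNilpotent H) (P : Sylow p H) : (P : Subgroup H).map H.subtype = kwSy p H := by
  have hall : ∀ (r : ℕ) (_ : Fact r.Prime) (R : Sylow r H), (R : Subgroup H).Normal :=
    ((Group.isNilpotent_of_finite_tfae (G := H)).out 0 3).mp hH
  obtain ⟨g, hg⟩ := MulAction.exists_smul_eq H (Classical.arbitrary (Sylow p H)) P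
  have := hall p inferInstance (Classical.arbitrary (Sylow p H))
  rw [Sylow.smul_eq_of_normal] at hg
  rw [← hg]
  rfl

theorem kw_prime_eq_of_pow_eq {t r j k : ℕ} (ht : t.Prime) (hr : r.Prime) (h : r ^ j = t ^ k)
    (hj : j ≠ 0) : t = r := by
  have h1 : r ∣ t ^ k := h ▸ dvd_pow_self r hj
  exact ((Nat.prime_dvd_prime_iff_eq hr ht).mp (hr.dvd_of_dvd_pow h1)).symm

theorem kw_card_eq [Finite G] (H K : Subgroup G) (hcop : (Nat.card H).Coprime (Nat.card K))
    (hfac : ∀ g : G, ∃ h ∈ H, ∃ k ∈ K, g = h * k) : Nat.card G = Nat.card H * Nat.card K := by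
  have h1 : Disjoint H K := Subgroup.disjoint_of_coprime_natCard hcop
  have h2 : (H : Set G) * (K : Set G) = Set.univ := by
    apply Set.eq_univ_of_forall
    intro g
    obtain ⟨h, hh, k, hk, rfl⟩ := hfac g
    exact Set.mul_mem_mul hh hk
  exact (Subgroup.isComplement'_of_disjoint_and_mul_eq_univ h1 h2).card_mul_card.symm

theorem kw_index_eq [Finite G] (H K : Subgroup G) (hcop : (Nat.card H).Coprime (Nat.card K))
    (hfac : ∀ g : G, ∃ h ∈ H, ∃ k ∈ K, g = h * k) : H.index = Nat.card K := by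
  have h1 := H.card_mul_index
  rw [kw_card_eq H K hcop hfac] at h1
  exact Nat.eq_of_mul_eq_mul_left Nat.card_pos h1

end Cfsg.Agent.Lib.Helper9
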