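import Mathlib
import Cfsg.Agent.Lib.Helper9.Supersolvable
import Cfsg.Agent.Lib.Helper9.SSInd
import Cfsg.Agent.Lib.Helper9.PrimeIndex
import Cfsg.Agent.Lib.Helper9.PrimSolv
import Cfsg.Agent.Lib.Helper9.MinNormal
import Cfsg.Agent.Lib.Helper9.KW1
import Cfsg.Agent.Lib.Helper7.Coprime2

set_option autoImplicit false

namespace Cfsg.Agent.Lib.Helper9

open Subgroup
open scoped commutatorElement

universe u

/-- An endomorphism `σ` of a nonzero `ZMod p`-module with `σ ^ p = σ` has an eigenvector. -/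
theorem hup_eig_lin {p : ℕ} [Fact p.Prime] {V : Type u} [AddCommGroup V] [Module (ZMod p) V]
    (σ : Module.End (ZMod p) V) (hσ : σ ^ p = σ) (v : V) (hv : v ≠ 0) :
    ∃ (a : ZMod p) (w : V), w ≠ 0 ∧ σ w = a • w := by
  by_contra hne
  push Not at hne
  have key : ∀ s : Finset (ZMod p),
      Polynomial.aeval σ (∏ a ∈ s, (Polynomial.X - Polynomial.C a)) v ≠ 0 := by
    intro s
    induction s using Finset.induction_on with
    | empty => simpa using hv
    | insert a s ha ih =>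
      rw [Finset.prod_insert ha, map_mul, Module.End.mul_apply]
      have h1 := hne a _ ih
      intro h2
      apply h1
      have h3 : Polynomial.aeval σ (Polynomial.X - Polynomial.C a) = σ - algebraMap _ _ a := by
        simp
      rw [h3] at h2
      simp only [LinearMap.sub_apply, Module.algebraMap_end_apply] at h2
      exact sub_eq_zero.mp h2
  have h1 := key Finset.univ
  have hp1 : 1 < p := (Fact.out : p.Prime).one_lt
  have hprod : ∏ a : ZMod p, (Polynomial.X - Polynomial.C a) =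
      (Polynomial.X ^ p - Polynomial.X : Polynomial (ZMod p)) := by
    have hm : (Polynomial.X ^ p - Polynomial.X : Polynomial (ZMod p)).Monic :=
      Polynomial.monic_X_pow_sub (by rw [Polynomial.degree_X]; exact_mod_cast hp1)
    have hr := FiniteField.roots_X_pow_card_sub_X (ZMod p)
    rw [ZMod.card] at hr
    have h2 := Polynomial.prod_multiset_X_sub_C_of_monic_of_roots_card_eq hm (by
      rw [hr, FiniteField.X_pow_card_sub_X_natDegree_eq (ZMod p) hp1]
      show (Finset.univ : Finset (ZMod p)).card = p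
      rw [Finset.card_univ, ZMod.card])
    rw [hr] at h2
    exact h2
  rw [hprod] at h1
  apply h1
  simp [hσ]

theorem hup_eig_grp_aux {A : Type u} [CommGroup A] (p : ℕ) [hp : Fact p.Prime]
    [Module (ZMod p) (Additive A)] (φ : A →* A)
    (hφ : ∀ a : A, (φ^[p]) a = φ a) (v : A) (hv : v ≠ 1) :
    ∃ (l : ℕ) (w : A), w ≠ 1 ∧ φ w = w ^ l := by
  let σ : Module.End (ZMod p) (Additive A) :=
    AddMonoidHom.toZModLinearMap p (MonoidHom.toAdditive φ)
  have hσ : σ ^ p = σ := by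
    apply LinearMap.ext
    intro x
    rw [Module.End.pow_apply]
    exact hφ x.toMul
  obtain ⟨a, w, hw, hw2⟩ := hup_eig_lin σ hσ (Additive.ofMul v) (fun h => hv h)
  refine ⟨a.val, Additive.toMul w, fun h => hw h, ?_⟩
  have h3 : a • w = a.val • w := by
    conv_lhs => rw [← ZMod.natCast_zmod_val a]
    exact Nat.cast_smul_eq_nsmul (ZMod p) a.val w
  rw [h3] at hw2
  exact hw2

theorem hup_eig_grp_comm {A : Type u} [CommGroup A] (p : ℕ) [hp : Fact p.Prime]
    (hexp : ∀ a : A, a ^ p = 1) (φ : A →* A)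
    (hφ : ∀ a : A, (φ^[p]) a = φ a) (v : A) (hv : v ≠ 1) :
    ∃ (l : ℕ) (w : A), w ≠ 1 ∧ φ w = w ^ l := by
  letI : Module (ZMod p) (Additive A) := AddCommGroup.zmodModule (n := p) (G := Additive A)
    (fun x => by
      show Additive.ofMul (x.toMul ^ p) = 0
      rw [hexp]; rfl)
  exact hup_eig_grp_aux p φ hφ v hv

/-- Eigenvector for an endomorphism `φ` with `φ^p = φ` of a commutative group of exponent `p`. -/
theorem hup_eig_grp {A : Type u} [Group A] (hcomm : ∀ a b : A, a * b = b * a) (p : ℕ)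
    [hp : Fact p.Prime] (hexp : ∀ a : A, a ^ p = 1) (φ : A →* A)
    (hφ : ∀ a : A, (φ^[p]) a = φ a) (v : A) (hv : v ≠ 1) :
    ∃ (l : ℕ) (w : A), w ≠ 1 ∧ φ w = w ^ l := by
  letI : CommGroup A := { (inferInstance : Group A) with mul_comm := hcomm }
  exact hup_eig_grp_comm p hexp φ hφ v hv

theorem hup_conj_iter {G : Type u} [Group G] (N : Subgroup G) [N.Normal] (g : G) (k : ℕ) (n : N) :
    (((⇑((MulAut.conjNormal g : MulAut N).toMonoidHom))^[k] n : N) : G) =
      g ^ k * n * (g ^ k)⁻¹ := by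
  induction k with
  | zero => simp
  | succ k ih =>
    rw [Function.iterate_succ_apply']
    show g * ((⇑((MulAut.conjNormal g : MulAut N).toMonoidHom))^[k] n : N) * g⁻¹ = _
    rw [ih, pow_succ']
    group

theorem hup_eig_conj {G : Type u} [Group G] (N : Subgroup G) [N.Normal]
    (hcomm : ∀ a ∈ N, ∀ b ∈ N, a * b = b * a) (p : ℕ) [hp : Fact p.Prime]
    (hexp : ∀ a ∈ N, a ^ p = 1) (g : G) (hg : ∀ n ∈ N, g ^ (p - 1) * n = n * g ^ (p - 1))
    (v : G) (hv : v ∈ N) (hv1 : v ≠ 1) :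
    ∃ (l : ℕ) (w : G), w ∈ N ∧ w ≠ 1 ∧ g * w * g⁻¹ = w ^ l := by
  obtain ⟨l, w, hw1, hw2⟩ := hup_eig_grp (A := N) (fun a b => Subtype.ext (hcomm a a.2 b b.2)) p
    (fun a => Subtype.ext (by simpa using hexp a a.2))
    ((MulAut.conjNormal g : MulAut N).toMonoidHom)
    (fun a => by
      apply Subtype.ext
      rw [hup_conj_iter]
      show _ = g * (a : G) * g⁻¹
      have hp1 : p = (p - 1) + 1 := (Nat.succ_pred_eq_of_pos hp.1.pos).symm
      have h2 := hg a a.2
      calc g ^ p * (a : G) * (g ^ p)⁻¹ = g ^ ((p - 1) + 1) * (a : G) * (g ^ ((p - 1) + 1))⁻¹ := by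
            rw [← hp1]
        _ = g * (g ^ (p - 1) * (a : G)) * (g ^ (p - 1))⁻¹ * g⁻¹ := by rw [pow_succ']; group
        _ = g * ((a : G) * g ^ (p - 1)) * (g ^ (p - 1))⁻¹ * g⁻¹ := by rw [h2]
        _ = g * (a : G) * g⁻¹ := by group)
    ⟨v, hv⟩ (fun h => hv1 (congrArg Subtype.val h))
  refine ⟨l, w, w.2, fun h => hw1 (Subtype.ext h), ?_⟩
  have h3 := congrArg Subtype.val hw2
  simpa using h3

/-- A minimal normal elementary abelian `p`-subgroup on which all `(p-1)`-th powers and all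
commutators act trivially contains a normal cyclic subgroup. -/
theorem hup_cyclic_normal {G : Type u} [Group G] (N : Subgroup G) [hNn : N.Normal]
    (hN : N ≠ ⊥) (hmin : ∀ K : Subgroup G, K.Normal → K ≤ N → K = ⊥ ∨ K = N)
    (hcomm : ∀ a ∈ N, ∀ b ∈ N, a * b = b * a) (p : ℕ) [hp : Fact p.Prime]
    (hexp : ∀ a ∈ N, a ^ p = 1)
    (hpow : ∀ g : G, ∀ n ∈ N, g ^ (p - 1) * n = n * g ^ (p - 1))
    (hcom : ∀ a b : G, ∀ n ∈ N, ⁅a, b⁆ * n = n * ⁅a, b⁆) :
    ∃ v : G, v ≠ 1 ∧ (zpowers v).Normal := by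
  obtain ⟨v, hvN, hv1⟩ : ∃ v ∈ N, v ≠ 1 := by
    by_contra hne
    push Not at hne
    exact hN ((Subgroup.eq_bot_iff_forall N).mpr hne)
  have key : ∀ g : G, ∃ l : ℕ, g * v * g⁻¹ = v ^ l := by
    intro g
    obtain ⟨l, w, hwN, hw1, hw⟩ := hup_eig_conj N hcomm p hexp g (hpow g) v hvN hv1
    let E : Subgroup G :=
      { carrier := {y | y ∈ N ∧ g * y * g⁻¹ = y ^ l}
        mul_mem' := by
          rintro a b ⟨ha, ha2⟩ ⟨hb, hb2⟩
          refine ⟨N.mul_mem ha hb, ?_⟩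
          have hc : Commute a b := hcomm a ha b hb
          rw [hc.mul_pow, ← ha2, ← hb2]
          group
        one_mem' := ⟨N.one_mem, by simp⟩
        inv_mem' := by
          rintro a ⟨ha, ha2⟩
          refine ⟨N.inv_mem ha, ?_⟩
          rw [inv_pow, ← ha2]
          group }
    have hEn : E.Normal := by
      constructor
      rintro y ⟨hy, hy2⟩ t
      refine ⟨hNn.conj_mem y hy t, ?_⟩
      have hc := hcom g⁻¹ t⁻¹ y hy
      rw [commutatorElement_def] at hc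
      calc g * (t * y * t⁻¹) * g⁻¹
          = t * (g * ((g⁻¹ * t⁻¹ * g⁻¹⁻¹ * t⁻¹⁻¹) * y) * (g⁻¹ * t⁻¹ * g⁻¹⁻¹ * t⁻¹⁻¹)⁻¹ * g⁻¹)
              * t⁻¹ := by group
        _ = t * (g * (y * (g⁻¹ * t⁻¹ * g⁻¹⁻¹ * t⁻¹⁻¹)) * (g⁻¹ * t⁻¹ * g⁻¹⁻¹ * t⁻¹⁻¹)⁻¹ * g⁻¹)
              * t⁻¹ := by rw [hc]
        _ = t * (g * y * g⁻¹) * t⁻¹ := by group
        _ = t * y ^ l * t⁻¹ := by rw [hy2]
        _ = (t * y * t⁻¹) ^ l := (conj_pow).symm
    have hEN : E ≤ N := fun y hy => hy.1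
    have hwE : w ∈ E := ⟨hwN, hw⟩
    rcases hmin E hEn hEN with h0 | h1
    · exfalso
      rw [h0, Subgroup.mem_bot] at hwE
      exact hw1 hwE
    · have hvE : v ∈ E := h1 ▸ hvN
      exact ⟨l, hvE.2⟩
  refine ⟨v, hv1, ⟨fun x hx g => ?_⟩⟩
  obtain ⟨k, rfl⟩ := mem_zpowers_iff.mp hx
  obtain ⟨l, hl⟩ := key g
  rw [← conj_zpow, hl]
  exact zpow_mem (pow_mem (mem_zpowers v) l) k

/-- If `D ≤ P` are normal in `G` with `[P : D] = p` prime, then `P`, all `(p-1)`-th powers and all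
commutators act trivially on `P / D`. -/
theorem hup_kb {G : Type u} [Group G] [Finite G] (P D : Subgroup G) [hP : P.Normal]
    [hD : D.Normal] (hDP : D ≤ P) (p : ℕ) [hp : Fact p.Prime] (hidx : D.relIndex P = p) :
    (∀ x ∈ P, ∀ u ∈ P, x * u * x⁻¹ * u⁻¹ ∈ D) ∧
    (∀ g : G, ∀ u ∈ P, g ^ (p - 1) * u * (g ^ (p - 1))⁻¹ * u⁻¹ ∈ D) ∧
    (∀ a b : G, ∀ u ∈ P, ⁅a, b⁆ * u * ⁅a, b⁆⁻¹ * u⁻¹ ∈ D) := by
  have hf : Function.Surjective (QuotientGroup.mk' D) := QuotientGroup.mk'_surjective D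
  have hker : (QuotientGroup.mk' D).ker = D := QuotientGroup.ker_mk' D
  have hPn : (P.map (QuotientGroup.mk' D)).Normal := hP.map _ hf
  have hcard : Nat.card (P.map (QuotientGroup.mk' D)) = p := by
    have h1 := Subgroup.relIndex_map_map (QuotientGroup.mk' D) D P
    rw [hker, sup_idem, sup_eq_left.mpr hDP, hidx,
      (Subgroup.map_eq_bot_iff D).mpr (le_of_eq hker.symm), Subgroup.relIndex_bot_left] at h1
    exact h1
  have hcyc : IsCyclic (P.map (QuotientGroup.mk' D)) := isCyclic_of_prime_card hcard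
  have hautc : Nat.card (MulAut (P.map (QuotientGroup.mk' D))) = p - 1 := by
    rw [IsCyclic.card_mulAut, hcard, Nat.totient_prime hp.1]
  have key : ∀ k : G,
      (MulAut.conjNormal (QuotientGroup.mk' D k) : MulAut (P.map (QuotientGroup.mk' D))) = 1 →
      ∀ u ∈ P, k * u * k⁻¹ * u⁻¹ ∈ D := by
    intro k hk u hu
    have h1 := congrArg (fun e : MulAut (P.map (QuotientGroup.mk' D)) =>
      ((e ⟨QuotientGroup.mk' D u, Subgroup.mem_map_of_mem _ hu⟩ :
        P.map (QuotientGroup.mk' D)) : G ⧸ D)) hk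
    simp only [MulAut.conjNormal_apply, MulAut.one_apply] at h1
    rw [← hker, MonoidHom.mem_ker, map_mul, map_mul, map_mul, map_inv, map_inv, h1,
      mul_inv_cancel]
  refine ⟨fun x hx u hu => ?_, fun g u hu => key _ ?_ u hu, fun a b u hu => key _ ?_ u hu⟩
  · have h1 := mul_comm' (⟨QuotientGroup.mk' D x, Subgroup.mem_map_of_mem _ hx⟩ :
      P.map (QuotientGroup.mk' D)) ⟨QuotientGroup.mk' D u, Subgroup.mem_map_of_mem _ hu⟩
    have h2 := congrArg Subtype.val h1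
    simp only [Subgroup.coe_mul] at h2
    rw [← hker, MonoidHom.mem_ker, map_mul, map_mul, map_mul, map_inv, map_inv, h2]
    group
  · rw [map_pow, map_pow, ← hautc]
    exact pow_card_eq_one'
  · rw [map_commutatorElement, map_commutatorElement]
    apply (IsCyclic.mulAutMulEquiv (P.map (QuotientGroup.mk' D))).injective
    rw [map_commutatorElement, map_one, commutatorElement_eq_one_iff_commute]
    exact Commute.all _ _

/-- The subgroup of elements acting trivially on `P / D` for all `D` in a family of normal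
subgroups. -/
def hupK {G : Type u} [Group G] (P : Subgroup G) (𝒟 : Set (Subgroup G))
    (h𝒟 : ∀ D ∈ 𝒟, D.Normal) : Subgroup G where
  carrier := {k | ∀ D ∈ 𝒟, ∀ u ∈ P, k * u * k⁻¹ * u⁻¹ ∈ D}
  mul_mem' := by
    intro a b ha hb D hD u hu
    have hn := h𝒟 D hD
    have e : a * b * u * (a * b)⁻¹ * u⁻¹ = a * (b * u * b⁻¹ * u⁻¹) * a⁻¹ * (a * u * a⁻¹ * u⁻¹) := by
      group
    rw [e]
    exact D.mul_mem (hn.conj_mem _ (hb D hD u hu) a) (ha D hD u hu)
  one_mem' := by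
    intro D hD u hu
    have e : (1 : G) * u * 1⁻¹ * u⁻¹ = 1 := by group
    rw [e]
    exact D.one_mem
  inv_mem' := by
    intro a ha D hD u hu
    have hn := h𝒟 D hD
    have e : a⁻¹ * u * a⁻¹⁻¹ * u⁻¹ = a⁻¹ * (a * u * a⁻¹ * u⁻¹)⁻¹ * a⁻¹⁻¹ := by group
    rw [e]
    exact hn.conj_mem _ (D.inv_mem (ha D hD u hu)) a⁻¹

theorem mem_hupK {G : Type u} [Group G] (P : Subgroup G) (𝒟 : Set (Subgroup G))
    (h𝒟 : ∀ D ∈ 𝒟, D.Normal) (k : G) :
    k ∈ hupK P 𝒟 h𝒟 ↔ ∀ D ∈ 𝒟, ∀ u ∈ P, k * u * k⁻¹ * u⁻¹ ∈ D := Iff.rfl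

theorem hupK_normal {G : Type u} [Group G] (P : Subgroup G) [hP : P.Normal]
    (𝒟 : Set (Subgroup G)) (h𝒟 : ∀ D ∈ 𝒟, D.Normal) : (hupK P 𝒟 h𝒟).Normal := by
  constructor
  intro k hk g D hD u hu
  have hn := h𝒟 D hD
  have hu' : g⁻¹ * u * g⁻¹⁻¹ ∈ P := hP.conj_mem u hu g⁻¹
  have e : g * k * g⁻¹ * u * (g * k * g⁻¹)⁻¹ * u⁻¹ =
      g * (k * (g⁻¹ * u * g⁻¹⁻¹) * k⁻¹ * (g⁻¹ * u * g⁻¹⁻¹)⁻¹) * g⁻¹ := by group
  rw [e]
  exact hn.conj_mem _ (hk D hD _ hu') g

theorem hup_inf_normal {G : Type u} [Group G] [Finite G] (p : ℕ) [hp : Fact p.Prime]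
    (P : Sylow p G) [hPn : (P : Subgroup G).Normal] (M : Subgroup G) (hM : IsCoatom M)
    (hMi : M.index.Prime) (hPM : ¬ (P : Subgroup G) ≤ M) :
    ((P : Subgroup G) ⊓ M).Normal ∧ ((P : Subgroup G) ⊓ M).relIndex P = p := by
  have hsup : M ⊔ (P : Subgroup G) = ⊤ := by
    apply hM.2
    refine lt_of_le_of_ne le_sup_left (fun h => hPM ?_)
    rw [h]; exact le_sup_right
  have h1 := Subgroup.relIndex_mul_index (inf_le_left : (P : Subgroup G) ⊓ M ≤ P)
  have h2 := Subgroup.relIndex_mul_index (inf_le_right : (P : Subgroup G) ⊓ M ≤ M)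
  have h3 : ((P : Subgroup G) ⊓ M).relIndex M = (P : Subgroup G).index := by
    rw [Subgroup.inf_relIndex_right, ← Subgroup.relIndex_sup_right M (P : Subgroup G), hsup,
      Subgroup.relIndex_top_right]
  have hPi : (P : Subgroup G).index ≠ 0 := Subgroup.index_ne_zero_of_finite
  have h4 : ((P : Subgroup G) ⊓ M).relIndex P = M.index := by
    rw [h3, ← h1, mul_comm] at h2
    exact (Nat.eq_of_mul_eq_mul_right (Nat.pos_of_ne_zero hPi) h2).symm
  obtain ⟨k, hk⟩ := IsPGroup.iff_card.mp P.isPGroup'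
  have hdvd : M.index ∣ p ^ k := by
    rw [← h4, ← hk]
    exact Subgroup.relIndex_dvd_card _ _
  have hqp : M.index = p := (Nat.prime_dvd_prime_iff_eq hMi hp.1).mp (hMi.dvd_of_dvd_pow hdvd)
  have hidx : ((P : Subgroup G) ⊓ M).relIndex P = p := h4.trans hqp
  refine ⟨?_, hidx⟩
  have hk0 : k ≠ 0 := by
    rintro rfl
    rw [pow_zero] at hdvd
    exact hMi.one_lt.ne' (Nat.dvd_one.mp hdvd)
  have hn1 : (((P : Subgroup G) ⊓ M).subgroupOf P).Normal := by
    apply Subgroup.normal_of_index_eq_minFac_card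
    show ((P : Subgroup G) ⊓ M).relIndex P = _
    rw [hidx, hk, Nat.Prime.pow_minFac hp.1 hk0]
  have hle1 : (P : Subgroup G) ≤ normalizer (((P : Subgroup G) ⊓ M : Subgroup G) : Set G) :=
    (Subgroup.normal_subgroupOf_iff_le_normalizer inf_le_left).mp hn1
  have hle2 : M ≤ normalizer (((P : Subgroup G) ⊓ M : Subgroup G) : Set G) := by
    rw [Subgroup.le_normalizer_iff]
    intro m hm x hx
    obtain ⟨hx1, hx2⟩ := Subgroup.mem_inf.mp hx
    exact Subgroup.mem_inf.mpr ⟨hPn.conj_mem x hx1 m, M.mul_mem (M.mul_mem hm hx2) (M.inv_mem hm)⟩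
  exact Subgroup.normalizer_eq_top_iff.mp (top_le_iff.mp (hsup ▸ sup_le hle2 hle1))

theorem hup_centralize {G : Type u} [Group G] [Finite G]
    (h : ∀ M : Subgroup G, IsCoatom M → M.index.Prime) (p : ℕ) [hp : Fact p.Prime]
    (P : Sylow p G) [hPn : (P : Subgroup G).Normal] (N : Subgroup G) (hNP : N ≤ P)
    (hNZ : ∀ n ∈ N, ∀ x ∈ (P : Subgroup G), n * x = x * n) :
    (∀ g : G, ∀ n ∈ N, g ^ (p - 1) * n = n * g ^ (p - 1)) ∧
    (∀ a b : G, ∀ n ∈ N, ⁅a, b⁆ * n = n * ⁅a, b⁆) := by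
  let 𝒟 : Set (Subgroup G) :=
    {D | ∃ M : Subgroup G, IsCoatom M ∧ ¬ (P : Subgroup G) ≤ M ∧ D = (P : Subgroup G) ⊓ M}
  have h𝒟 : ∀ D ∈ 𝒟, D.Normal := by
    rintro D ⟨M, hM, hPM, rfl⟩
    exact (hup_inf_normal p P M hM (h M hM) hPM).1
  have h𝒟i : ∀ D ∈ 𝒟, D ≤ (P : Subgroup G) ∧ D.relIndex P = p := by
    rintro D ⟨M, hM, hPM, rfl⟩
    exact ⟨inf_le_left, (hup_inf_normal p P M hM (h M hM) hPM).2⟩
  have hK₁n : (hupK (P : Subgroup G) 𝒟 h𝒟).Normal := hupK_normal _ 𝒟 h𝒟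
  have hF1 : (P : Subgroup G) ≤ hupK (P : Subgroup G) 𝒟 h𝒟 := by
    intro x hx D hD u hu
    haveI := h𝒟 D hD
    exact (hup_kb (P : Subgroup G) D (h𝒟i D hD).1 p (h𝒟i D hD).2).1 x hx u hu
  have hF2 : ∀ g : G, g ^ (p - 1) ∈ hupK (P : Subgroup G) 𝒟 h𝒟 := by
    intro g D hD u hu
    haveI := h𝒟 D hD
    exact (hup_kb (P : Subgroup G) D (h𝒟i D hD).1 p (h𝒟i D hD).2).2.1 g u hu
  have hF3 : ∀ a b : G, ⁅a, b⁆ ∈ hupK (P : Subgroup G) 𝒟 h𝒟 := by
    intro a b D hD u hu
    haveI := h𝒟 D hD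
    exact (hup_kb (P : Subgroup G) D (h𝒟i D hD).1 p (h𝒟i D hD).2).2.2 a b u hu
  obtain ⟨H, hH⟩ := Subgroup.exists_right_complement'_of_coprime (N := (P : Subgroup G))
    P.card_coprime_index
  have hsupH : (P : Subgroup G) ⊔ H = ⊤ := hH.sup_eq_top
  have hcardH : Nat.card (P : Subgroup G) * Nat.card H = Nat.card G := hH.card_mul_card
  have hcopH : (Nat.card H).Coprime (Nat.card (P : Subgroup G)) := by
    have h0 := P.card_coprime_index
    rw [hH.symm.index_eq_card] at h0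
    exact h0.symm
  have hsolvG : Group.IsSolvable G := isSolvable_of_coatoms_prime_index _ G rfl h
  have hsolvP : Group.IsSolvable (P : Subgroup G) := inferInstance
  have hPtop : normalizer ((P : Subgroup G) : Set G) = ⊤ := Subgroup.normalizer_eq_top_iff.mpr hPn
  have hH₁P : hupK (P : Subgroup G) 𝒟 h𝒟 ⊓ H ≤ normalizer ((P : Subgroup G) : Set G) := by
    rw [hPtop]; exact le_top
  have hcop1 : (Nat.card ↥(hupK (P : Subgroup G) 𝒟 h𝒟 ⊓ H)).Coprime (Nat.card (P : Subgroup G)) :=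
    Nat.Coprime.coprime_dvd_left (Subgroup.card_dvd_of_le inf_le_right) hcopH
  have hcent : ∀ u ∈ (P : Subgroup G), ∀ h₁ ∈ hupK (P : Subgroup G) 𝒟 h𝒟 ⊓ H, h₁ * u = u * h₁ := by
    by_contra hne
    have hCP : (P : Subgroup G) ⊓ centralizer ((hupK (P : Subgroup G) 𝒟 h𝒟 ⊓ H : Subgroup G) : Set G)
        ≤ (P : Subgroup G) := inf_le_left
    have hCne : (P : Subgroup G) ⊓ centralizer ((hupK (P : Subgroup G) 𝒟 h𝒟 ⊓ H : Subgroup G) : Set G)
        ≠ (P : Subgroup G) := by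
      intro hC
      apply hne
      intro u hu h₁ hh₁
      have hu' := hu
      rw [← hC] at hu'
      exact Subgroup.mem_centralizer_iff.mp (Subgroup.mem_inf.mp hu').2 h₁ hh₁
    have hHC : H ≤ normalizer (((P : Subgroup G) ⊓
        centralizer ((hupK (P : Subgroup G) 𝒟 h𝒟 ⊓ H : Subgroup G) : Set G) : Subgroup G) : Set G) := by
      rw [Subgroup.le_normalizer_iff]
      intro t ht c hc
      obtain ⟨hc1, hc2⟩ := Subgroup.mem_inf.mp hc
      refine Subgroup.mem_inf.mpr ⟨hPn.conj_mem c hc1 t, ?_⟩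
      rw [Subgroup.mem_centralizer_iff]
      intro h₁ hh₁
      have hh₁' : t⁻¹ * h₁ * t⁻¹⁻¹ ∈ hupK (P : Subgroup G) 𝒟 h𝒟 ⊓ H :=
        Subgroup.mem_inf.mpr ⟨hK₁n.conj_mem h₁ (Subgroup.mem_inf.mp hh₁).1 t⁻¹,
          H.mul_mem (H.mul_mem (H.inv_mem ht) (Subgroup.mem_inf.mp hh₁).2)
            (H.inv_mem (H.inv_mem ht))⟩
      have e := Subgroup.mem_centralizer_iff.mp hc2 _ hh₁'
      calc h₁ * (t * c * t⁻¹) = t * ((t⁻¹ * h₁ * t⁻¹⁻¹) * c) * t⁻¹ := by group
        _ = t * (c * (t⁻¹ * h₁ * t⁻¹⁻¹)) * t⁻¹ := by rw [e]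
        _ = t * c * t⁻¹ * h₁ := by group
    have hcopC : (Nat.card H).Coprime (Nat.card ↥((P : Subgroup G) ⊓
        centralizer ((hupK (P : Subgroup G) 𝒟 h𝒟 ⊓ H : Subgroup G) : Set G))) :=
      Nat.Coprime.coprime_dvd_right (Subgroup.card_dvd_of_le hCP) hcopH
    have hcardL := Cfsg.Agent.Lib.Helper7.card_sup_of_coprime hHC hcopC
    have hLne : H ⊔ ((P : Subgroup G) ⊓
        centralizer ((hupK (P : Subgroup G) 𝒟 h𝒟 ⊓ H : Subgroup G) : Set G)) ≠ ⊤ := by
      intro hL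
      apply hCne
      apply Subgroup.eq_of_le_of_card_ge hCP
      rw [hL, Subgroup.card_top, ← hcardH] at hcardL
      have hHpos : 0 < Nat.card H := Nat.card_pos
      exact (Nat.eq_of_mul_eq_mul_right hHpos hcardL).le
    obtain ⟨M₀, hM₀, hLM⟩ := (eq_top_or_exists_le_coatom _).resolve_left hLne
    have hPM₀ : ¬ (P : Subgroup G) ≤ M₀ := by
      intro hle
      apply hM₀.1
      rw [eq_top_iff, ← hsupH]
      exact sup_le hle (le_sup_left.trans hLM)
    have hD₀ : (P : Subgroup G) ⊓ M₀ ∈ 𝒟 := ⟨M₀, hM₀, hPM₀, rfl⟩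
    have hcomle : ⁅(P : Subgroup G), hupK (P : Subgroup G) 𝒟 h𝒟 ⊓ H⁆ ≤ (P : Subgroup G) ⊓ M₀ := by
      rw [Subgroup.commutator_le]
      intro u hu h₁ hh₁
      have h6 := (Subgroup.mem_inf.mp hh₁).1 _ hD₀ u hu
      have e : ⁅u, h₁⁆ = (h₁ * u * h₁⁻¹ * u⁻¹)⁻¹ := by rw [commutatorElement_def]; group
      rw [e]
      exact Subgroup.inv_mem _ h6
    apply hPM₀
    intro u hu
    obtain ⟨x, hx, c, hc, rfl⟩ := Cfsg.Agent.Lib.Helper7.exists_commutator_mul_centralizer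
      (hupK (P : Subgroup G) 𝒟 h𝒟 ⊓ H) (P : Subgroup G) hH₁P hcop1 (Or.inr hsolvP) u hu
    exact M₀.mul_mem (Subgroup.mem_inf.mp (hcomle hx)).2 (hLM (Subgroup.mem_sup_right hc))
  have hF4 : ∀ k ∈ hupK (P : Subgroup G) 𝒟 h𝒟, ∀ n ∈ N, k * n = n * k := by
    intro k hk n hn
    have hkt : k ∈ (P : Subgroup G) ⊔ H := hsupH ▸ Subgroup.mem_top k
    obtain ⟨x, hx, t, ht, rfl⟩ := Cfsg.Agent.Lib.Helper7.exists_mul_of_mem_sup
      (N := (P : Subgroup G)) (A := H) (by rw [hPtop]; exact le_top) hkt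
    have htK : t ∈ hupK (P : Subgroup G) 𝒟 h𝒟 := by
      have e : t = x⁻¹ * (x * t) := by group
      rw [e]
      exact Subgroup.mul_mem _ (Subgroup.inv_mem _ (hF1 hx)) hk
    have e1 := hcent n (hNP hn) t (Subgroup.mem_inf.mpr ⟨htK, ht⟩)
    have e2 := hNZ n hn x hx
    calc x * t * n = x * (t * n) := by group
      _ = x * (n * t) := by rw [e1]
      _ = (x * n) * t := by group
      _ = (n * x) * t := by rw [e2]
      _ = n * (x * t) := by group
  exact ⟨fun g n hn => hF4 _ (hF2 g) n hn, fun a b n hn => hF4 _ (hF3 a b) n hn⟩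

theorem hup_exists_normal_zpowers {G : Type u} [Group G] [Finite G] [Nontrivial G]
    (h : ∀ M : Subgroup G, IsCoatom M → M.index.Prime) :
    ∃ v : G, v ≠ 1 ∧ (zpowers v).Normal := by
  have hsolvG : Group.IsSolvable G := isSolvable_of_coatoms_prime_index _ G rfl h
  have hn1 : 1 < Nat.card G := Finite.one_lt_card_iff_nontrivial.mpr inferInstance
  obtain ⟨p, hp, hpn, hmax⟩ := exists_largest_prime hn1
  have hpf : Fact p.Prime := ⟨hp⟩
  obtain ⟨P⟩ : Nonempty (Sylow p G) := inferInstance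
  have hPn : (P : Subgroup G).Normal := sylow_normal_of_coatoms_prime_index h p hmax P
  have hPbot : (P : Subgroup G) ≠ ⊥ := by
    intro hb
    have h1 := sylow_card_ne_one p hpn P
    rw [hb, Subgroup.card_bot] at h1
    exact lt_irrefl _ h1
  obtain ⟨N, hNP, hNn, hN, hmin⟩ := exists_minimal_normal_le (P : Subgroup G) hPn hPbot
  have hcomm := minimal_normal_comm N hN hmin
  have hPnil : Group.IsNilpotent (P : Subgroup G) := P.isPGroup'.isNilpotent
  -- N ≤ Z(P)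
  have hNZ : ∀ n ∈ N, ∀ x ∈ (P : Subgroup G), n * x = x * n := by
    obtain ⟨z, hzN, hz1, hz⟩ := kw_exists_central_in hPnil N hNP
      (by rw [Subgroup.normalizer_eq_top_iff.mpr hNn]; exact le_top) hN
    have hZn : (N ⊓ centralizer ((P : Subgroup G) : Set G)).Normal := inferInstance
    have hzZ : z ∈ N ⊓ centralizer ((P : Subgroup G) : Set G) := by
      refine Subgroup.mem_inf.mpr ⟨hzN, ?_⟩
      rw [Subgroup.mem_centralizer_iff]
      intro x hx
      exact (hz x hx).symm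
    rcases hmin _ hZn inf_le_left with h0 | h1
    · exfalso
      rw [h0, Subgroup.mem_bot] at hzZ
      exact hz1 hzZ
    · intro n hn x hx
      have hn' := hn
      rw [← h1] at hn'
      exact (Subgroup.mem_centralizer_iff.mp (Subgroup.mem_inf.mp hn').2 x hx).symm
  -- exponent p
  have hexp : ∀ a ∈ N, a ^ p = 1 := by
    let Ω : Subgroup G :=
      { carrier := {y | y ∈ N ∧ y ^ p = 1}
        mul_mem' := by
          rintro a b ⟨ha, ha2⟩ ⟨hb, hb2⟩
          refine ⟨N.mul_mem ha hb, ?_⟩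
          have hc : Commute a b := hcomm a ha b hb
          rw [hc.mul_pow, ha2, hb2, one_mul]
        one_mem' := ⟨N.one_mem, one_pow p⟩
        inv_mem' := by
          rintro a ⟨ha, ha2⟩
          exact ⟨N.inv_mem ha, by rw [inv_pow, ha2, inv_one]⟩ }
    have hΩn : Ω.Normal := by
      constructor
      rintro y ⟨hy, hy2⟩ t
      exact ⟨hNn.conj_mem y hy t, by rw [conj_pow, hy2, mul_one, mul_inv_cancel]⟩
    have hΩN : Ω ≤ N := fun y hy => hy.1
    have hNpg : IsPGroup p N := P.isPGroup'.to_le hNP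
    have hdvd : p ∣ Nat.card N := by
      obtain ⟨k, hk⟩ := IsPGroup.iff_card.mp hNpg
      have hk0 : k ≠ 0 := by
        rintro rfl
        rw [pow_zero] at hk
        exact hN (Subgroup.card_eq_one.mp hk)
      rw [hk]
      exact dvd_pow_self p hk0
    obtain ⟨x, hx⟩ := exists_prime_orderOf_dvd_card' (G := N) p hdvd
    have hxΩ : (x : G) ∈ Ω := by
      refine ⟨x.2, ?_⟩
      have h1 := pow_orderOf_eq_one x
      rw [hx] at h1
      have h2 := congrArg Subtype.val h1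
      simpa using h2
    rcases hmin Ω hΩn hΩN with h0 | h1
    · exfalso
      rw [h0, Subgroup.mem_bot] at hxΩ
      have hx1 : x = 1 := Subtype.ext hxΩ
      rw [hx1, orderOf_one] at hx
      exact hp.one_lt.ne hx
    · intro a ha
      have ha' := ha
      rw [← h1] at ha'
      exact ha'.2
  obtain ⟨hpow, hcom⟩ := hup_centralize h p P N hNP hNZ
  exact hup_cyclic_normal N hN hmin hcomm p hexp hpow hcom

/-- **Huppert**: a finite group all of whose maximal subgroups have prime index is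
supersolvable. -/
theorem hup_main : ∀ (n : ℕ) (G : Type u) [Group G] [Finite G], Nat.card G = n →
    (∀ M : Subgroup G, IsCoatom M → M.index.Prime) → Cfsg.IsSupersolvable G := by
  intro n
  induction n using Nat.strong_induction_on with
  | _ n ih =>
    intro G _ _ hcard h
    rcases subsingleton_or_nontrivial G with hs | hnt
    · exact isSupersolvable_of_subsingleton
    · obtain ⟨v, hv1, hvn⟩ := hup_exists_normal_zpowers h
      have hq := coatoms_prime_index_quotient h (zpowers v)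
      have hlt : Nat.card (G ⧸ zpowers v) < n := by
        have h1 : Nat.card (zpowers v) * Nat.card (G ⧸ zpowers v) = Nat.card G := by
          rw [← Subgroup.index_eq_card, Subgroup.card_mul_index]
        have h2 : 0 < Nat.card (G ⧸ zpowers v) := Nat.card_pos
        have h3 : 1 < Nat.card (zpowers v) := by
          rw [Nat.card_zpowers]
          have h4 : orderOf v ≠ 1 := fun h5 => hv1 (orderOf_eq_one_iff.mp h5)
          have h5 : 0 < orderOf v := orderOf_pos v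
          omega
        rw [← hcard]
        nlinarith
      have hss := ih _ hlt (G ⧸ zpowers v) rfl hq
      have hcyc : IsCyclic (zpowers v) := inferInstance
      exact isSupersolvable_of_ssc_of_quotient (zpowers v) (SSC.of_isCyclic _) hss

end Cfsg.Agent.Lib.Helper9
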