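import Mathlib

set_option autoImplicit false

namespace Cfsg.Agent.Lib.Helper9

open Subgroup
open scoped Pointwise

universe u

theorem mul_comm_of_exists_subgroup {G : Type u} [Group G] {X Y : Subgroup G}
    (h : ∃ S : Subgroup G, (S : Set G) = (X : Set G) * (Y : Set G)) :
    (X : Set G) * (Y : Set G) = (Y : Set G) * (X : Set G) := by
  obtain ⟨S, hS⟩ := h
  have h1 : ((X : Set G) * (Y : Set G))⁻¹ = (X : Set G) * (Y : Set G) := by
    rw [← hS, inv_coe_set]
  rw [mul_inv_rev, inv_coe_set, inv_coe_set] at h1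
  exact h1.symm

theorem coe_sup_of_mul_comm {G : Type u} [Group G] {X Y : Subgroup G}
    (h : (X : Set G) * (Y : Set G) = (Y : Set G) * (X : Set G)) :
    ((X ⊔ Y : Subgroup G) : Set G) = (X : Set G) * (Y : Set G) := by
  let T : Subgroup G :=
    { carrier := (X : Set G) * (Y : Set G)
      mul_mem' := by
        rintro _ _ ⟨x, hx, y, hy, rfl⟩ ⟨x', hx', y', hy', rfl⟩
        have h1 : y * x' ∈ (Y : Set G) * (X : Set G) := Set.mul_mem_mul hy hx'
        rw [← h] at h1
        obtain ⟨x'', hx'', y'', hy'', e⟩ := h1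
        have e : x'' * y'' = y * x' := e
        refine ⟨x * x'', X.mul_mem hx hx'', y'' * y', Y.mul_mem hy'' hy', ?_⟩
        calc x * x'' * (y'' * y') = x * (x'' * y'') * y' := by group
          _ = x * (y * x') * y' := by rw [e]
          _ = x * y * (x' * y') := by group
      one_mem' := ⟨1, X.one_mem, 1, Y.one_mem, by simp⟩
      inv_mem' := by
        rintro _ ⟨x, hx, y, hy, rfl⟩
        have h1 : y⁻¹ * x⁻¹ ∈ (Y : Set G) * (X : Set G) :=
          Set.mul_mem_mul (Y.inv_mem hy) (X.inv_mem hx)
        rw [← h] at h1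
        rw [mul_inv_rev]
        exact h1 }
  have hT : (T : Set G) = (X : Set G) * (Y : Set G) := rfl
  have e : X ⊔ Y = T := by
    apply le_antisymm
    · apply sup_le
      · intro x hx
        exact ⟨x, hx, 1, Y.one_mem, by simp⟩
      · intro y hy
        exact ⟨1, X.one_mem, y, hy, by simp⟩
    · rintro _ ⟨x, hx, y, hy, rfl⟩
      exact Subgroup.mul_mem _ (mem_sup_left hx) (mem_sup_right hy)
  rw [e, hT]

theorem mul_comm_sup {G : Type u} [Group G] {X X' Y : Subgroup G}
    (h : (X : Set G) * (Y : Set G) = (Y : Set G) * (X : Set G))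
    (h' : (X' : Set G) * (Y : Set G) = (Y : Set G) * (X' : Set G)) :
    ((X ⊔ X' : Subgroup G) : Set G) * (Y : Set G) = (Y : Set G) * ((X ⊔ X' : Subgroup G) : Set G) := by
  have key : ∀ j ∈ closure ((X : Set G) ∪ (X' : Set G)), ∀ y ∈ Y,
      y * j ∈ ((X ⊔ X' : Subgroup G) : Set G) * (Y : Set G) := by
    intro j hj
    have gen : ∀ x ∈ (X : Set G) ∪ (X' : Set G), ∀ y ∈ Y,
        y * x ∈ ((X ⊔ X' : Subgroup G) : Set G) * (Y : Set G) := by
      intro x hx y hy
      rcases hx with hx | hx
      · have h1 : y * x ∈ (Y : Set G) * (X : Set G) := Set.mul_mem_mul hy hx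
        rw [← h] at h1
        obtain ⟨x', hx', y', hy', e⟩ := h1
        exact ⟨x', mem_sup_left hx', y', hy', e⟩
      · have h1 : y * x ∈ (Y : Set G) * (X' : Set G) := Set.mul_mem_mul hy hx
        rw [← h'] at h1
        obtain ⟨x', hx', y', hy', e⟩ := h1
        exact ⟨x', mem_sup_right hx', y', hy', e⟩
    induction hj using Subgroup.closure_induction'' with
    | mem x hx => exact gen x hx
    | inv_mem x hx =>
      apply gen
      rcases hx with hx | hx
      · exact Or.inl (X.inv_mem hx)
      · exact Or.inr (X'.inv_mem hx)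
    | one =>
      intro y hy
      exact ⟨1, Subgroup.one_mem _, y, hy, by simp⟩
    | mul a b _ _ iha ihb =>
      intro y hy
      obtain ⟨j', hj', y', hy', e⟩ := iha y hy
      obtain ⟨j'', hj'', y'', hy'', e'⟩ := ihb y' hy'
      have e : j' * y' = y * a := e
      have e' : j'' * y'' = y' * b := e'
      refine ⟨j' * j'', Subgroup.mul_mem _ hj' hj'', y'', hy'', ?_⟩
      calc j' * j'' * y'' = j' * (j'' * y'') := by group
        _ = j' * (y' * b) := by rw [e']
        _ = (j' * y') * b := by group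
        _ = y * a * b := by rw [e]
        _ = y * (a * b) := by group
  have hsup : X ⊔ X' = closure ((X : Set G) ∪ (X' : Set G)) := by
    rw [Subgroup.closure_union, Subgroup.closure_eq, Subgroup.closure_eq]
  have sub : (Y : Set G) * ((X ⊔ X' : Subgroup G) : Set G) ⊆
      ((X ⊔ X' : Subgroup G) : Set G) * (Y : Set G) := by
    rintro _ ⟨y, hy, j, hj, rfl⟩
    exact key j (by rw [← hsup]; exact hj) y hy
  apply Set.Subset.antisymm
  · have h2 := Set.inv_subset_inv.mpr sub
    rw [mul_inv_rev, mul_inv_rev, inv_coe_set, inv_coe_set] at h2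
    exact h2
  · exact sub

end Cfsg.Agent.Lib.Helper9
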