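import Mathlib
import Cfsg.Agent.Lib.Helper9.KW1
import Cfsg.Agent.S0562
import Cfsg.Agent.S0566
import Cfsg.Agent.S0558
import Cfsg.Agent.Lib.Helper7.CoprimeSylow

/-! The minimal-counterexample analysis for Wielandt's theorem on products of two nilpotent
subgroups of coprime orders. -/

set_option autoImplicit false
set_option linter.unusedSectionVars false

namespace Cfsg.Agent.Lib.Helper9

open Subgroup
open scoped Pointwise

universe u

variable {G : Type u} [Group G] [Finite G]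

/-- a minimal counterexample to Wielandt's theorem in which neither factor is a `p`-group -/
structure KWcfg (H K : Subgroup G) : Prop where
  fac : ∀ g : G, ∃ h ∈ H, ∃ k ∈ K, g = h * k
  nH : Group.IsNilpotent H
  nK : Group.IsNilpotent K
  cop : (Nat.card H).Coprime (Nat.card K)
  simple : ∀ N : Subgroup G, N.Normal → N = ⊥ ∨ N = ⊤
  ih : ∀ L : Subgroup G, L ≠ ⊤ → ∀ A B : Subgroup G, A ≤ L → B ≤ L → Group.IsNilpotent A →
    Group.IsNilpotent B → (Nat.card A).Coprime (Nat.card B) →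
    (∀ g ∈ L, ∃ a ∈ A, ∃ b ∈ B, g = a * b) → Group.IsSolvable L
  npH : ∀ p : ℕ, p.Prime → ¬ IsPGroup p H
  npK : ∀ p : ℕ, p.Prime → ¬ IsPGroup p K

namespace KWcfg

variable {H K : Subgroup G}

theorem symm (c : KWcfg H K) : KWcfg K H where
  fac := fun g => by
    obtain ⟨h, hh, k, hk, hg⟩ := c.fac g⁻¹
    exact ⟨k⁻¹, K.inv_mem hk, h⁻¹, H.inv_mem hh, by rw [← mul_inv_rev, ← hg, inv_inv]⟩
  nH := c.nK
  nK := c.nH
  cop := c.cop.symm
  simple := c.simple
  ih := fun L hL A B hAL hBL hA hB hcop hfac =>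
    c.ih L hL B A hBL hAL hB hA hcop.symm (fun g hg => by
      obtain ⟨a, ha, b, hb, hab⟩ := hfac g⁻¹ (L.inv_mem hg)
      exact ⟨b⁻¹, B.inv_mem hb, a⁻¹, A.inv_mem ha, by rw [← mul_inv_rev, ← hab, inv_inv]⟩)
  npH := c.npK
  npK := c.npH

theorem eq_one_of_mem (c : KWcfg H K) {x : G} (hH : x ∈ H) (hK : x ∈ K) : x = 1 := by
  have h1 : x ∈ H ⊓ K := ⟨hH, hK⟩
  rw [(Subgroup.disjoint_of_coprime_natCard c.cop).eq_bot] at h1
  exact Subgroup.mem_bot.mp h1

theorem card_eq (c : KWcfg H K) : Nat.card G = Nat.card H * Nat.card K :=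
  kw_card_eq H K c.cop c.fac

theorem hall (c : KWcfg H K) : (Nat.card H).Coprime H.index := by
  rw [kw_index_eq H K c.cop c.fac]
  exact c.cop

theorem ne_bot (c : KWcfg H K) : H ≠ ⊥ := by
  intro h
  apply c.npH 2 Nat.prime_two
  rw [h]
  exact IsPGroup.of_bot

theorem ne_top (c : KWcfg H K) : H ≠ ⊤ := by
  intro h
  have h1 := c.card_eq
  rw [h, Subgroup.card_top] at h1
  have h2 : Nat.card G * Nat.card K = Nat.card G * 1 := by rw [mul_one]; exact h1.symm
  have h3 : Nat.card K = 1 := Nat.eq_of_mul_eq_mul_left Nat.card_pos h2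
  exact c.symm.ne_bot (Subgroup.card_eq_one.mp h3)

theorem not_dvd_K (c : KWcfg H K) {r : ℕ} (hr : r.Prime) (h : r ∣ Nat.card H) :
    ¬ r ∣ Nat.card K :=
  fun h' => hr.one_lt.ne' (kw_eq_one_of_dvd_coprime c.cop h h')

theorem center_eq_bot (c : KWcfg H K) : Subgroup.center G = ⊥ := by
  rcases c.simple (Subgroup.center G) inferInstance with h | h
  · exact h
  · exfalso
    have hHn : H.Normal := by
      constructor
      intro n hn g
      have hg : g ∈ Subgroup.center G := by rw [h]; exact Subgroup.mem_top g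
      have e : g * n * g⁻¹ = n := by
        rw [Subgroup.mem_center_iff] at hg
        rw [← hg n, mul_assoc, mul_inv_cancel, mul_one]
      rw [e]
      exact hn
    rcases c.simple H hHn with h1 | h1
    · exact c.ne_bot h1
    · exact c.ne_top h1

theorem centralizer_ne_top (c : KWcfg H K) {y : G} (hy : y ≠ 1) :
    Subgroup.centralizer ({y} : Set G) ≠ ⊤ := by
  intro h
  apply hy
  have h1 : y ∈ Subgroup.center G := by
    rw [Subgroup.mem_center_iff]
    intro g
    have hg : g ∈ Subgroup.centralizer ({y} : Set G) := by rw [h]; exact Subgroup.mem_top g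
    exact Subgroup.mem_centralizer_singleton_iff.mp hg
  rw [c.center_eq_bot] at h1
  exact Subgroup.mem_bot.mp h1

theorem eq_bot_of_normalizer_top (c : KWcfg H K) {N : Subgroup G}
    (hN : normalizer (N : Set G) = ⊤) (hNt : N ≠ ⊤) : N = ⊥ :=
  (c.simple N (Subgroup.normalizer_eq_top_iff.mp hN)).resolve_right hNt

theorem sy_card (c : KWcfg H K) (r : ℕ) [Fact r.Prime] (hr : ¬ r ∣ Nat.card K) :
    Nat.card (kwSy r H) = r ^ (Nat.card G).factorization r := by
  rw [kwSy_card, c.card_eq, Nat.factorization_mul Nat.card_pos.ne' Nat.card_pos.ne',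
    Finsupp.add_apply, Nat.factorization_eq_zero_of_not_dvd hr, add_zero]

theorem sy_hall (c : KWcfg H K) (r : ℕ) [Fact r.Prime] (hr : ¬ r ∣ Nat.card K) :
    (Nat.card (kwSy r H)).Coprime (kwSy r H).index := by
  have h1 := (Sylow.ofCard (kwSy r H) (c.sy_card r hr)).card_coprime_index
  simpa using h1

theorem cop_inf (c : KWcfg H K) (L : Subgroup G) :
    (Nat.card (L ⊓ H : Subgroup G)).Coprime (Nat.card (L ⊓ K : Subgroup G)) :=
  Nat.Coprime.coprime_dvd_left (Subgroup.card_dvd_of_le inf_le_right)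
    (Nat.Coprime.coprime_dvd_right (Subgroup.card_dvd_of_le inf_le_right) c.cop)

theorem solv_of_fac (c : KWcfg H K) (L : Subgroup G) (hL : L ≠ ⊤)
    (hfac : ∀ g ∈ L, ∃ h ∈ L ⊓ H, ∃ k ∈ L ⊓ K, g = h * k) : Group.IsSolvable L :=
  c.ih L hL (L ⊓ H) (L ⊓ K) inf_le_left inf_le_left
    (Cfsg.Agent.S4242.nil_of_le inf_le_right c.nH) (Cfsg.Agent.S4242.nil_of_le inf_le_right c.nK)
    (c.cop_inf L) hfac

/-- (B): Sylow subgroups of `H` and `K` generate `G` -/
theorem sup_sy_eq_top (c : KWcfg H K) (r s : ℕ) [Fact r.Prime] [Fact s.Prime]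
    (hr : r ∣ Nat.card H) (hs : s ∣ Nat.card K) : kwSy r H ⊔ kwSy s K = ⊤ := by
  by_contra hD
  have hr' : ¬ r ∣ Nat.card K := c.not_dvd_K Fact.out hr
  have hs' : ¬ s ∣ Nat.card H := c.symm.not_dvd_K Fact.out hs
  have hAne : kwSy r H ≠ ⊥ := kwSy_ne_bot hr
  have hBne : kwSy s K ≠ ⊥ := kwSy_ne_bot hs
  have hAn : H ≤ normalizer (kwSy r H : Set G) := kwSy_normalizer c.nH
  have hBn : K ≤ normalizer (kwSy s K : Set G) := kwSy_normalizer c.nK
  have hLne : normalizer ((kwSy r H ⊔ kwSy s K : Subgroup G) : Set G) ≠ ⊤ := by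
    intro h
    have h1 := c.eq_bot_of_normalizer_top h hD
    apply hAne
    rw [eq_bot_iff, ← h1]
    exact le_sup_left
  have hfacL := Cfsg.Agent.S0562.result H K (kwSy r H) (kwSy s K) c.fac (kwSy_le r H)
    ((Subgroup.normal_subgroupOf_iff_le_normalizer (kwSy_le r H)).mpr hAn) (kwSy_le s K)
    ((Subgroup.normal_subgroupOf_iff_le_normalizer (kwSy_le s K)).mpr hBn)
  have hLs := c.solv_of_fac _ hLne hfacL
  have hAL : kwSy r H ≤ normalizer ((kwSy r H ⊔ kwSy s K : Subgroup G) : Set G) :=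
    le_sup_left.trans Subgroup.le_normalizer
  have hBL : kwSy s K ≤ normalizer ((kwSy r H ⊔ kwSy s K : Subgroup G) : Set G) :=
    le_sup_right.trans Subgroup.le_normalizer
  obtain ⟨S, hS⟩ := kw_s561_sub _ _ _ (kwSy r H) (kwSy s K) hLs inf_le_left inf_le_left hfacL
    (le_inf hAL (kwSy_le r H)) (inf_le_right.trans hAn) (le_inf hBL (kwSy_le s K))
    (inf_le_right.trans hBn) (c.sy_hall r hr') (c.symm.sy_hall s hs')
  have hSD : S ≤ kwSy r H ⊔ kwSy s K := by
    intro x hx
    have h1 : x ∈ (S : Set G) := hx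
    rw [hS] at h1
    obtain ⟨a, ha, b, hb, rfl⟩ := Set.mem_mul.mp h1
    exact Subgroup.mul_mem _ (Subgroup.mem_sup_left ha) (Subgroup.mem_sup_right hb)
  have hSt : S ≠ ⊤ := fun h => hD (top_le_iff.mp (h ▸ hSD))
  obtain ⟨N, hNn, hNt, hN⟩ := Cfsg.Agent.S0566.result (kwSy r H) (kwSy s K) hAne hBne (by
    intro x
    obtain ⟨h, hh, k, hk, rfl⟩ := c.fac x
    refine ⟨MulAut.conj h • S, kw_conj_smul_ne_top hSt h, ?_⟩
    have h1 : MulAut.conj (h * k) • kwSy s K = MulAut.conj h • kwSy s K := by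
      rw [conj_smul_smul, kwSy_conj c.nK (Subgroup.le_normalizer hk)]
    have h2 : MulAut.conj h • kwSy r H = kwSy r H := kwSy_conj c.nH (Subgroup.le_normalizer hh)
    rw [h1, kw_conj_smul_mul _ _ _ hS h, h2])
  have hNb : N = ⊥ := (c.simple N hNn).resolve_right hNt
  rcases hN with h | h
  · exact hAne (eq_bot_iff.mpr (hNb ▸ h))
  · exact hBne (eq_bot_iff.mpr (hNb ▸ h))

/-- (C): no nontrivial `s`-subgroup (`s ∤ |H|`) is normalized by a nontrivial Sylow subgroup
of `H` -/
theorem no_inv_subgroup (c : KWcfg H K) (r s : ℕ) [Fact r.Prime] [Fact s.Prime]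
    (hr : r ∣ Nat.card H) (hs : ¬ s ∣ Nat.card H) (M : Subgroup G) (hM : IsPGroup s M)
    (hnorm : kwSy r H ≤ normalizer (M : Set G)) : M = ⊥ := by
  by_contra hMne
  obtain ⟨x, hx⟩ := kw_exists_conj_le (kwSy s K) (c.symm.sy_card s hs) M hM
  obtain ⟨h, hh, k, hk, rfl⟩ := c.fac x
  rw [conj_smul_smul, kwSy_conj c.nK (Subgroup.le_normalizer hk)] at hx
  have hM₁le : MulAut.conj h⁻¹ • M ≤ kwSy s K := by
    intro y hy
    rw [mem_conj_smul_iff, inv_inv] at hy
    have h1 := hx hy
    rw [mem_conj_smul_iff] at h1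
    simpa [mul_assoc] using h1
  have hM₁ne : MulAut.conj h⁻¹ • M ≠ ⊥ := kw_conj_smul_ne_bot hMne h⁻¹
  have hn1 : kwSy r H ≤ normalizer ((MulAut.conj h⁻¹ • M : Subgroup G) : Set G) := by
    intro a ha
    apply kw_mem_normalizer_conj_smul
    rw [inv_inv]
    exact hnorm ((Subgroup.mem_normalizer_iff.mp (kwSy_normalizer c.nH hh) a).mp ha)
  obtain ⟨s', hs'p, hs'ne, hs'd⟩ := kw_exists_prime_ne_of_not_pgroup K s (c.npK s Fact.out)
  have := Fact.mk hs'p
  have hn2 : kwSy s' K ≤ normalizer ((MulAut.conj h⁻¹ • M : Subgroup G) : Set G) := by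
    intro b hb
    exact kw_mem_normalizer_of_comm (fun y hy => kwSy_comm c.nK hs'ne hb (hM₁le hy))
  have htop := c.sup_sy_eq_top r s' hr hs'd
  have hnt : normalizer ((MulAut.conj h⁻¹ • M : Subgroup G) : Set G) = ⊤ := by
    rw [eq_top_iff, ← htop]
    exact sup_le hn1 hn2
  have hM₁t : MulAut.conj h⁻¹ • M ≠ ⊤ := fun h' =>
    c.symm.ne_top (top_le_iff.mp (h' ▸ hM₁le.trans (kwSy_le s K)))
  exact hM₁ne (c.eq_bot_of_normalizer_top hnt hM₁t)

/-- (D) -/
theorem eq_one_of_comm_sy (c : KWcfg H K) (r : ℕ) [Fact r.Prime] (hr : r ∣ Nat.card H) {k : G}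
    (hk : k ∈ K) (hcomm : ∀ x ∈ kwSy r H, k * x = x * k) : k = 1 := by
  by_contra hk1
  obtain ⟨q, n, hq, hyo⟩ := kw_exists_prime_pow hk1
  have := Fact.mk hq
  have hyK : k ^ n ∈ K := K.pow_mem hk _
  have hyne : k ^ n ≠ 1 := kw_ne_one_of_orderOf_prime hq hyo
  have hyS : k ^ n ∈ kwSy q K := kwSy_mem c.nK hyK ⟨1, by rw [hyo, pow_one]⟩
  obtain ⟨s, hsp, hsne, hsd⟩ := kw_exists_prime_ne_of_not_pgroup K q (c.npK q hq)
  have := Fact.mk hsp
  have h1 : kwSy r H ≤ Subgroup.centralizer ({k ^ n} : Set G) := by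
    intro x hx
    rw [Subgroup.mem_centralizer_singleton_iff]
    exact (Commute.pow_left (hcomm x hx) n).symm
  have h2 : kwSy s K ≤ Subgroup.centralizer ({k ^ n} : Set G) := by
    intro x hx
    rw [Subgroup.mem_centralizer_singleton_iff]
    exact kwSy_comm c.nK hsne hx hyS
  have h3 := c.sup_sy_eq_top r s hr hsd
  exact c.centralizer_ne_top hyne (eq_top_iff.mpr (h3 ▸ sup_le h1 h2))

/-- (F1) -/
theorem centralizer_sy_le (c : KWcfg H K) (r : ℕ) [Fact r.Prime] (hr : r ∣ Nat.card H) {g : G}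
    (hg : ∀ x ∈ kwSy r H, g * x = x * g) : g ∈ H := by
  obtain ⟨h, hh, k, hk, rfl⟩ := c.fac g
  have hn : ∀ x ∈ kwSy r H, h⁻¹ * x * h ∈ kwSy r H := by
    intro x hx
    have h0 := (Subgroup.mem_normalizer_iff.mp (kwSy_normalizer c.nH (H.inv_mem hh)) x).mp hx
    simpa using h0
  have h1 : ∀ x ∈ kwSy r H, k * x * k⁻¹ = h⁻¹ * x * h := by
    intro x hx
    have h0 := hg x hx
    calc k * x * k⁻¹ = h⁻¹ * (h * k * x) * k⁻¹ := by group
      _ = h⁻¹ * (x * (h * k)) * k⁻¹ := by rw [h0]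
      _ = h⁻¹ * x * h := by group
  have h2 : ∀ n : ℕ, ∀ x ∈ kwSy r H,
      k ^ n * x * (k ^ n)⁻¹ = (h⁻¹) ^ n * x * ((h⁻¹) ^ n)⁻¹ := by
    intro n
    induction n with
    | zero => intro x _; simp
    | succ n ih =>
      intro x hx
      have e1 : k ^ (n + 1) * x * (k ^ (n + 1))⁻¹ = k ^ n * (k * x * k⁻¹) * (k ^ n)⁻¹ := by
        rw [pow_succ]; group
      have e2 : (h⁻¹) ^ (n + 1) * x * ((h⁻¹) ^ (n + 1))⁻¹ =
          (h⁻¹) ^ n * (h⁻¹ * x * h) * ((h⁻¹) ^ n)⁻¹ := by
        rw [pow_succ]; group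
      rw [e1, e2, h1 x hx]
      exact ih _ (hn x hx)
  have h3 : ∀ x ∈ kwSy r H, k ^ Nat.card H * x = x * k ^ Nat.card H := by
    intro x hx
    have e := h2 (Nat.card H) x hx
    have hh1 : (h⁻¹) ^ Nat.card H = 1 :=
      orderOf_dvd_iff_pow_eq_one.mp (Subgroup.orderOf_dvd_natCard H (H.inv_mem hh))
    rw [hh1] at e
    simp only [one_mul, inv_one, mul_one] at e
    calc k ^ Nat.card H * x = k ^ Nat.card H * x * (k ^ Nat.card H)⁻¹ * k ^ Nat.card H := by
          group
      _ = x * k ^ Nat.card H := by rw [e]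
  have h4 : k ^ Nat.card H = 1 := c.eq_one_of_comm_sy r hr (K.pow_mem hk _) h3
  have h5 : orderOf k = 1 := kw_eq_one_of_dvd_coprime c.cop (orderOf_dvd_of_pow_eq_one h4)
    (Subgroup.orderOf_dvd_natCard K hk)
  rw [orderOf_eq_one_iff] at h5
  rw [h5, mul_one]
  exact hh

/-- (F2) -/
theorem normalizer_sy_le (c : KWcfg H K) (r : ℕ) [Fact r.Prime] (hr : r ∣ Nat.card H) :
    normalizer (kwSy r H : Set G) ≤ normalizer (H : Set G) := by
  intro g hg
  obtain ⟨h, hh, k, hk, rfl⟩ := c.fac g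
  have hkN : k ∈ normalizer (kwSy r H : Set G) := by
    have e : k = h⁻¹ * (h * k) := by group
    rw [e]
    exact Subgroup.mul_mem _ (Subgroup.inv_mem _ (kwSy_normalizer c.nH hh)) hg
  have key : ∀ (p : ℕ) [Fact p.Prime], MulAut.conj k • kwSy p H ≤ H := by
    intro p _
    by_cases hpr : p = r
    · subst hpr
      rw [conj_smul_eq_self_iff_mem_normalizer.mpr hkN]
      exact kwSy_le p H
    · intro x hx
      rw [mem_conj_smul_iff] at hx
      apply c.centralizer_sy_le r hr
      intro y hy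
      have hy' : k⁻¹ * y * k ∈ kwSy r H := by
        have h0 := (Subgroup.mem_normalizer_iff.mp (Subgroup.inv_mem _ hkN) y).mp hy
        simpa using h0
      have hc := kwSy_comm c.nH hpr hx hy'
      have e1 : x * y = k * ((k⁻¹ * x * k) * (k⁻¹ * y * k)) * k⁻¹ := by group
      have e2 : y * x = k * ((k⁻¹ * y * k) * (k⁻¹ * x * k)) * k⁻¹ := by group
      rw [e1, e2, hc]
  have hdvd : Nat.card H ∣ Nat.card (H ⊓ MulAut.conj k • H : Subgroup G) := by
    apply kwSy_card_dvd
    intro p _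
    exact ⟨k, le_inf (key p) (fun x hx =>
      mem_conj_smul_iff.mpr (kwSy_le p H (mem_conj_smul_iff.mp hx)))⟩
  have h5 : H ⊓ MulAut.conj k • H = H :=
    Subgroup.eq_of_le_of_card_ge (inf_le_left : H ⊓ MulAut.conj k • H ≤ H)
      (Nat.le_of_dvd Nat.card_pos hdvd)
  have h6 : H ≤ MulAut.conj k • H := (le_of_eq h5.symm).trans inf_le_right
  exact Subgroup.mul_mem _ (Subgroup.le_normalizer hh) (mem_normalizer_of_le_conj_smul h6)

/-- (E): a nontrivial central element of `H` commutes with no nontrivial element of `K` -/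
theorem eq_one_of_comm_central (c : KWcfg H K) {z : G} (hz : z ∈ H) (hz1 : z ≠ 1)
    (hzc : ∀ x ∈ H, z * x = x * z) {k : G} (hk : k ∈ K) (hkz : k * z = z * k) : k = 1 := by
  by_contra hk1
  obtain ⟨q, n, hq, hyo⟩ := kw_exists_prime_pow hk1
  have := Fact.mk hq
  have hyK : k ^ n ∈ K := K.pow_mem hk _
  have hyne : k ^ n ≠ 1 := kw_ne_one_of_orderOf_prime hq hyo
  have hyS : k ^ n ∈ kwSy q K := kwSy_mem c.nK hyK ⟨1, by rw [hyo, pow_one]⟩
  have hyz : k ^ n * z = z * k ^ n := Commute.pow_left hkz n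
  obtain ⟨s, hsp, hsne, hsd⟩ := kw_exists_prime_ne_of_not_pgroup K q (c.npK q hq)
  have := Fact.mk hsp
  have hs' : ¬ s ∣ Nat.card H := c.symm.not_dvd_K hsp hsd
  have hZle : Subgroup.zpowers z ≤ H := Subgroup.zpowers_le.mpr hz
  have hZne : Subgroup.zpowers z ≠ ⊥ := by
    rw [Ne, Subgroup.zpowers_eq_bot]; exact hz1
  have hSne : kwSy s K ≠ ⊥ := kwSy_ne_bot hsd
  have hDle : Subgroup.zpowers z ⊔ kwSy s K ≤ Subgroup.centralizer ({k ^ n} : Set G) := by
    apply sup_le
    · rw [Subgroup.zpowers_le, Subgroup.mem_centralizer_singleton_iff]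
      exact hyz.symm
    · intro x hx
      rw [Subgroup.mem_centralizer_singleton_iff]
      exact kwSy_comm c.nK hsne hx hyS
  have hDne : Subgroup.zpowers z ⊔ kwSy s K ≠ ⊤ := fun h =>
    c.centralizer_ne_top hyne (top_le_iff.mp (h ▸ hDle))
  have hZn : H ≤ normalizer (Subgroup.zpowers z : Set G) := by
    intro x hx
    apply kw_mem_normalizer_of_comm
    intro w hw
    obtain ⟨i, rfl⟩ := Subgroup.mem_zpowers_iff.mp hw
    exact (Commute.zpow_left (hzc x hx) i).symm
  have hSn : K ≤ normalizer (kwSy s K : Set G) := kwSy_normalizer c.nK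
  have hLne : normalizer ((Subgroup.zpowers z ⊔ kwSy s K : Subgroup G) : Set G) ≠ ⊤ := by
    intro h
    have h1 := c.eq_bot_of_normalizer_top h hDne
    exact hZne (eq_bot_iff.mpr (h1 ▸ le_sup_left))
  have hfacL := Cfsg.Agent.S0562.result H K (Subgroup.zpowers z) (kwSy s K) c.fac hZle
    ((Subgroup.normal_subgroupOf_iff_le_normalizer hZle).mpr hZn) (kwSy_le s K)
    ((Subgroup.normal_subgroupOf_iff_le_normalizer (kwSy_le s K)).mpr hSn)
  obtain ⟨L, hLdef⟩ : ∃ L : Subgroup G,
      L = normalizer ((Subgroup.zpowers z ⊔ kwSy s K : Subgroup G) : Set G) := ⟨_, rfl⟩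
  rw [← hLdef] at hLne hfacL
  have hLs : Group.IsSolvable L := c.solv_of_fac L hLne hfacL
  have hZL : Subgroup.zpowers z ≤ L := by
    rw [hLdef]; exact le_sup_left.trans Subgroup.le_normalizer
  have hSL : kwSy s K ≤ L := by
    rw [hLdef]; exact le_sup_right.trans Subgroup.le_normalizer
  have hzL : z ∈ L := hZL (Subgroup.mem_zpowers z)
  -- normal `s`-subgroups of `L` are trivial
  have hNs : ∀ N : Subgroup G, N ≤ L → IsPGroup s N → L ≤ normalizer (N : Set G) → N = ⊥ := by
    intro N hNL hNp hLN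
    by_contra hNne
    have hNS : N ≤ kwSy s K :=
      kw_le_of_isPGroup_sup (kwSy s K) (c.symm.sy_card s hs') N hNp (hSL.trans hLN)
    have hKN : K ≤ normalizer (N : Set G) := by
      have hd : Nat.card K ∣ Nat.card (K ⊓ normalizer (N : Set G) : Subgroup G) := by
        apply kwSy_card_dvd
        intro p _
        refine ⟨1, ?_⟩
        rw [map_one, one_smul]
        apply le_inf (kwSy_le p K)
        by_cases hps : p = s
        · subst hps
          exact hSL.trans hLN
        · intro b hb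
          exact kw_mem_normalizer_of_comm (fun y hy => kwSy_comm c.nK hps hb (hNS hy))
      have h5 : K ⊓ normalizer (N : Set G) = K :=
        Subgroup.eq_of_le_of_card_ge (inf_le_left : K ⊓ normalizer (N : Set G) ≤ K)
          (Nat.le_of_dvd Nat.card_pos hd)
      exact (le_of_eq h5.symm).trans inf_le_right
    have hZN : Subgroup.zpowers z ≤ normalizer (N : Set G) := Subgroup.zpowers_le.mpr (hLN hzL)
    have hT : ((Subgroup.zpowers z ⊔ N : Subgroup G) : Set G) =
        (Subgroup.zpowers z : Set G) * (N : Set G) :=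
      Subgroup.coe_mul_of_left_le_normalizer_right (Subgroup.zpowers z) N hZN
    have hTne : Subgroup.zpowers z ⊔ N ≠ ⊤ := fun h =>
      hDne (top_le_iff.mp (h ▸ sup_le_sup_left hNS (Subgroup.zpowers z)))
    obtain ⟨N', hN'n, hN't, hN'⟩ := Cfsg.Agent.S0566.result (Subgroup.zpowers z) N hZne hNne (by
      intro x
      obtain ⟨h, hh, k', hk', rfl⟩ := c.fac x
      refine ⟨MulAut.conj h • (Subgroup.zpowers z ⊔ N), kw_conj_smul_ne_top hTne h, ?_⟩
      have h1 : MulAut.conj (h * k') • N = MulAut.conj h • N := by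
        rw [conj_smul_smul, conj_smul_eq_self_iff_mem_normalizer.mpr (hKN hk')]
      have h2 : MulAut.conj h • Subgroup.zpowers z = Subgroup.zpowers z :=
        conj_smul_eq_self_iff_mem_normalizer.mpr (hZn hh)
      rw [h1, kw_conj_smul_mul _ _ _ hT h, h2])
    have hN'b : N' = ⊥ := (c.simple N' hN'n).resolve_right hN't
    rcases hN' with h | h
    · exact hZne (eq_bot_iff.mpr (hN'b ▸ h))
    · exact hNne (eq_bot_iff.mpr (hN'b ▸ h))
  have hall : ∀ u ∈ kwSy s K, u = 1 := by
    intro u hu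
    obtain ⟨N₀, hN₀L, hN₀p, hN₀n, huN₀⟩ := kw_fit L hLs s u (hSL hu)
      (kw_orderOf_of_isPGroup hsp (kwSy_isPGroup s K) hu) (by
      intro t ht N hNL hNp hLN m hm
      have := Fact.mk ht
      by_cases htH : t ∣ Nat.card H
      · have h0 : N = ⊥ :=
          c.symm.no_inv_subgroup s t hsd (c.not_dvd_K ht htH) N hNp (hSL.trans hLN)
        rw [h0, Subgroup.mem_bot] at hm
        rw [hm, one_mul, mul_one]
      · by_cases hts : t = s
        · have h0 : N = ⊥ := hNs N hNL (hts ▸ hNp) hLN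
          rw [h0, Subgroup.mem_bot] at hm
          rw [hm, one_mul, mul_one]
        · have hcN : (Nat.card N).Coprime (Nat.card H) := by
            obtain ⟨j, hj⟩ := IsPGroup.iff_card.mp hNp
            rw [hj]
            exact Nat.Coprime.pow_left j ((Nat.Prime.coprime_iff_not_dvd ht).mpr htH)
          have hNK : N ≤ K := kw_le_of_coprime L H K N hfacL hNL hLN hcN c.cop.symm
          have hmS : m ∈ kwSy t K :=
            kwSy_mem c.nK (hNK hm) (kw_orderOf_of_isPGroup ht hNp hm)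
          exact kwSy_comm c.nK hts hmS hu)
    have h0 : N₀ = ⊥ := hNs N₀ hN₀L hN₀p hN₀n
    rw [h0, Subgroup.mem_bot] at huN₀
    exact huN₀
  exact hSne ((Subgroup.eq_bot_iff_forall _).mpr hall)

/-- (FL): Frattini-type conjugation lemma -/
theorem conj_eq_of_mem (c : KWcfg H K) {a g : G} {p : ℕ} (hp : p.Prime) (ha : a ∈ H)
    (hao : orderOf a = p) (hag : a ∈ MulAut.conj g • H) :
    ∃ x : G, x * a = a * x ∧ MulAut.conj g • H = MulAut.conj x • H := by
  have := Fact.mk hp
  obtain ⟨r, hrp, hrne, hrd⟩ := kw_exists_prime_ne_of_not_pgroup H p (c.npH p hp)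
  have := Fact.mk hrp
  have hr' : ¬ r ∣ Nat.card K := c.not_dvd_K hrp hrd
  have haS : a ∈ kwSy p H := kwSy_mem c.nH ha ⟨1, by rw [hao, pow_one]⟩
  have ha' : g⁻¹ * a * g ∈ kwSy p H := by
    refine kwSy_mem c.nH (mem_conj_smul_iff.mp hag) ⟨1, ?_⟩
    have e := kw_orderOf_conj g⁻¹ a
    rw [inv_inv] at e
    rw [e, hao, pow_one]
  have h1 : kwSy r H ≤ Subgroup.centralizer ({a} : Set G) := by
    intro x hx
    rw [Subgroup.mem_centralizer_singleton_iff]
    exact kwSy_comm c.nH hrne hx haS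
  have h2 : MulAut.conj g • kwSy r H ≤ Subgroup.centralizer ({a} : Set G) := by
    intro x hx
    rw [mem_conj_smul_iff] at hx
    rw [Subgroup.mem_centralizer_singleton_iff]
    have hc := kwSy_comm c.nH hrne hx ha'
    have e1 : x * a = g * ((g⁻¹ * x * g) * (g⁻¹ * a * g)) * g⁻¹ := by group
    have e2 : a * x = g * ((g⁻¹ * a * g) * (g⁻¹ * x * g)) * g⁻¹ := by group
    rw [e1, e2, hc]
  obtain ⟨x, hxC, hx⟩ := kw_exists_conj_le_in (Subgroup.centralizer ({a} : Set G)) (kwSy r H)
    (MulAut.conj g • kwSy r H) h1 h2 (c.sy_card r hr')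
    (IsPGroup.of_card (by rw [card_conj_smul, kwSy_card]))
  have h3 : MulAut.conj g • kwSy r H = MulAut.conj x • kwSy r H :=
    Subgroup.eq_of_le_of_card_ge hx (by rw [card_conj_smul, card_conj_smul])
  have h4 : x⁻¹ * g ∈ normalizer (kwSy r H : Set G) := by
    rw [← conj_smul_eq_self_iff_mem_normalizer, conj_smul_smul, h3, conj_smul_inv_smul]
  have h5 := c.normalizer_sy_le r hrd h4
  rw [← conj_smul_eq_self_iff_mem_normalizer, conj_smul_smul] at h5
  refine ⟨x, Subgroup.mem_centralizer_singleton_iff.mp hxC, ?_⟩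
  have h6 := congrArg (fun T => MulAut.conj x • T) h5
  simp only [conj_smul_smul_inv] at h6
  exact h6

/-- (U) -/
theorem conj_eq_self_of_central (c : KWcfg H K) {z g : G} (hz : z ∈ H) (hz1 : z ≠ 1)
    (hzc : ∀ x ∈ H, z * x = x * z) (hzg : z ∈ MulAut.conj g • H) : MulAut.conj g • H = H := by
  obtain ⟨q, n, hq, hyo⟩ := kw_exists_prime_pow hz1
  have key : ∀ a : G, a ∈ H → orderOf a = q → (∀ x ∈ H, a * x = x * a) →
      a ∈ MulAut.conj g • H → MulAut.conj g • H = H := by
    intro a haH hao hac hag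
    obtain ⟨x, hxa, hx⟩ := c.conj_eq_of_mem hq haH hao hag
    obtain ⟨h, hh, k, hk, rfl⟩ := c.fac x
    have hka : k * a = a * k := by
      have e := hac h hh
      have e3 : h * (k * a) = h * (a * k) := by
        calc h * (k * a) = h * k * a := (mul_assoc h k a).symm
          _ = a * (h * k) := hxa
          _ = (a * h) * k := (mul_assoc a h k).symm
          _ = h * a * k := by rw [e]
          _ = h * (a * k) := mul_assoc h a k
      exact mul_left_cancel e3
    have hk1 : k = 1 :=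
      c.eq_one_of_comm_central haH (kw_ne_one_of_orderOf_prime hq hao) hac hk hka
    rw [hx, hk1, mul_one]
    exact conj_smul_eq_self_iff_mem_normalizer.mpr (Subgroup.le_normalizer hh)
  exact key (z ^ n) (H.pow_mem hz n) hyo (fun x hx => Commute.pow_left (hzc x hx) n)
    (Subgroup.pow_mem _ hzg n)

/-- centralizers of elements of `H` normalizing `K` are factorized -/
theorem centralizer_fac (c : KWcfg H K) {a : G} (ha : a ∈ H)
    (haK : a ∈ normalizer (K : Set G)) :
    ∀ g ∈ Subgroup.centralizer ({a} : Set G), ∃ h ∈ Subgroup.centralizer ({a} : Set G) ⊓ H,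
      ∃ k ∈ Subgroup.centralizer ({a} : Set G) ⊓ K, g = h * k := by
  intro g hg
  obtain ⟨h, hh, k, hk, rfl⟩ := c.fac g
  rw [Subgroup.mem_centralizer_singleton_iff] at hg
  have hwK : k * a * k⁻¹ * a⁻¹ ∈ K := by
    have h0 : a * k⁻¹ * a⁻¹ ∈ K := (Subgroup.mem_normalizer_iff.mp haK k⁻¹).mp (K.inv_mem hk)
    have e : k * a * k⁻¹ * a⁻¹ = k * (a * k⁻¹ * a⁻¹) := by group
    rw [e]
    exact K.mul_mem hk h0
  have hwH : k * a * k⁻¹ * a⁻¹ ∈ H := by
    have e : k * a * k⁻¹ * a⁻¹ = h⁻¹ * (h * k * a) * k⁻¹ * a⁻¹ := by group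
    rw [e, hg]
    have e2 : h⁻¹ * (a * (h * k)) * k⁻¹ * a⁻¹ = h⁻¹ * a * h * a⁻¹ := by group
    rw [e2]
    exact H.mul_mem (H.mul_mem (H.mul_mem (H.inv_mem hh) ha) hh) (H.inv_mem ha)
  have hw1 := c.eq_one_of_mem hwH hwK
  have hka : k * a = a * k := by
    have e : k * a = (k * a * k⁻¹ * a⁻¹) * (a * k) := by group
    rw [e, hw1, one_mul]
  have hha : h * a = a * h := by
    have e : h * a * k = a * h * k := by
      calc h * a * k = h * (a * k) := mul_assoc h a k
        _ = h * (k * a) := by rw [hka]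
        _ = h * k * a := (mul_assoc h k a).symm
        _ = a * (h * k) := hg
        _ = a * h * k := (mul_assoc a h k).symm
    exact mul_right_cancel e
  exact ⟨h, ⟨Subgroup.mem_centralizer_singleton_iff.mpr hha, hh⟩, k,
    ⟨Subgroup.mem_centralizer_singleton_iff.mpr hka, hk⟩, rfl⟩

theorem exists_central_prime (c : KWcfg H K) :
    ∃ (z : G) (q : ℕ), q.Prime ∧ z ∈ H ∧ orderOf z = q ∧ ∀ x ∈ H, z * x = x * z := by
  obtain ⟨z, hzH, hz1, hzc⟩ := kw_exists_central_in c.nH H le_rfl Subgroup.le_normalizer c.ne_bot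
  obtain ⟨q, n, hq, hyo⟩ := kw_exists_prime_pow hz1
  exact ⟨z ^ n, q, hq, H.pow_mem hzH n, hyo, fun x hx => Commute.pow_left (hzc x hx) n⟩

/-- (SL) -/
theorem normalizes_of_comm (c : KWcfg H K) {a : G} {p : ℕ} (hp : p.Prime) (ha : a ∈ H)
    (hao : orderOf a = p) (haK : a ∈ normalizer (K : Set G)) {k : G} (hk : k ∈ K)
    (hka : k * a = a * k) : k ∈ normalizer (H : Set G) := by
  have := Fact.mk hp
  have ha1 : a ≠ 1 := kw_ne_one_of_orderOf_prime hp hao
  have hCne : Subgroup.centralizer ({a} : Set G) ≠ ⊤ := c.centralizer_ne_top ha1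
  have hfacC := c.centralizer_fac ha haK
  obtain ⟨C, hCdef⟩ : ∃ C : Subgroup G, C = Subgroup.centralizer ({a} : Set G) := ⟨_, rfl⟩
  rw [← hCdef] at hCne hfacC
  have hCs : Group.IsSolvable C := c.solv_of_fac C hCne hfacC
  obtain ⟨r, hrp, hrne, hrd⟩ := kw_exists_prime_ne_of_not_pgroup H p (c.npH p hp)
  have := Fact.mk hrp
  have haS : a ∈ kwSy p H := kwSy_mem c.nH ha ⟨1, by rw [hao, pow_one]⟩
  have hRC : kwSy r H ≤ C := by
    intro x hx
    rw [hCdef, Subgroup.mem_centralizer_singleton_iff]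
    exact kwSy_comm c.nH hrne hx haS
  obtain ⟨z, q, hq, hzH, hzo, hzc⟩ := c.exists_central_prime
  have := Fact.mk hq
  have hz1 : z ≠ 1 := kw_ne_one_of_orderOf_prime hq hzo
  have hzC : z ∈ C := by
    rw [hCdef, Subgroup.mem_centralizer_singleton_iff]
    exact hzc a ha
  have hqH : q ∣ Nat.card H := hzo ▸ Subgroup.orderOf_dvd_natCard H hzH
  have hfacC' : ∀ g ∈ C, ∃ k ∈ C ⊓ K, ∃ h ∈ C ⊓ H, g = k * h := by
    intro g hg
    obtain ⟨h, hh, k', hk', e⟩ := hfacC g⁻¹ (C.inv_mem hg)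
    exact ⟨k'⁻¹, Subgroup.inv_mem _ hk', h⁻¹, Subgroup.inv_mem _ hh,
      by rw [← mul_inv_rev, ← e, inv_inv]⟩
  have hsub : ∀ (t : ℕ), t.Prime → t ∣ Nat.card H → ∀ N : Subgroup G, N ≤ C → IsPGroup t N →
      C ≤ normalizer (N : Set G) → N ≤ H := by
    intro t ht htH N hNC hNp hCN
    have := Fact.mk ht
    have hcN : (Nat.card N).Coprime (Nat.card K) := by
      obtain ⟨j, hj⟩ := IsPGroup.iff_card.mp hNp
      rw [hj]
      exact Nat.Coprime.pow_left j ((Nat.Prime.coprime_iff_not_dvd ht).mpr (c.not_dvd_K ht htH))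
    exact kw_le_of_coprime C K H N hfacC' hNC hCN hcN c.cop
  obtain ⟨N₀, hN₀C, hN₀p, hN₀n, hzN₀⟩ := kw_fit C hCs q z hzC ⟨1, by rw [hzo, pow_one]⟩ (by
    intro t ht N hNC hNp hCN m hm
    have := Fact.mk ht
    by_cases htH : t ∣ Nat.card H
    · exact (hzc m (hsub t ht htH N hNC hNp hCN hm)).symm
    · have h0 : N = ⊥ := c.no_inv_subgroup r t hrd htH N hNp (hRC.trans hCN)
      rw [h0, Subgroup.mem_bot] at hm
      rw [hm, one_mul, mul_one])
  have hN₀H : N₀ ≤ H := hsub q hq hqH N₀ hN₀C hN₀p hN₀n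
  have hkC : k ∈ C := by
    rw [hCdef, Subgroup.mem_centralizer_singleton_iff]
    exact hka
  have h1 : k * z * k⁻¹ ∈ H := hN₀H ((Subgroup.mem_normalizer_iff.mp (hN₀n hkC) z).mp hzN₀)
  have h2 : z ∈ MulAut.conj k⁻¹ • H := by
    rw [mem_conj_smul_iff, inv_inv]
    exact h1
  have h3 := c.conj_eq_self_of_central hzH hz1 hzc h2
  have h4 : k⁻¹ ∈ normalizer (H : Set G) := conj_smul_eq_self_iff_mem_normalizer.mp h3
  simpa using Subgroup.inv_mem _ h4

/-- (CN): centralizers of elements of prime order of `H` normalize `H` -/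
theorem centralizer_le_normalizer (c : KWcfg H K) {a : G} {p : ℕ} (hp : p.Prime) (ha : a ∈ H)
    (hao : orderOf a = p) : Subgroup.centralizer ({a} : Set G) ≤ normalizer (H : Set G) := by
  have := Fact.mk hp
  have ha1 : a ≠ 1 := kw_ne_one_of_orderOf_prime hp hao
  have hpH : p ∣ Nat.card H := hao ▸ Subgroup.orderOf_dvd_natCard H ha
  by_cases hB : ∃ g ∈ Subgroup.centralizer ({a} : Set G) ⊓ normalizer (H : Set G), g ∉ H
  · -- Case B
    obtain ⟨g, ⟨hgC, hgN⟩, hgH⟩ := hB
    have hb1 : g ^ Nat.card H ≠ 1 := by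
      intro hb
      exact hgH (kw_mem_of_normalizer_hall H c.hall hgN (orderOf_dvd_of_pow_eq_one hb))
    have hbK : orderOf (g ^ Nat.card H) ∣ Nat.card K := by
      apply orderOf_dvd_of_pow_eq_one
      rw [← pow_mul, ← c.card_eq]
      exact pow_card_eq_one'
    obtain ⟨q, n, hq, hyo⟩ := kw_exists_prime_pow hb1
    have := Fact.mk hq
    obtain ⟨y, hydef⟩ : ∃ y : G, y = (g ^ Nat.card H) ^ n := ⟨_, rfl⟩
    rw [← hydef] at hyo
    have hyC : y ∈ Subgroup.centralizer ({a} : Set G) := by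
      rw [hydef]; exact Subgroup.pow_mem _ (Subgroup.pow_mem _ hgC _) _
    have hyN : y ∈ normalizer (H : Set G) := by
      rw [hydef]; exact Subgroup.pow_mem _ (Subgroup.pow_mem _ hgN _) _
    have hqK : q ∣ Nat.card K := by
      rw [← hyo, hydef]
      exact (orderOf_pow_dvd n).trans hbK
    have hqH : ¬ q ∣ Nat.card H := c.symm.not_dvd_K hq hqK
    have hpg : IsPGroup q (Subgroup.zpowers y) := by
      apply IsPGroup.of_card (n := 1)
      rw [Nat.card_zpowers, hyo, pow_one]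
    obtain ⟨x, hx⟩ := kw_exists_conj_le (kwSy q K) (c.symm.sy_card q hqH) (Subgroup.zpowers y) hpg
    obtain ⟨h', hh', k', hk', rfl⟩ := c.fac x
    rw [conj_smul_smul, kwSy_conj c.nK (Subgroup.le_normalizer hk')] at hx
    have hy1K : h'⁻¹ * y * h' ∈ K :=
      kwSy_le q K (mem_conj_smul_iff.mp (hx (Subgroup.mem_zpowers y)))
    have hy1o : orderOf (h'⁻¹ * y * h') = q := by
      have e := kw_orderOf_conj h'⁻¹ y
      rw [inv_inv] at e
      rw [e, hyo]
    have ha1H : h'⁻¹ * a * h' ∈ H := H.mul_mem (H.mul_mem (H.inv_mem hh') ha) hh'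
    have ha1o : orderOf (h'⁻¹ * a * h') = p := by
      have e := kw_orderOf_conj h'⁻¹ a
      rw [inv_inv] at e
      rw [e, hao]
    have hy1N : h'⁻¹ * y * h' ∈ normalizer (H : Set G) :=
      Subgroup.mul_mem _ (Subgroup.mul_mem _ (Subgroup.inv_mem _ (Subgroup.le_normalizer hh')) hyN)
        (Subgroup.le_normalizer hh')
    have hya : y * a = a * y := Subgroup.mem_centralizer_singleton_iff.mp hyC
    have hcomm1 : (h'⁻¹ * a * h') * (h'⁻¹ * y * h') = (h'⁻¹ * y * h') * (h'⁻¹ * a * h') := by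
      have e1 : (h'⁻¹ * a * h') * (h'⁻¹ * y * h') = h'⁻¹ * (a * y) * h' := by group
      have e2 : (h'⁻¹ * y * h') * (h'⁻¹ * a * h') = h'⁻¹ * (y * a) * h' := by group
      rw [e1, e2, hya]
    have ha1K : h'⁻¹ * a * h' ∈ normalizer (K : Set G) :=
      c.symm.normalizes_of_comm hq hy1K hy1o hy1N ha1H hcomm1
    intro g' hg'
    rw [Subgroup.mem_centralizer_singleton_iff] at hg'
    have hg1 : h'⁻¹ * g' * h' ∈ Subgroup.centralizer ({h'⁻¹ * a * h'} : Set G) := by
      rw [Subgroup.mem_centralizer_singleton_iff]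
      have e1 : (h'⁻¹ * g' * h') * (h'⁻¹ * a * h') = h'⁻¹ * (g' * a) * h' := by group
      have e2 : (h'⁻¹ * a * h') * (h'⁻¹ * g' * h') = h'⁻¹ * (a * g') * h' := by group
      rw [e1, e2, hg']
    obtain ⟨h₂, hh₂, k₂, hk₂, e⟩ := c.centralizer_fac ha1H ha1K _ hg1
    have hk₂N : k₂ ∈ normalizer (H : Set G) :=
      c.normalizes_of_comm hp ha1H ha1o ha1K hk₂.2
        (Subgroup.mem_centralizer_singleton_iff.mp hk₂.1)
    have h7 : h'⁻¹ * g' * h' ∈ normalizer (H : Set G) := by
      rw [e]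
      exact Subgroup.mul_mem _ (Subgroup.le_normalizer hh₂.2) hk₂N
    have e3 : g' = h' * (h'⁻¹ * g' * h') * h'⁻¹ := by group
    rw [e3]
    exact Subgroup.mul_mem _ (Subgroup.mul_mem _ (Subgroup.le_normalizer hh') h7)
      (Subgroup.inv_mem _ (Subgroup.le_normalizer hh'))
  · -- Case A
    push Not at hB
    obtain ⟨C, hCdef⟩ : ∃ C : Subgroup G, C = Subgroup.centralizer ({a} : Set G) := ⟨_, rfl⟩
    rw [← hCdef] at hB ⊢
    have haC : a ∈ C := by rw [hCdef, Subgroup.mem_centralizer_singleton_iff]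
    have hCcomm : ∀ x ∈ C, x * a = a * x := by
      intro x hx
      rw [hCdef, Subgroup.mem_centralizer_singleton_iff] at hx
      exact hx
    obtain ⟨r, hrp, hrne, hrd⟩ := kw_exists_prime_ne_of_not_pgroup H p (c.npH p hp)
    have := Fact.mk hrp
    have haS : a ∈ kwSy p H := kwSy_mem c.nH ha ⟨1, by rw [hao, pow_one]⟩
    have hSyC : ∀ (t : ℕ) [Fact t.Prime], t ≠ p → kwSy t H ≤ C := by
      intro t _ htp x hx
      rw [hCdef, Subgroup.mem_centralizer_singleton_iff]
      exact kwSy_comm c.nH htp hx haS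
    have hRC : kwSy r H ≤ C := hSyC r hrne
    have hWnil : Group.IsNilpotent ((C ⊓ H).subgroupOf C) :=
      haveI := Cfsg.Agent.S4242.nil_of_le (inf_le_right : C ⊓ H ≤ H) c.nH
      Group.nilpotent_of_mulEquiv (Subgroup.subgroupOfEquivOfLe (inf_le_left : C ⊓ H ≤ C)).symm
    have hmemW : ∀ x : C, x ∈ (C ⊓ H).subgroupOf C ↔ (x : G) ∈ H := by
      intro x
      rw [Subgroup.mem_subgroupOf]
      exact ⟨fun h => h.2, fun h => ⟨x.2, h⟩⟩
    have hnot : ∀ t : ℕ, t.Prime → ∀ P : Sylow t C,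
        (P : Subgroup C) ≠ (C ⊓ H).subgroupOf C := by
      intro t ht P hP
      have hpg : IsPGroup t ((C ⊓ H).subgroupOf C) := hP ▸ P.isPGroup'
      obtain ⟨k1, hk1⟩ := kw_orderOf_of_isPGroup ht hpg ((hmemW ⟨a, haC⟩).mpr ha)
      rw [Subgroup.orderOf_mk, hao] at hk1
      have htp : t = p := kw_prime_eq_of_pow_eq ht hp (by rw [pow_one]; exact hk1) one_ne_zero
      obtain ⟨x, hx, hx1⟩ : ∃ x ∈ kwSy r H, x ≠ 1 := by
        by_contra hcon
        push Not at hcon
        exact kwSy_ne_bot hrd ((Subgroup.eq_bot_iff_forall _).mpr hcon)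
      obtain ⟨k2, hk2⟩ := kw_orderOf_of_isPGroup ht hpg
        ((hmemW ⟨x, hRC hx⟩).mpr (kwSy_le r H hx))
      rw [Subgroup.orderOf_mk] at hk2
      obtain ⟨j, hj⟩ := kw_orderOf_of_isPGroup hrp (kwSy_isPGroup r H) hx
      have hj0 : j ≠ 0 := by
        intro h0
        rw [h0, pow_zero, orderOf_eq_one_iff] at hj
        exact hx1 hj
      have htr : t = r := kw_prime_eq_of_pow_eq ht hrp (by rw [← hj, hk2]) hj0
      exact hrne (htr.symm.trans htp)
    have hnorm : ∀ t : ℕ, t.Prime → t ∣ Nat.card ((C ⊓ H).subgroupOf C) →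
        ∀ P : Sylow t ((C ⊓ H).subgroupOf C),
        normalizer (((P : Subgroup ((C ⊓ H).subgroupOf C)).map
          ((C ⊓ H).subgroupOf C).subtype : Subgroup C) : Set C) = (C ⊓ H).subgroupOf C := by
      intro t ht htd P
      have := Fact.mk ht
      rw [kwSy_eq_map hWnil P]
      have htH : t ∣ Nat.card H := by
        rw [Nat.card_congr (Subgroup.subgroupOfEquivOfLe (inf_le_left : C ⊓ H ≤ C)).toEquiv] at htd
        exact htd.trans (Subgroup.card_dvd_of_le inf_le_right)
      apply le_antisymm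
      · intro g hg
        rw [hmemW]
        apply hB (g : G)
        refine ⟨g.2, ?_⟩
        by_cases htp : t = p
        · obtain ⟨z, hzS, hz1, hzc⟩ := kw_exists_central_in c.nH (kwSy t H) (kwSy_le t H)
            (kwSy_normalizer c.nH) (kwSy_ne_bot htH)
          have hzH : z ∈ H := kwSy_le t H hzS
          have hzC : z ∈ C := by
            rw [hCdef, Subgroup.mem_centralizer_singleton_iff]
            exact hzc a ha
          have hz' : (⟨z, hzC⟩ : C) ∈ kwSy t ((C ⊓ H).subgroupOf C) :=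
            kwSy_mem hWnil ((hmemW _).mpr hzH) (by
              rw [Subgroup.orderOf_mk]
              exact kw_orderOf_of_isPGroup ht (kwSy_isPGroup t H) hzS)
          have h1 := (Subgroup.mem_normalizer_iff.mp hg ⟨z, hzC⟩).mp hz'
          have h2 : (g : G) * z * (g : G)⁻¹ ∈ H := (hmemW _).mp (kwSy_le t _ h1)
          have h3 : z ∈ MulAut.conj (g : G)⁻¹ • H := by
            rw [mem_conj_smul_iff, inv_inv]
            exact h2
          have h4 := c.conj_eq_self_of_central hzH hz1 hzc h3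
          have h5 : (g : G)⁻¹ ∈ normalizer (H : Set G) :=
            conj_smul_eq_self_iff_mem_normalizer.mp h4
          simpa using Subgroup.inv_mem _ h5
        · apply c.normalizer_sy_le t htH
          apply mem_normalizer_of_conj_smul_le
          intro x hx
          rw [mem_conj_smul_iff] at hx
          have hyC : (g : G)⁻¹ * x * (g : G) ∈ C := hSyC t htp hx
          have hy' : (⟨(g : G)⁻¹ * x * (g : G), hyC⟩ : C) ∈ kwSy t ((C ⊓ H).subgroupOf C) :=
            kwSy_mem hWnil ((hmemW _).mpr (kwSy_le t H hx)) (by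
              rw [Subgroup.orderOf_mk]
              exact kw_orderOf_of_isPGroup ht (kwSy_isPGroup t H) hx)
          have h1 := (Subgroup.mem_normalizer_iff.mp hg _).mp hy'
          have e : ((g * ⟨(g : G)⁻¹ * x * (g : G), hyC⟩ * g⁻¹ : C) : G) = x := by
            simp only [Subgroup.coe_mul, Subgroup.coe_inv]
            group
          have h2 : x ∈ H := by
            have h0 := (hmemW _).mp (kwSy_le t _ h1)
            rwa [e] at h0
          obtain ⟨j, hj⟩ := kw_orderOf_of_isPGroup ht (kwSy_isPGroup t _) h1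
          rw [← Subgroup.orderOf_coe, e] at hj
          exact kwSy_mem c.nH h2 ⟨j, hj⟩
      · exact kwSy_normalizer hWnil
    obtain ⟨N, hNn, hNc⟩ := Cfsg.Agent.S0558.result (G := C) ((C ⊓ H).subgroupOf C) hnot hnorm
    have hCM : C ≤ normalizer ((N.map C.subtype : Subgroup G) : Set G) :=
      kw_map_normal_le_normalizer C N
    have hML : N.map C.subtype ≤ C := Subgroup.map_subtype_le N
    have hMH : ∀ x ∈ N.map C.subtype, x ∈ H → x = 1 := by
      rintro x ⟨n, hn, rfl⟩ hxH
      have h1 : n ∈ N ⊓ (C ⊓ H).subgroupOf C := ⟨hn, (hmemW n).mpr hxH⟩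
      rw [hNc.disjoint.eq_bot, Subgroup.mem_bot] at h1
      rw [h1]
      rfl
    have hfacM : ∀ g ∈ C, ∃ m ∈ N.map C.subtype, ∃ w ∈ H, g = m * w := by
      intro g hg
      obtain ⟨⟨n, w⟩, hnw⟩ := hNc.2 ⟨g, hg⟩
      refine ⟨n.1, Subgroup.mem_map.mpr ⟨n.1, n.2, rfl⟩, w.1, (hmemW w.1).mp w.2, ?_⟩
      have h0 := congrArg Subtype.val hnw
      simpa using h0.symm
    have hcop : (Nat.card (N.map C.subtype : Subgroup G)).Coprime (Nat.card H) := by
      apply Nat.coprime_of_dvd
      intro t ht htM htH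
      have := Fact.mk ht
      obtain ⟨m', hm'⟩ := exists_prime_orderOf_dvd_card' t htM
      have hmo : orderOf (m' : G) = t := by rw [Subgroup.orderOf_coe]; exact hm'
      have hmM := m'.2
      have hmC : (m' : G) ∈ C := hML hmM
      have hm1 : (m' : G) ≠ 1 := kw_ne_one_of_orderOf_prime ht hmo
      have hpgm : IsPGroup t (Subgroup.zpowers (m' : G)) := by
        apply IsPGroup.of_card (n := 1)
        rw [Nat.card_zpowers, hmo, pow_one]
      have hfin : ∀ x ∈ C, x⁻¹ * (m' : G) * x ∈ H → False := by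
        intro x hxC hxH
        have h1 : x⁻¹ * (m' : G) * x ∈ N.map C.subtype := by
          have h0 := (Subgroup.mem_normalizer_iff.mp (hCM (C.inv_mem hxC)) (m' : G)).mp hmM
          simpa using h0
        have h2 := hMH _ h1 hxH
        apply hm1
        have e : (m' : G) = x * (x⁻¹ * (m' : G) * x) * x⁻¹ := by group
        rw [e, h2]
        group
      by_cases htp : t = p
      · subst htp
        have hma : (m' : G) * a = a * (m' : G) := hCcomm _ hmC
        have hpga : IsPGroup t (Subgroup.zpowers a) := by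
          apply IsPGroup.of_card (n := 1)
          rw [Nat.card_zpowers, hao, pow_one]
        have hE : IsPGroup t (Subgroup.zpowers a ⊔ Subgroup.zpowers (m' : G) : Subgroup G) := by
          apply IsPGroup.to_sup_of_normal_left' hpga hpgm
          rw [Subgroup.zpowers_le]
          apply kw_mem_normalizer_of_comm
          intro w hw
          obtain ⟨i, rfl⟩ := Subgroup.mem_zpowers_iff.mp hw
          exact Commute.zpow_right hma i
        obtain ⟨g, hg⟩ := kw_exists_conj_le (kwSy t H) (c.sy_card t (c.not_dvd_K ht htH)) _ hE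
        have hag : a ∈ MulAut.conj g • H := by
          have h1 := hg (Subgroup.mem_sup_left (Subgroup.mem_zpowers a))
          exact mem_conj_smul_iff.mpr (kwSy_le t H (mem_conj_smul_iff.mp h1))
        obtain ⟨x, hxa, hx⟩ := c.conj_eq_of_mem ht ha hao hag
        have hmg : (m' : G) ∈ MulAut.conj g • H := by
          have h1 := hg (Subgroup.mem_sup_right (Subgroup.mem_zpowers (m' : G)))
          exact mem_conj_smul_iff.mpr (kwSy_le t H (mem_conj_smul_iff.mp h1))
        rw [hx] at hmg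
        exact hfin x (by rw [hCdef, Subgroup.mem_centralizer_singleton_iff]; exact hxa)
          (mem_conj_smul_iff.mp hmg)
      · obtain ⟨x, hxC, hx⟩ := kw_exists_conj_le_in C (kwSy t H) (Subgroup.zpowers (m' : G))
          (hSyC t htp) (Subgroup.zpowers_le.mpr hmC) (c.sy_card t (c.not_dvd_K ht htH)) hpgm
        exact hfin x hxC (kwSy_le t H (mem_conj_smul_iff.mp (hx (Subgroup.mem_zpowers _))))
    have hMbot : N.map C.subtype = ⊥ := by
      by_contra hMne
      have hc1 : Nat.card (N.map C.subtype : Subgroup G) ≠ 1 := fun h =>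
        hMne (Subgroup.card_eq_one.mp h)
      obtain ⟨s, hs, hsd⟩ := Nat.exists_prime_and_dvd hc1
      have := Fact.mk hs
      have hsH : ¬ s ∣ Nat.card H := fun h =>
        hs.one_lt.ne' (kw_eq_one_of_dvd_coprime hcop hsd h)
      have hRsolv : Group.IsSolvable (kwSy r H) :=
        haveI := Cfsg.Agent.S4242.nil_of_le (kwSy_le r H) c.nH
        inferInstance
      obtain ⟨P, hP⟩ := Cfsg.Agent.Lib.Helper7.exists_invariant_sylow (kwSy r H)
        (N.map C.subtype) (hRC.trans hCM)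
        (Nat.Coprime.coprime_dvd_left (Subgroup.card_dvd_of_le (kwSy_le r H)) hcop.symm)
        (Or.inl hRsolv) s
      have h0 := c.no_inv_subgroup r s hrd hsH _ (P.isPGroup'.map _) hP
      have h1 : Nat.card ((P : Subgroup (N.map C.subtype : Subgroup G)).map
          (N.map C.subtype : Subgroup G).subtype : Subgroup G) = Nat.card P :=
        Subgroup.card_map_of_injective (Subgroup.subtype_injective _)
      rw [h0, Subgroup.card_bot, Sylow.card_eq_multiplicity] at h1
      have h2 : 0 < (Nat.card (N.map C.subtype : Subgroup G)).factorization s :=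
        hs.factorization_pos_of_dvd Nat.card_pos.ne' hsd
      have h3 : 1 < s ^ (Nat.card (N.map C.subtype : Subgroup G)).factorization s :=
        Nat.one_lt_pow h2.ne' hs.one_lt
      omega
    intro g hg
    obtain ⟨m, hm, w, hw, rfl⟩ := hfacM g hg
    rw [hMbot, Subgroup.mem_bot] at hm
    rw [hm, one_mul]
    exact Subgroup.le_normalizer hw

/-- (TI): `H` is a TI-subgroup -/
theorem ti (c : KWcfg H K) {a g : G} (ha : a ∈ H) (ha1 : a ≠ 1)
    (hag : a ∈ MulAut.conj g • H) : MulAut.conj g • H = H := by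
  obtain ⟨q, n, hq, hyo⟩ := kw_exists_prime_pow ha1
  obtain ⟨x, hxa, hx⟩ := c.conj_eq_of_mem hq (H.pow_mem ha n) hyo (Subgroup.pow_mem _ hag n)
  have hxN := c.centralizer_le_normalizer hq (H.pow_mem ha n) hyo
    (Subgroup.mem_centralizer_singleton_iff.mpr hxa)
  rw [hx]
  exact conj_smul_eq_self_iff_mem_normalizer.mpr hxN

/-- counting conjugates of `K` -/
theorem card_lt (c : KWcfg H K) : Nat.card K + 1 ≤ Nat.card H := by
  have h0 : ∃ h₀ ∈ H, MulAut.conj h₀ • K ≠ K := by
    by_contra hcon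
    push Not at hcon
    have h1 : normalizer (K : Set G) = ⊤ := by
      rw [eq_top_iff]
      intro g _
      obtain ⟨h, hh, k, hk, rfl⟩ := c.fac g
      exact Subgroup.mul_mem _ (conj_smul_eq_self_iff_mem_normalizer.mp (hcon h hh))
        (Subgroup.le_normalizer hk)
    exact c.symm.ne_bot (c.eq_bot_of_normalizer_top h1 c.symm.ne_top)
  obtain ⟨h₀, hh₀, hne⟩ := h0
  have hch : ∀ k : K, ∃ h : H, MulAut.conj ((k : G) * h₀) • K = MulAut.conj (h : G) • K := by
    intro k
    obtain ⟨h, hh, k', hk', e⟩ := c.fac ((k : G) * h₀)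
    refine ⟨⟨h, hh⟩, ?_⟩
    rw [e, conj_smul_smul, conj_smul_eq_self_iff_mem_normalizer.mpr (Subgroup.le_normalizer hk')]
  choose f hf using hch
  have hK'hall : (Nat.card (MulAut.conj h₀ • K : Subgroup G)).Coprime
      (MulAut.conj h₀ • K : Subgroup G).index := by
    have e1 : (MulAut.conj h₀ • K : Subgroup G).index = K.index := by
      have h1 := (MulAut.conj h₀ • K : Subgroup G).card_mul_index
      rw [card_conj_smul, ← K.card_mul_index] at h1
      exact Nat.eq_of_mul_eq_mul_left Nat.card_pos h1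
    rw [card_conj_smul, e1]
    exact c.symm.hall
  have hnone : ∀ k : K, (f k : G) ≠ 1 := by
    intro k h1
    have h2 := hf k
    rw [h1, map_one, one_smul, conj_smul_smul] at h2
    apply hne
    have h3 := congrArg (fun T => MulAut.conj (k : G)⁻¹ • T) h2
    simp only [conj_smul_inv_smul] at h3
    rw [h3]
    exact conj_smul_eq_self_iff_mem_normalizer.mpr (Subgroup.le_normalizer (K.inv_mem k.2))
  have hsome : ∀ k1 k2 : K, f k1 = f k2 → k1 = k2 := by
    intro k1 k2 h1
    have h2 : MulAut.conj ((k1 : G) * h₀) • K = MulAut.conj ((k2 : G) * h₀) • K := by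
      rw [hf k1, hf k2, h1]
    have h3 : ((k2 : G)⁻¹ * k1) ∈ normalizer ((MulAut.conj h₀ • K : Subgroup G) : Set G) := by
      rw [← conj_smul_eq_self_iff_mem_normalizer, conj_smul_smul, ← conj_smul_smul K (k1 : G) h₀,
        h2, conj_smul_smul, conj_smul_inv_smul]
    have hu : (k2 : G)⁻¹ * k1 ∈ MulAut.conj h₀ • K := kw_mem_of_normalizer_hall _ hK'hall h3 (by
      rw [card_conj_smul]
      exact Subgroup.orderOf_dvd_natCard K (K.mul_mem (K.inv_mem k2.2) k1.2))
    have hu1 : (k2 : G)⁻¹ * k1 = 1 := by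
      by_contra hu1
      exact hne (c.symm.ti (K.mul_mem (K.inv_mem k2.2) k1.2) hu1 hu)
    rw [inv_mul_eq_one] at hu1
    exact Subtype.ext hu1.symm
  have hFinj : Function.Injective (fun o : Option K => o.elim (1 : H) f) := by
    intro o1 o2 h12
    cases o1 with
    | none =>
      cases o2 with
      | none => rfl
      | some k2 =>
        exfalso
        have h1 : (1 : H) = f k2 := h12
        exact hnone k2 (by rw [← h1]; rfl)
    | some k1 =>
      cases o2 with
      | none =>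
        exfalso
        have h1 : f k1 = (1 : H) := h12
        exact hnone k1 (by rw [h1]; rfl)
      | some k2 =>
        have h1 : f k1 = f k2 := h12
        rw [hsome k1 k2 h1]
  have h9 := Nat.card_le_card_of_injective _ hFinj
  rwa [Finite.card_option] at h9

theorem false_of_cfg (c : KWcfg H K) : False := by
  have h1 := c.card_lt
  have h2 := c.symm.card_lt
  omega

end KWcfg

end Cfsg.Agent.Lib.Helper9
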