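import Cfsg.Agent.Lib.Helper7.Coprime2
import Cfsg.Agent.Lib.Helper9.ConjLemmas

set_option autoImplicit false

namespace Cfsg.Agent.Lib.Helper9

open Subgroup Cfsg.Agent.Lib.Helper7
open scoped Pointwise commutatorElement

universe u

/-- Stability argument: if `g` normalizes `Q`, has order coprime to `|Q|`, and maps every element
of `Q` to a conjugate under the nilpotent group `H ≥ Q`, then `g` centralizes `Q`. -/
theorem centralizes_of_conj_in {G : Type u} [Group G] [Finite G] (H Q : Subgroup G)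
    (hH : Group.IsNilpotent H) (hQH : Q ≤ H) (g : G)
    (hg : g ∈ normalizer (Q : Set G)) (hcop : (orderOf g).Coprime (Nat.card Q))
    (hconj : ∀ y ∈ Q, ∃ u ∈ H, g * y * g⁻¹ = u * y * u⁻¹) :
    ∀ y ∈ Q, g * y = y * g := by
  -- extend the hypothesis to the powers of `g`
  have hpow : ∀ (j : ℕ), ∀ y ∈ Q, g ^ j * y * (g ^ j)⁻¹ ∈ Q ∧
      ∃ u ∈ H, g ^ j * y * (g ^ j)⁻¹ = u * y * u⁻¹ := by
    intro j
    induction j with
    | zero =>
      intro y hy
      refine ⟨by simpa using hy, 1, H.one_mem, by simp⟩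
    | succ j ih =>
      intro y hy
      obtain ⟨h1, u, hu, h2⟩ := ih y hy
      obtain ⟨u', hu', h3⟩ := hconj _ h1
      have h4 : g ^ (j + 1) * y * (g ^ (j + 1))⁻¹ = g * (g ^ j * y * (g ^ j)⁻¹) * g⁻¹ := by
        rw [pow_succ']; group
      refine ⟨?_, u' * u, H.mul_mem hu' hu, ?_⟩
      · rw [h4]; exact (Subgroup.mem_normalizer_iff.mp hg _).mp h1
      · rw [h4, h3, h2]; group
  have hA : ∀ a ∈ zpowers g, ∀ y ∈ Q, a * y * a⁻¹ ∈ Q ∧ ∃ u ∈ H, a * y * a⁻¹ = u * y * u⁻¹ := by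
    intro a ha y hy
    rw [← mem_powers_iff_mem_zpowers] at ha
    obtain ⟨j, hj⟩ := ha
    have hj' : g ^ j = a := hj
    rw [← hj']
    exact hpow j y hy
  have hAN : ∀ i, zpowers g ≤ normalizer ((Q ⊓ H.lowerCentralSeries i : Subgroup G) : Set G) := by
    intro i a ha
    apply mem_normalizer_of_conj_smul_le
    intro x hx
    rw [mem_conj_smul_iff] at hx
    obtain ⟨h1, u, hu, h2⟩ := hA a ha _ hx.1
    have h3 : a * (a⁻¹ * x * a) * a⁻¹ = x := by group
    rw [h3] at h1 h2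
    refine ⟨h1, ?_⟩
    rw [h2]
    exact (Subgroup.mem_normalizer_iff.mp (H.self_le_normalizer_lowerCentralSeries i hu) _).mp hx.2
  have hcopi : ∀ i, (Nat.card (zpowers g)).Coprime
      (Nat.card (Q ⊓ H.lowerCentralSeries i : Subgroup G)) := by
    intro i
    rw [Nat.card_zpowers]
    exact Nat.Coprime.coprime_dvd_right (Subgroup.card_dvd_of_le inf_le_left) hcop
  have hstep : ∀ i, ⁅(Q ⊓ H.lowerCentralSeries i : Subgroup G), zpowers g⁆ ≤
      Q ⊓ H.lowerCentralSeries (i + 1) := by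
    intro i
    rw [Subgroup.commutator_le]
    intro y hy a ha
    obtain ⟨h1, u, hu, h2⟩ := hA a ha y⁻¹ (Q.inv_mem hy.1)
    have h3 : ⁅y, a⁆ = y * (a * y⁻¹ * a⁻¹) := by rw [commutatorElement_def]; group
    refine ⟨?_, ?_⟩
    · rw [h3]; exact Q.mul_mem hy.1 h1
    · rw [h3, h2, Subgroup.lowerCentralSeries_succ]
      have h4 : y * (u * y⁻¹ * u⁻¹) = ⁅y, u⁆ := by rw [commutatorElement_def]; group
      rw [h4]
      exact Subgroup.commutator_mem_commutator hy.2 hu
  obtain ⟨c, hc⟩ := (Subgroup.isNilpotent_iff_lowerCentralSeries H).mp hH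
  have hmain : ∀ (d i : ℕ), H.lowerCentralSeries (i + d) = ⊥ →
      ⁅(Q ⊓ H.lowerCentralSeries i : Subgroup G), zpowers g⁆ = ⊥ := by
    intro d
    induction d with
    | zero =>
      intro i hi
      rw [add_zero] at hi
      rw [hi, inf_bot_eq, Subgroup.commutator_bot_left]
    | succ d ih =>
      intro i hi
      have h1 := ih (i + 1) (by rw [← hi]; congr 1; omega)
      rw [← commutator_commutator_eq (zpowers g) _ (hAN i) (hcopi i) (Or.inl inferInstance),
        eq_bot_iff, ← h1]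
      exact Subgroup.commutator_mono (hstep i) le_rfl
  have h0 := hmain c 0 (by rw [zero_add]; exact hc)
  intro y hy
  have h5 : ⁅y, g⁆ ∈ ⁅(Q ⊓ H.lowerCentralSeries 0 : Subgroup G), zpowers g⁆ :=
    Subgroup.commutator_mem_commutator ⟨hy, hQH hy⟩ (mem_zpowers g)
  rw [h0, Subgroup.mem_bot, commutatorElement_eq_one_iff_mul_comm] at h5
  exact h5.symm

end Cfsg.Agent.Lib.Helper9
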