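import Mathlib
import Cfsg.Agent.Lib.Helper9.KW1
import Cfsg.Agent.Lib.Helper9.SSInd
import Cfsg.Agent.Lib.Helper7.CoprimeSylow
import Cfsg.Agent.S1946
import Cfsg.Agent.S0564

/-! A finite group with a nilpotent maximal subgroup of class at most two is solvable
(Deskins–Janko–Thompson), via weak closure of `Z(P)` and the fusion criterion for
`p`-nilpotency. -/

set_option autoImplicit false

namespace Cfsg.Agent.Lib.Helper9

open Subgroup
open scoped Pointwise commutatorElement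

universe u

variable {G : Type u} [Group G]

/-- Two `p`-subgroups of `C` can be put in a common `p`-subgroup after conjugating one by an
element of `C`. -/
theorem nm_exists_pgroup_in [Finite G] {p : ℕ} [Fact p.Prime] (C A B : Subgroup G) (hA : A ≤ C)
    (hB : B ≤ C) (hAp : IsPGroup p A) (hBp : IsPGroup p B) :
    ∃ c ∈ C, ∃ T : Subgroup G, IsPGroup p T ∧ A ≤ T ∧ ∀ b ∈ B, c * b * c⁻¹ ∈ T := by
  have hA' : IsPGroup p (A.subgroupOf C) := hAp.comap_subtype
  have hB' : IsPGroup p (B.subgroupOf C) := hBp.comap_subtype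
  obtain ⟨S₁, h1⟩ := hA'.exists_le_sylow
  obtain ⟨S₂, h2⟩ := hB'.exists_le_sylow
  obtain ⟨c, hc⟩ := MulAction.exists_smul_eq C S₂ S₁
  refine ⟨c, c.2, (S₁ : Subgroup C).map C.subtype, S₁.isPGroup'.map _, ?_, ?_⟩
  · intro a ha
    exact ⟨⟨a, hA ha⟩, h1 (Subgroup.mem_subgroupOf.mpr ha), rfl⟩
  · intro b hb
    have hb2 : (⟨b, hB hb⟩ : C) ∈ (S₂ : Subgroup C) := h2 (Subgroup.mem_subgroupOf.mpr hb)
    have h3 : c * ⟨b, hB hb⟩ * c⁻¹ ∈ ((c • S₂ : Sylow p C) : Subgroup C) := by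
      rw [Sylow.coe_subgroup_smul]
      exact conj_mem_conj_smul c hb2
    rw [hc] at h3
    exact ⟨_, h3, rfl⟩

/-- In a finite nilpotent subgroup `M`, every element is a product of a `p`-element and an
element centralizing the Sylow `p`-subgroup. -/
theorem nm_decomp [Finite G] {p : ℕ} [hp : Fact p.Prime] {M : Subgroup G}
    (hnil : Group.IsNilpotent M) {m : G} (hm : m ∈ M) :
    ∃ x ∈ kwSy p M, ∃ h ∈ M, m = x * h ∧ ∀ u ∈ kwSy p M, h * u = u * h := by
  have hn0 : orderOf m ≠ 0 := (orderOf_pos m).ne'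
  obtain ⟨a, ha⟩ : ∃ a, a = ordProj[p] (orderOf m) := ⟨_, rfl⟩
  obtain ⟨r, hr⟩ : ∃ r, r = ordCompl[p] (orderOf m) := ⟨_, rfl⟩
  have han : a * r = orderOf m := by rw [ha, hr]; exact Nat.ordProj_mul_ordCompl_eq_self _ _
  have hcop : Nat.Coprime a r := by
    rw [ha, hr]
    exact Nat.Coprime.pow_left _ (Nat.coprime_ordCompl hp.1 hn0)
  have hbez := Nat.gcd_eq_gcd_ab a r
  rw [hcop.gcd_eq_one] at hbez
  obtain ⟨A, hA⟩ : ∃ A : ℤ, A = Nat.gcdA a r := ⟨_, rfl⟩
  obtain ⟨B, hB⟩ : ∃ B : ℤ, B = Nat.gcdB a r := ⟨_, rfl⟩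
  rw [← hA, ← hB] at hbez
  have hxa : ((m ^ r) ^ B) ^ a = 1 := by
    rw [← zpow_natCast m r, ← zpow_mul, ← zpow_natCast _ a, ← zpow_mul]
    have e : (r : ℤ) * B * (a : ℤ) = (orderOf m : ℤ) * B := by rw [← han]; push_cast; ring
    rw [e, zpow_mul, zpow_natCast, pow_orderOf_eq_one, one_zpow]
  have hhr : ((m ^ a) ^ A) ^ r = 1 := by
    rw [← zpow_natCast m a, ← zpow_mul, ← zpow_natCast _ r, ← zpow_mul]
    have e : (a : ℤ) * A * (r : ℤ) = (orderOf m : ℤ) * A := by rw [← han]; push_cast; ring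
    rw [e, zpow_mul, zpow_natCast, pow_orderOf_eq_one, one_zpow]
  have hxM : (m ^ r) ^ B ∈ M := M.zpow_mem (M.pow_mem hm r) B
  have hhM : (m ^ a) ^ A ∈ M := M.zpow_mem (M.pow_mem hm a) A
  have hox : ∃ k, orderOf ((m ^ r) ^ B) = p ^ k := by
    have h1 := orderOf_dvd_of_pow_eq_one hxa
    rw [ha] at h1
    obtain ⟨k, -, hk⟩ := (Nat.dvd_prime_pow hp.1).mp h1
    exact ⟨k, hk⟩
  have hoh : (orderOf ((m ^ a) ^ A)).Coprime p := by
    have h1 := orderOf_dvd_of_pow_eq_one hhr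
    have h2 : Nat.Coprime r p := by
      rw [hr]; exact (Nat.coprime_ordCompl hp.1 hn0).symm
    exact Nat.Coprime.coprime_dvd_left h1 h2
  refine ⟨(m ^ r) ^ B, kwSy_mem hnil hxM hox, (m ^ a) ^ A, hhM, ?_, ?_⟩
  · rw [← zpow_natCast m r, ← zpow_mul, ← zpow_natCast m a, ← zpow_mul, ← zpow_add]
    have e : (r : ℤ) * B + (a : ℤ) * A = 1 := by
      have h9 : ((1 : ℕ) : ℤ) = 1 := Nat.cast_one
      rw [h9] at hbez
      rw [hbez]; ring
    rw [e, zpow_one]
  · intro u hu
    exact (kw_nil_comm hnil p (kwSy_le p M hu) hhM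
      (kw_orderOf_of_isPGroup hp.1 (kwSy_isPGroup p M) hu) hoh).symm

/-- In the core-free situation, a nontrivial subgroup of `M` normalized by `M` has normalizer
`M`. -/
theorem nm_normalizer_eq {M : Subgroup G} (hM : IsCoatom M)
    (hcore : ∀ N : Subgroup G, N.Normal → N ≤ M → N = ⊥) (X : Subgroup G) (hX : X ≠ ⊥)
    (hXM : X ≤ M) (hMX : M ≤ normalizer (X : Set G)) : normalizer (X : Set G) = M := by
  rcases hM.le_iff.mp hMX with h | h
  · exfalso; exact hX (hcore X (normalizer_eq_top_iff.mp h) hXM)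
  · exact h

theorem nm_centralizer_mem [Finite G] {M : Subgroup G} (hM : IsCoatom M)
    (hcore : ∀ N : Subgroup G, N.Normal → N ≤ M → N = ⊥) {z : G} (hz : z ∈ M) (hz1 : z ≠ 1)
    (hzc : ∀ m ∈ M, m * z = z * m) {g : G} (hg : g * z = z * g) : g ∈ M := by
  have key : ∀ b : G, b * z = z * b → b ∈ normalizer ((zpowers z : Subgroup G) : Set G) := by
    intro b hb
    apply kw_mem_normalizer_of_comm
    intro y hy
    obtain ⟨k, rfl⟩ := mem_zpowers_iff.mp hy
    have hc : Commute b z := hb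
    exact (hc.zpow_right k).eq
  have h1 := nm_normalizer_eq hM hcore (zpowers z) (by
      intro h
      apply hz1
      have : z ∈ (zpowers z : Subgroup G) := mem_zpowers z
      rw [h, Subgroup.mem_bot] at this
      exact this) (by rw [zpowers_le]; exact hz) (fun m hm => key m (hzc m hm))
  rw [← h1]
  exact key g hg

theorem nm_norm_P [Finite G] {M : Subgroup G} (hM : IsCoatom M) (hnil : Group.IsNilpotent M)
    (hcore : ∀ N : Subgroup G, N.Normal → N ≤ M → N = ⊥) {p : ℕ} [hp : Fact p.Prime]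
    (hpM : p ∣ Nat.card M) : normalizer ((kwSy p M : Subgroup G) : Set G) = M :=
  nm_normalizer_eq hM hcore _ (kwSy_ne_bot hpM) (kwSy_le p M) (kwSy_normalizer hnil)

theorem nm_card_P [Finite G] {M : Subgroup G} (hM : IsCoatom M) (hnil : Group.IsNilpotent M)
    (hcore : ∀ N : Subgroup G, N.Normal → N ≤ M → N = ⊥) {p : ℕ} [hp : Fact p.Prime]
    (hpM : p ∣ Nat.card M) : Nat.card (kwSy p M) = p ^ (Nat.card G).factorization p := by
  obtain ⟨S, hS⟩ := (kwSy_isPGroup p M).exists_le_sylow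
  have heq : kwSy p M = (S : Subgroup G) := by
    by_contra hne
    have hSnil : Group.IsNilpotent (S : Subgroup G) := S.isPGroup'.isNilpotent
    have hlt : (kwSy p M).subgroupOf (S : Subgroup G) < ⊤ := by
      rw [lt_top_iff_ne_top]
      intro h
      rw [Subgroup.subgroupOf_eq_top] at h
      exact hne (le_antisymm hS h)
    have h1 := Group.normalizerCondition_of_isNilpotent (G := (S : Subgroup G)) _ hlt
    obtain ⟨x, hx1, hx2⟩ := SetLike.exists_of_lt h1
    rw [← Subgroup.subgroupOf_normalizer_eq hS, Subgroup.mem_subgroupOf,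
      nm_norm_P hM hnil hcore hpM] at hx1
    apply hx2
    rw [Subgroup.mem_subgroupOf]
    exact kwSy_mem hnil hx1 (kw_orderOf_of_isPGroup hp.1 S.isPGroup' x.2)
  rw [heq]
  exact S.card_eq_multiplicity

/-- the centre of the Sylow `p`-subgroup of `M` is central in `M` -/
theorem nm_Z_central [Finite G] {M : Subgroup G} (hnil : Group.IsNilpotent M) {p : ℕ}
    [hp : Fact p.Prime] {z : G}
    (hz : z ∈ kwSy p M ⊓ centralizer ((kwSy p M : Subgroup G) : Set G)) {m : G} (hm : m ∈ M) :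
    m * z = z * m := by
  obtain ⟨hz1, hz2⟩ := Subgroup.mem_inf.mp hz
  obtain ⟨x, hx, h, hh, rfl, hcomm⟩ := nm_decomp (p := p) hnil hm
  have e1 : x * z = z * x := Subgroup.mem_centralizer_iff.mp hz2 x hx
  have e2 := hcomm z hz1
  calc x * h * z = x * (h * z) := by group
    _ = x * (z * h) := by rw [e2]
    _ = (x * z) * h := by group
    _ = (z * x) * h := by rw [e1]
    _ = z * (x * h) := by group

theorem nm_Z_ne_bot [Finite G] {M : Subgroup G} {p : ℕ} [hp : Fact p.Prime]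
    (hpM : p ∣ Nat.card M) :
    ∃ z ∈ kwSy p M ⊓ centralizer ((kwSy p M : Subgroup G) : Set G), z ≠ 1 := by
  have hPnil : Group.IsNilpotent (kwSy p M) := (kwSy_isPGroup p M).isNilpotent
  obtain ⟨z, hz, hz1, hzc⟩ := kw_exists_central_in hPnil (kwSy p M) le_rfl le_normalizer
    (kwSy_ne_bot hpM)
  refine ⟨z, Subgroup.mem_inf.mpr ⟨hz, ?_⟩, hz1⟩
  rw [Subgroup.mem_centralizer_iff]
  intro x hx
  exact (hzc x hx).symm

/-- `M` normalizes every subgroup between `Z(P)` and `P`. -/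
theorem nm_norm_E [Finite G] {M : Subgroup G} (hnil : Group.IsNilpotent M)
    (hC2 : ∀ x ∈ M, ∀ y ∈ M, ∀ z ∈ M, ⁅x, y⁆ * z = z * ⁅x, y⁆) {p : ℕ} [hp : Fact p.Prime]
    (E : Subgroup G) (hZE : kwSy p M ⊓ centralizer ((kwSy p M : Subgroup G) : Set G) ≤ E)
    (hEP : E ≤ kwSy p M) : M ≤ normalizer (E : Set G) := by
  rw [Subgroup.le_normalizer_iff]
  intro m hm e he
  have heP := hEP he
  have hc : ⁅m, e⁆ ∈ kwSy p M ⊓ centralizer ((kwSy p M : Subgroup G) : Set G) := by
    refine Subgroup.mem_inf.mpr ⟨?_, ?_⟩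
    · rw [commutatorElement_def]
      have h1 : m * e * m⁻¹ ∈ kwSy p M :=
        (Subgroup.mem_normalizer_iff.mp (kwSy_normalizer hnil hm) e).mp heP
      exact Subgroup.mul_mem _ h1 (Subgroup.inv_mem _ heP)
    · rw [Subgroup.mem_centralizer_iff]
      intro u hu
      exact (hC2 m hm e (kwSy_le p M heP) u (kwSy_le p M hu)).symm
  have e1 : m * e * m⁻¹ = ⁅m, e⁆ * e := by rw [commutatorElement_def]; group
  rw [e1]
  exact E.mul_mem (hZE hc) he

/-- weak closure of `Z(P)`: a conjugating element carrying `Z(P)` into `P` lies in `M`. -/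
theorem nm_weak [Finite G] {M : Subgroup G} (hM : IsCoatom M) (hnil : Group.IsNilpotent M)
    (hC2 : ∀ x ∈ M, ∀ y ∈ M, ∀ z ∈ M, ⁅x, y⁆ * z = z * ⁅x, y⁆)
    (hcore : ∀ N : Subgroup G, N.Normal → N ≤ M → N = ⊥) {p : ℕ} [hp : Fact p.Prime]
    (hpM : p ∣ Nat.card M) (g : G)
    (hg : ∀ z ∈ kwSy p M ⊓ centralizer ((kwSy p M : Subgroup G) : Set G),
      g * z * g⁻¹ ∈ kwSy p M) : g ∈ M := by
  obtain ⟨z₀, hz₀, hz₀1⟩ := nm_Z_ne_bot (M := M) (p := p) hpM
  have hz₀P : z₀ ∈ kwSy p M := (Subgroup.mem_inf.mp hz₀).1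
  have hMbot : M ≠ ⊥ := by
    intro h
    apply hz₀1
    have : z₀ ∈ M := kwSy_le p M hz₀P
    rw [h, Subgroup.mem_bot] at this
    exact this
  have hZP : kwSy p M ⊓ centralizer ((kwSy p M : Subgroup G) : Set G) ≤ kwSy p M := inf_le_left
  -- claim 1 : g⁻¹ Z g ⊆ P
  have hcl1 : ∀ z ∈ kwSy p M ⊓ centralizer ((kwSy p M : Subgroup G) : Set G),
      g⁻¹ * z * g ∈ kwSy p M := by
    intro z hz
    have hw := hg z₀ hz₀
    have e1 : (g * z₀ * g⁻¹) * z = z * (g * z₀ * g⁻¹) :=
      Subgroup.mem_centralizer_iff.mp (Subgroup.mem_inf.mp hz).2 _ hw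
    have e2 : (g⁻¹ * z * g) * z₀ = z₀ * (g⁻¹ * z * g) := by
      calc (g⁻¹ * z * g) * z₀ = g⁻¹ * (z * (g * z₀ * g⁻¹)) * g := by group
        _ = g⁻¹ * ((g * z₀ * g⁻¹) * z) * g := by rw [e1]
        _ = z₀ * (g⁻¹ * z * g) := by group
    have h3 : g⁻¹ * z * g ∈ M := nm_centralizer_mem hM hcore (kwSy_le p M hz₀P) hz₀1
      (fun m hm => nm_Z_central hnil hz₀ hm) e2
    apply kwSy_mem hnil h3
    obtain ⟨k, hk⟩ := kw_orderOf_of_isPGroup hp.1 (kwSy_isPGroup p M) (hZP hz)
    refine ⟨k, ?_⟩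
    have := kw_orderOf_conj g⁻¹ z
    rw [inv_inv] at this
    rw [this, hk]
  obtain ⟨E₁, hE₁⟩ : ∃ E₁ : Subgroup G, E₁ = (kwSy p M ⊓
      centralizer ((kwSy p M : Subgroup G) : Set G)) ⊔ MulAut.conj g • (kwSy p M ⊓
      centralizer ((kwSy p M : Subgroup G) : Set G)) := ⟨_, rfl⟩
  obtain ⟨E₂, hE₂⟩ : ∃ E₂ : Subgroup G, E₂ = (kwSy p M ⊓
      centralizer ((kwSy p M : Subgroup G) : Set G)) ⊔ MulAut.conj g⁻¹ • (kwSy p M ⊓
      centralizer ((kwSy p M : Subgroup G) : Set G)) := ⟨_, rfl⟩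
  have hE₁P : E₁ ≤ kwSy p M := by
    rw [hE₁]
    refine sup_le hZP ?_
    intro x hx
    rw [mem_conj_smul_iff] at hx
    have := hg _ hx
    have e : g * (g⁻¹ * x * g) * g⁻¹ = x := by group
    rwa [e] at this
  have hE₂P : E₂ ≤ kwSy p M := by
    rw [hE₂]
    refine sup_le hZP ?_
    intro x hx
    rw [mem_conj_smul_iff, inv_inv] at hx
    have := hcl1 _ hx
    have e : g⁻¹ * (g * x * g⁻¹) * g = x := by group
    rwa [e] at this
  have hE₁₂ : E₁ = MulAut.conj g • E₂ := by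
    rw [hE₁, hE₂, Subgroup.smul_sup, conj_smul_smul_inv, sup_comm]
  have hZE₁ : kwSy p M ⊓ centralizer ((kwSy p M : Subgroup G) : Set G) ≤ E₁ := by
    rw [hE₁]; exact le_sup_left
  have hZE₂ : kwSy p M ⊓ centralizer ((kwSy p M : Subgroup G) : Set G) ≤ E₂ := by
    rw [hE₂]; exact le_sup_left
  have hE₁bot : E₁ ≠ ⊥ := by
    intro h
    apply hz₀1
    have : z₀ ∈ E₁ := hZE₁ hz₀
    rw [h, Subgroup.mem_bot] at this
    exact this
  have hN₁ : normalizer (E₁ : Set G) = M :=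
    nm_normalizer_eq hM hcore E₁ hE₁bot (hE₁P.trans (kwSy_le p M)) (nm_norm_E hnil hC2 E₁ hZE₁ hE₁P)
  have hgM : g ∈ normalizer (M : Set G) := by
    apply mem_normalizer_of_conj_smul_le
    intro x hx
    rw [mem_conj_smul_iff] at hx
    have h1 : g⁻¹ * x * g ∈ normalizer (E₂ : Set G) := nm_norm_E hnil hC2 E₂ hZE₂ hE₂P hx
    have h2 : x ∈ normalizer ((MulAut.conj g • E₂ : Subgroup G) : Set G) :=
      kw_mem_normalizer_conj_smul h1
    rw [← hE₁₂, hN₁] at h2
    exact h2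
  rw [nm_normalizer_eq hM hcore M hMbot le_rfl le_normalizer] at hgM
  exact hgM

/-- `P` controls its own fusion. -/
theorem nm_fusion [Finite G] {M : Subgroup G} (hM : IsCoatom M) (hnil : Group.IsNilpotent M)
    (hC2 : ∀ x ∈ M, ∀ y ∈ M, ∀ z ∈ M, ⁅x, y⁆ * z = z * ⁅x, y⁆)
    (hcore : ∀ N : Subgroup G, N.Normal → N ≤ M → N = ⊥) {p : ℕ} [hp : Fact p.Prime]
    (hpM : p ∣ Nat.card M) {a : G} (ha : a ∈ kwSy p M) (g : G)
    (hb : g * a * g⁻¹ ∈ kwSy p M) : ∃ x ∈ kwSy p M, g * a * g⁻¹ = x * a * x⁻¹ := by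
  have hZP : kwSy p M ⊓ centralizer ((kwSy p M : Subgroup G) : Set G) ≤ kwSy p M := inf_le_left
  have hZp : IsPGroup p ↥(kwSy p M ⊓ centralizer ((kwSy p M : Subgroup G) : Set G)) :=
    (kwSy_isPGroup p M).to_le hZP
  have hBp : IsPGroup p ↥(MulAut.conj g • (kwSy p M ⊓
      centralizer ((kwSy p M : Subgroup G) : Set G))) := by
    apply kw_isPGroup_of_orderOf
    intro y hy
    rw [mem_conj_smul_iff] at hy
    obtain ⟨k, hk⟩ := kw_orderOf_of_isPGroup hp.1 hZp hy
    refine ⟨k, ?_⟩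
    have := kw_orderOf_conj g⁻¹ y
    rw [inv_inv] at this
    rw [← this, hk]
  have hAC : kwSy p M ⊓ centralizer ((kwSy p M : Subgroup G) : Set G) ≤
      centralizer ({g * a * g⁻¹} : Set G) := by
    intro z hz
    rw [Subgroup.mem_centralizer_iff]
    intro h hh
    rw [Set.mem_singleton_iff] at hh
    rw [hh]
    exact Subgroup.mem_centralizer_iff.mp (Subgroup.mem_inf.mp hz).2 _ hb
  have hBC : MulAut.conj g • (kwSy p M ⊓ centralizer ((kwSy p M : Subgroup G) : Set G)) ≤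
      centralizer ({g * a * g⁻¹} : Set G) := by
    intro y hy
    rw [mem_conj_smul_iff] at hy
    rw [Subgroup.mem_centralizer_iff]
    intro h hh
    rw [Set.mem_singleton_iff] at hh
    rw [hh]
    have e1 : a * (g⁻¹ * y * g) = (g⁻¹ * y * g) * a :=
      Subgroup.mem_centralizer_iff.mp (Subgroup.mem_inf.mp hy).2 a ha
    calc g * a * g⁻¹ * y = g * (a * (g⁻¹ * y * g)) * g⁻¹ := by group
      _ = g * ((g⁻¹ * y * g) * a) * g⁻¹ := by rw [e1]
      _ = y * (g * a * g⁻¹) := by group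
  obtain ⟨c, hc, T, hT, hZT, hBT⟩ := nm_exists_pgroup_in _ _ _ hAC hBC hZp hBp
  obtain ⟨t, ht⟩ := kw_exists_conj_le (kwSy p M) (nm_card_P hM hnil hcore hpM) T hT
  have htM : t⁻¹ ∈ M := by
    apply nm_weak hM hnil hC2 hcore hpM
    intro z hz
    have h1 := ht (hZT hz)
    rw [mem_conj_smul_iff] at h1
    rw [inv_inv]
    exact h1
  have htcg : t⁻¹ * c * g ∈ M := by
    apply nm_weak hM hnil hC2 hcore hpM
    intro z hz
    have h1 := ht (hBT _ (conj_mem_conj_smul g hz))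
    rw [mem_conj_smul_iff] at h1
    have e : t⁻¹ * c * g * z * (t⁻¹ * c * g)⁻¹ = t⁻¹ * (c * (g * z * g⁻¹) * c⁻¹) * t := by group
    rw [e]
    exact h1
  have hn : c * g ∈ M := by
    have e : c * g = t⁻¹⁻¹ * (t⁻¹ * c * g) := by group
    rw [e]
    exact M.mul_mem (M.inv_mem htM) htcg
  have hcb : (g * a * g⁻¹) * c = c * (g * a * g⁻¹) :=
    Subgroup.mem_centralizer_iff.mp hc _ rfl
  obtain ⟨x, hx, h, hh, hxh, hcomm⟩ := nm_decomp (p := p) hnil hn
  refine ⟨x, hx, ?_⟩
  have e2 := hcomm a ha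
  have e3 : c * g * a * (c * g)⁻¹ = x * a * x⁻¹ := by
    rw [hxh]
    calc x * h * a * (x * h)⁻¹ = x * (h * a) * h⁻¹ * x⁻¹ := by group
      _ = x * (a * h) * h⁻¹ * x⁻¹ := by rw [e2]
      _ = x * a * x⁻¹ := by group
  have e4 : c * g * a * (c * g)⁻¹ = g * a * g⁻¹ := by
    calc c * g * a * (c * g)⁻¹ = (c * (g * a * g⁻¹)) * c⁻¹ := by group
      _ = ((g * a * g⁻¹) * c) * c⁻¹ := by rw [hcb]
      _ = g * a * g⁻¹ := by group
  exact e4.symm.trans e3

theorem nm_npc [Finite G] {M : Subgroup G} (hM : IsCoatom M) (hnil : Group.IsNilpotent M)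
    (hC2 : ∀ x ∈ M, ∀ y ∈ M, ∀ z ∈ M, ⁅x, y⁆ * z = z * ⁅x, y⁆)
    (hcore : ∀ N : Subgroup G, N.Normal → N ≤ M → N = ⊥) {p : ℕ} [hp : Fact p.Prime]
    (hpM : p ∣ Nat.card M) :
    ∃ N : Subgroup G, N.Normal ∧ ¬ p ∣ Nat.card N ∧ ∃ k, derivedSeries G k ≤ N := by
  obtain ⟨S, hS⟩ := (kwSy_isPGroup p M).exists_le_sylow
  have heq : kwSy p M = (S : Subgroup G) := Subgroup.eq_of_le_of_card_ge hS (by
    rw [nm_card_P hM hnil hcore hpM, S.card_eq_multiplicity])
  have hnpc : Cfsg.HasNormalPComplement p G := by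
    rw [Cfsg.Agent.S1946.result S]
    intro a ha _ g hg
    rw [← heq] at ha hg ⊢
    exact nm_fusion hM hnil hC2 hcore hpM ha g hg
  obtain ⟨P', N, hNn, hNc⟩ := hnpc
  refine ⟨N, hNn, ?_, ?_⟩
  · have h1 : (P' : Subgroup G).index = Nat.card N := hNc.index_eq_card
    rw [← h1]
    exact P'.not_dvd_index
  · have h2 : N.index = Nat.card (P' : Subgroup G) := hNc.symm.index_eq_card
    have hpg : IsPGroup p (G ⧸ N) := by
      obtain ⟨k, hk⟩ := IsPGroup.iff_card.mp P'.isPGroup'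
      apply IsPGroup.of_card (n := k)
      rw [← Subgroup.index_eq_card, h2, hk]
    have hnilq : Group.IsNilpotent (G ⧸ N) := hpg.isNilpotent
    have hsolq : Group.IsSolvable (G ⧸ N) := inferInstance
    obtain ⟨k, hk⟩ := hsolq.solvable
    refine ⟨k, ?_⟩
    have h3 := map_derivedSeries_le_derivedSeries (QuotientGroup.mk' N) k
    rw [hk, le_bot_iff, Subgroup.map_eq_bot_iff, QuotientGroup.ker_mk'] at h3
    exact h3

theorem nm_solvable_corefree [Finite G] {M : Subgroup G} (hM : IsCoatom M)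
    (hnil : Group.IsNilpotent M)
    (hC2 : ∀ x ∈ M, ∀ y ∈ M, ∀ z ∈ M, ⁅x, y⁆ * z = z * ⁅x, y⁆)
    (hcore : ∀ N : Subgroup G, N.Normal → N ≤ M → N = ⊥) : Group.IsSolvable G := by
  have key : ∀ p ∈ (Nat.card M).primeFactors, ∃ N : Subgroup G, N.Normal ∧ ¬ p ∣ Nat.card N ∧
      ∃ k, derivedSeries G k ≤ N := by
    intro p hp
    have hpp := Nat.prime_of_mem_primeFactors hp
    haveI : Fact p.Prime := ⟨hpp⟩
    exact nm_npc hM hnil hC2 hcore (Nat.dvd_of_mem_primeFactors hp)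
  choose! N hNn hNp hNk using key
  obtain ⟨L, hL⟩ : ∃ L : Subgroup G, L = ⨅ p ∈ (Nat.card M).primeFactors, N p := ⟨_, rfl⟩
  have hLn : L.Normal := by
    rw [hL]
    exact Subgroup.normal_iInf_normal (fun p => Subgroup.normal_iInf_normal (fun hp => hNn p hp))
  have hLle : ∀ p ∈ (Nat.card M).primeFactors, L ≤ N p := fun p hp => hL ▸ iInf₂_le p hp
  have hcop : (Nat.card M).Coprime (Nat.card L) := by
    apply Nat.coprime_of_dvd
    intro q hq hqM hqL
    have hmem : q ∈ (Nat.card M).primeFactors :=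
      Nat.mem_primeFactors.mpr ⟨hq, hqM, Nat.card_pos.ne'⟩
    exact hNp q hmem (hqL.trans (Subgroup.card_dvd_of_le (hLle q hmem)))
  have hLM : ∀ x ∈ L, x ∈ M → x = 1 := fun x hxL hxM =>
    Cfsg.Agent.Lib.Helper7.eq_one_of_mem_of_mem_coprime hcop hxM hxL
  have hder : ∃ k, derivedSeries G k ≤ L := by
    have aux : ∀ s : Finset ℕ, s ⊆ (Nat.card M).primeFactors →
        ∃ k, ∀ p ∈ s, derivedSeries G k ≤ N p := by
      intro s
      induction s using Finset.induction_on with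
      | empty => intro _; exact ⟨0, fun p hp => absurd hp (Finset.notMem_empty p)⟩
      | insert q s hq ih =>
        intro hsub
        obtain ⟨k₁, hk₁⟩ := ih (fun x hx => hsub (Finset.mem_insert_of_mem hx))
        obtain ⟨k₂, hk₂⟩ := hNk q (hsub (Finset.mem_insert_self q s))
        refine ⟨max k₁ k₂, fun p hp => ?_⟩
        rcases Finset.mem_insert.mp hp with rfl | hp'
        · exact (derivedSeries_antitone G (le_max_right k₁ k₂)).trans hk₂
        · exact (derivedSeries_antitone G (le_max_left k₁ k₂)).trans (hk₁ p hp')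
    obtain ⟨k, hk⟩ := aux _ (Finset.Subset.refl _)
    refine ⟨k, ?_⟩
    rw [hL]
    exact le_iInf₂ hk
  have hsolM : Group.IsSolvable M := inferInstance
  have hML : M ≤ normalizer (L : Set G) := by rw [normalizer_eq_top_iff.mpr hLn]; exact le_top
  have hLsol : Group.IsSolvable L := by
    by_cases hL1 : Nat.card L = 1
    · haveI : Subsingleton L := (Nat.card_eq_one_iff_unique.mp hL1).1
      infer_instance
    · obtain ⟨q, hq, hqL⟩ := Nat.exists_prime_and_dvd hL1
      haveI : Fact q.Prime := ⟨hq⟩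
      obtain ⟨Q, hQ⟩ := Cfsg.Agent.Lib.Helper7.exists_invariant_sylow M L hML hcop
        (Or.inl hsolM) q
      have hQL : (Q : Subgroup L).map L.subtype ≤ L := Subgroup.map_subtype_le _
      have hQcard : Nat.card ((Q : Subgroup L).map L.subtype) = Nat.card (Q : Subgroup L) :=
        Subgroup.card_map_of_injective L.subtype_injective
      have hQbot : (Q : Subgroup L).map L.subtype ≠ ⊥ := by
        intro h
        rw [Subgroup.map_eq_bot_iff_of_injective _ L.subtype_injective] at h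
        exact Q.ne_bot_of_dvd_card hqL h
      have hcopQ : (Nat.card M).Coprime (Nat.card ((Q : Subgroup L).map L.subtype)) :=
        Nat.Coprime.coprime_dvd_right (Subgroup.card_dvd_of_le hQL) hcop
      have hsup : M ⊔ (Q : Subgroup L).map L.subtype = ⊤ := by
        rcases hM.le_iff.mp (le_sup_left : M ≤ M ⊔ (Q : Subgroup L).map L.subtype) with h | h
        · exact h
        · exfalso
          apply hQbot
          rw [Subgroup.eq_bot_iff_forall]
          intro x hx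
          have hxM : x ∈ M := by
            rw [← h]
            exact Subgroup.mem_sup_right hx
          exact hLM x (hQL hx) hxM
      have hc1 := Cfsg.Agent.Lib.Helper7.card_sup_of_coprime hQ hcopQ
      have hc2 := Cfsg.Agent.Lib.Helper7.card_sup_of_coprime hML hcop
      rw [hsup, Subgroup.card_top] at hc1
      have hc3 : Nat.card ↥(M ⊔ L) ≤ Nat.card G := Subgroup.card_le_card_group _
      have hMpos : 0 < Nat.card M := Nat.card_pos
      have hle : Nat.card L ≤ Nat.card ((Q : Subgroup L).map L.subtype) := by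
        rw [hc2, hc1] at hc3
        exact Nat.le_of_mul_le_mul_right hc3 hMpos
      have hQeq : (Q : Subgroup L).map L.subtype = L := Subgroup.eq_of_le_of_card_ge hQL hle
      have hpgL : IsPGroup q L := by
        obtain ⟨k, hk⟩ := IsPGroup.iff_card.mp Q.isPGroup'
        apply IsPGroup.of_card (n := k)
        rw [← hk, ← hQcard, hQeq]
      have : Group.IsNilpotent L := hpgL.isNilpotent
      infer_instance
  have hsolq : Group.IsSolvable (G ⧸ L) := by
    obtain ⟨k, hk⟩ := hder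
    refine ⟨⟨k, ?_⟩⟩
    have h1 := derivedSeries_le_map_derivedSeries (QuotientGroup.mk'_surjective L) k
    have h2 : (derivedSeries G k).map (QuotientGroup.mk' L) = ⊥ := by
      rw [Subgroup.map_eq_bot_iff, QuotientGroup.ker_mk']; exact hk
    rw [h2] at h1
    exact le_bot_iff.mp h1
  exact Group.isSolvable_of_ker_le_range L.subtype (QuotientGroup.mk' L)
    (by rw [QuotientGroup.ker_mk', Subgroup.range_subtype])

/-- **Deskins–Janko–Thompson** (class `≤ 2` form): a finite group with a nilpotent maximal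
subgroup in which commutators are central is solvable. -/
theorem nm_main : ∀ (n : ℕ) (G : Type u) [Group G] [Finite G], Nat.card G = n →
    ∀ M : Subgroup G, IsCoatom M → Group.IsNilpotent M →
    (∀ x ∈ M, ∀ y ∈ M, ∀ z ∈ M, ⁅x, y⁆ * z = z * ⁅x, y⁆) → Group.IsSolvable G := by
  intro n
  induction n using Nat.strong_induction_on with
  | _ n ih =>
    intro G _ _ hcard M hM hnil hC2
    by_cases hK : M.normalCore = ⊥
    · apply nm_solvable_corefree hM hnil hC2
      intro N hN hNM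
      have : N ≤ M.normalCore := Subgroup.normal_le_normalCore.mpr hNM
      rw [hK] at this
      exact le_bot_iff.mp this
    · have hKM : M.normalCore ≤ M := Subgroup.normalCore_le M
      have hlt : Nat.card (G ⧸ M.normalCore) < n := hcard ▸ Cfsg.Agent.S0564.card_quot_lt _ hK
      have hker : (QuotientGroup.mk' M.normalCore).ker ≤ M := by
        rw [QuotientGroup.ker_mk']; exact hKM
      have hco := isCoatom_map_of_surjective_of_ker_le (QuotientGroup.mk' M.normalCore)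
        (QuotientGroup.mk'_surjective _) hM hker
      have hnil' : Group.IsNilpotent (M.map (QuotientGroup.mk' M.normalCore)) :=
        Group.nilpotent_of_surjective ((QuotientGroup.mk' M.normalCore).subgroupMap M)
          (MonoidHom.subgroupMap_surjective _ _)
      have hC2' : ∀ x ∈ M.map (QuotientGroup.mk' M.normalCore),
          ∀ y ∈ M.map (QuotientGroup.mk' M.normalCore),
          ∀ z ∈ M.map (QuotientGroup.mk' M.normalCore), ⁅x, y⁆ * z = z * ⁅x, y⁆ := by
        rintro _ ⟨x, hx, rfl⟩ _ ⟨y, hy, rfl⟩ _ ⟨z, hz, rfl⟩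
        rw [← map_commutatorElement, ← map_mul, hC2 x hx y hy z hz, map_mul]
      have hsolq : Group.IsSolvable (G ⧸ M.normalCore) :=
        ih _ hlt (G ⧸ M.normalCore) rfl _ hco hnil' hC2'
      have hsolM : Group.IsSolvable M := inferInstance
      have hsolK : Group.IsSolvable M.normalCore :=
        Group.isSolvable_of_isSolvable_injective (Subgroup.inclusion_injective hKM)
      exact Group.isSolvable_of_ker_le_range M.normalCore.subtype
        (QuotientGroup.mk' M.normalCore)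
        (by rw [QuotientGroup.ker_mk', Subgroup.range_subtype])

end Cfsg.Agent.Lib.Helper9
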