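import Mathlib
import Cfsg.Agent.Lib.Helper7.PCore
import Cfsg.Agent.Lib.Helper9.ProperNilp

set_option autoImplicit false

namespace Cfsg.Agent.Lib.Helper9

open Subgroup
open scoped Pointwise
open Cfsg.Agent.Lib.Helper7

universe u

/-- If `A ⊔ Q` is nilpotent, `A` a `p`-group and `Q` a normal `q`-group (`p ≠ q`), then `A`
centralizes `Q`. -/
theorem commute_of_sup_nilpotent {G : Type u} [Group G] [Finite G] (A Q : Subgroup G)
    [hQn : Q.Normal] (p q : ℕ) [Fact p.Prime] [Fact q.Prime] (hpq : p ≠ q) (hA : IsPGroup p A)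
    (hQ : IsPGroup q Q) (hnil : Group.IsNilpotent (A ⊔ Q : Subgroup G)) :
    ∀ a ∈ A, ∀ b ∈ Q, a * b = b * a := by
  intro a ha b hb
  have hAH : A ≤ A ⊔ Q := le_sup_left
  have hQH : Q ≤ A ⊔ Q := le_sup_right
  have hA' : IsPGroup p (A.subgroupOf (A ⊔ Q)) := hA.comap_subtype
  obtain ⟨P, hP⟩ := hA'.exists_le_sylow
  have hall : ∀ (p : ℕ) [Fact p.Prime] (P : Sylow p (A ⊔ Q : Subgroup G)),
      (P : Subgroup (A ⊔ Q : Subgroup G)).Normal :=
    ((Group.isNilpotent_of_finite_tfae (G := (A ⊔ Q : Subgroup G))).out 0 3).mp hnil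
  have hPn : (P : Subgroup (A ⊔ Q : Subgroup G)).Normal := hall p P
  have hQ'n : (Q.subgroupOf (A ⊔ Q)).Normal := hQn.subgroupOf _
  have hQ' : IsPGroup q (Q.subgroupOf (A ⊔ Q)) := hQ.comap_subtype
  have hdis : Disjoint (P : Subgroup (A ⊔ Q : Subgroup G)) (Q.subgroupOf (A ⊔ Q)) :=
    IsPGroup.disjoint_of_ne p q hpq _ _ P.isPGroup' hQ'
  have h := Subgroup.commute_of_normal_of_disjoint _ _ hPn hQ'n hdis ⟨a, hAH ha⟩ ⟨b, hQH hb⟩
    (hP (mem_subgroupOf.mpr ha)) (mem_subgroupOf.mpr hb)
  exact congrArg Subtype.val h.eq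

/-- A nontrivial finite solvable group has a normal subgroup of prime index. -/
theorem exists_normal_prime_index (G : Type u) [Group G] [Finite G] [Group.IsSolvable G]
    [Nontrivial G] : ∃ M : Subgroup G, M.Normal ∧ M.index.Prime := by
  have hlt := Group.IsSolvable.commutator_lt_top_of_nontrivial G
  obtain ⟨M, hM, hcM⟩ := (eq_top_or_exists_le_coatom (commutator G)).resolve_left hlt.ne
  have hMn : M.Normal := by
    constructor
    intro m hm g
    have h1 : g * m * g⁻¹ * m⁻¹ ∈ commutator G := by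
      rw [commutator_def]
      exact Subgroup.commutator_mem_commutator (mem_top g) (mem_top m)
    have h2 : g * m * g⁻¹ = (g * m * g⁻¹ * m⁻¹) * m := by group
    rw [h2]
    exact M.mul_mem (hcM h1) hm
  refine ⟨M, hMn, ?_⟩
  have hidx1 : M.index ≠ 1 := fun h => hM.1 (Subgroup.index_eq_one.mp h)
  obtain ⟨p, hp, hpd⟩ := Nat.exists_prime_and_dvd hidx1
  have : Fact p.Prime := ⟨hp⟩
  rw [Subgroup.index_eq_card] at hpd ⊢
  obtain ⟨x, hx⟩ := exists_prime_orderOf_dvd_card' p hpd
  have h1 : M ≤ (zpowers x).comap (QuotientGroup.mk' M) := by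
    intro m hm
    rw [mem_comap]
    have : (QuotientGroup.mk' M) m = 1 := (QuotientGroup.eq_one_iff m).mpr hm
    rw [this]; exact one_mem _
  have h2 : (zpowers x).comap (QuotientGroup.mk' M) ≠ M := by
    intro h
    obtain ⟨g, rfl⟩ := QuotientGroup.mk'_surjective M x
    have hg : g ∈ (zpowers ((QuotientGroup.mk' M) g)).comap (QuotientGroup.mk' M) :=
      mem_comap.mpr (mem_zpowers _)
    rw [h] at hg
    have : (QuotientGroup.mk' M) g = 1 := (QuotientGroup.eq_one_iff g).mpr hg
    rw [this, orderOf_one] at hx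
    exact hp.one_lt.ne hx
  have h3 := hM.2 _ (lt_of_le_of_ne h1 (Ne.symm h2))
  have h4 : zpowers x = ⊤ := by
    rw [← Subgroup.map_comap_eq_self_of_surjective (QuotientGroup.mk'_surjective M) (zpowers x),
      h3, Subgroup.map_top_of_surjective _ (QuotientGroup.mk'_surjective M)]
  have h5 : Nat.card (G ⧸ M) = p := by
    rw [← hx, ← Nat.card_zpowers x, h4, Subgroup.card_top]
  rw [h5]; exact hp

/-- Schmidt: structure of a finite minimal non-nilpotent group. -/
theorem schmidt_structure {G : Type u} [Group G] [Finite G] (hnn : ¬ Group.IsNilpotent G)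
    (hprop : ∀ H : Subgroup G, H ≠ ⊤ → Group.IsNilpotent H) :
    ∃ p q : ℕ, p.Prime ∧ q.Prime ∧ p ≠ q ∧ ∃ (P : Sylow p G) (Q : Sylow q G),
      IsCyclic P ∧ (Q : Subgroup G).Normal ∧ (P : Subgroup G) ⊔ Q = ⊤ := by
  classical
  have hsol : Group.IsSolvable G := isSolvable_of_proper_nilpotent (Nat.card G) G le_rfl hprop
  have hnt : Nontrivial G := by
    by_contra h
    rw [not_nontrivial_iff_subsingleton] at h
    exact hnn inferInstance
  obtain ⟨M, hMn, hMp⟩ := exists_normal_prime_index G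
  have hMtop : M ≠ ⊤ := fun h => by
    rw [h, Subgroup.index_top] at hMp; exact Nat.not_prime_one hMp
  have hMnil := hprop M hMtop
  generalize hp_def : M.index = p at hMp
  have hpF : Fact p.Prime := ⟨hMp⟩
  have hβ : ∀ r : ℕ, r.Prime → r ≠ p → ∃ S : Sylow r G, (S : Subgroup G).Normal := by
    intro r hr hrp
    have : Fact r.Prime := ⟨hr⟩
    obtain ⟨R⟩ : Nonempty (Sylow r M) := inferInstance
    have hall : ∀ (p : ℕ) [Fact p.Prime] (P : Sylow p M), (P : Subgroup M).Normal :=
      ((Group.isNilpotent_of_finite_tfae (G := M)).out 0 3).mp hMnil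
    have hRn : (R : Subgroup M).Normal := hall r R
    have hRc : (R : Subgroup M).Characteristic := Sylow.characteristic_of_normal R hRn
    have hRG : ((R : Subgroup M).map M.subtype).Normal :=
      ConjAct.normal_of_characteristic_of_normal
    have hcard : Nat.card ((R : Subgroup M).map M.subtype) = r ^ (Nat.card G).factorization r := by
      rw [Subgroup.card_map_of_injective M.subtype_injective, Sylow.card_eq_multiplicity]
      congr 1
      have h1 := M.card_mul_index
      rw [hp_def] at h1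
      rw [← h1, Nat.factorization_mul Nat.card_pos.ne' hMp.ne_zero]
      simp [hMp.factorization, hrp]
    refine ⟨Sylow.ofCard _ hcard, ?_⟩
    rw [Sylow.coe_ofCard]; exact hRG
  obtain ⟨P⟩ : Nonempty (Sylow p G) := inferInstance
  have hPnn : ¬ (P : Subgroup G).Normal := by
    intro hPn
    apply hnn
    refine ((Group.isNilpotent_of_finite_tfae (G := G)).out 0 3).mpr ?_
    intro r hr R
    by_cases hrp : r = p
    · subst hrp
      have := Sylow.unique_of_normal P hPn
      rw [Subsingleton.elim R P]; exact hPn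
    · obtain ⟨S, hS⟩ := hβ r hr.out hrp
      have := Sylow.unique_of_normal S hS
      rw [Subsingleton.elim R S]; exact hS
  have hδ : ∃ q : ℕ, q.Prime ∧ q ≠ p ∧ ∃ Q : Sylow q G,
      (Q : Subgroup G).Normal ∧ (P : Subgroup G) ⊔ Q = ⊤ := by
    by_contra hcon
    apply hPnn
    rw [← normalizer_eq_top_iff]
    apply eq_top_of_sylow_le
    intro r hr
    by_cases hrp : r = p
    · subst hrp; exact ⟨P, le_normalizer⟩
    · obtain ⟨S, hS⟩ := hβ r hr.out hrp
      refine ⟨S, ?_⟩
      have hne : (P : Subgroup G) ⊔ S ≠ ⊤ := fun h => hcon ⟨r, hr.out, hrp, S, hS, h⟩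
      have hcomm := commute_of_sup_nilpotent (P : Subgroup G) (S : Subgroup G) p r (Ne.symm hrp)
        P.isPGroup' S.isPGroup' (hprop _ hne)
      intro s hs
      apply Subgroup.centralizer_le_normalizer
      exact mem_centralizer_iff.mpr (fun x hx => hcomm x hx s hs)
  obtain ⟨q, hq, hqp, Q, hQn, hPQ⟩ := hδ
  have hqF : Fact q.Prime := ⟨hq⟩
  refine ⟨p, q, hMp, hq, Ne.symm hqp, P, Q, ?_, hQn, hPQ⟩
  by_contra hcyc
  apply hPnn
  rw [← normalizer_eq_top_iff, eq_top_iff, ← hPQ]
  refine sup_le le_normalizer ?_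
  have hdisj : Disjoint (P : Subgroup G) (Q : Subgroup G) :=
    IsPGroup.disjoint_of_ne p q (Ne.symm hqp) _ _ P.isPGroup' Q.isPGroup'
  have hcomm : ∀ x ∈ (P : Subgroup G), ∀ b ∈ (Q : Subgroup G), x * b = b * x := by
    intro x hx
    have hle : zpowers x ≤ (P : Subgroup G) := (zpowers_le (H := (P : Subgroup G))).mpr hx
    have hne : zpowers x ⊔ (Q : Subgroup G) ≠ ⊤ := by
      intro h
      apply hcyc
      have hsurj : Function.Surjective (Subgroup.inclusion hle) := by
        rintro ⟨y, hy⟩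
        have hy' : y ∈ (((Q : Subgroup G) ⊔ zpowers x : Subgroup G) : Set G) := by
          rw [sup_comm, h]; exact mem_top y
        rw [Subgroup.normal_mul] at hy'
        obtain ⟨b, hb, z, hz, rfl⟩ := hy'
        have hbP : b ∈ (P : Subgroup G) := by
          have : b = (b * z) * z⁻¹ := by group
          rw [this]
          exact Subgroup.mul_mem _ hy (Subgroup.inv_mem _ (hle hz))
        have hb1 : b = 1 := Subgroup.disjoint_def.mp hdisj hbP hb
        refine ⟨⟨z, hz⟩, ?_⟩
        apply Subtype.ext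
        show z = b * z
        rw [hb1, one_mul]
      exact isCyclic_of_surjective (Subgroup.inclusion hle) hsurj
    exact commute_of_sup_nilpotent (zpowers x) (Q : Subgroup G) p q (Ne.symm hqp)
      (P.isPGroup'.to_le hle) Q.isPGroup' (hprop _ hne) x (mem_zpowers x)
  intro b hb
  apply Subgroup.centralizer_le_normalizer
  exact mem_centralizer_iff.mpr (fun x hx => hcomm x hx b hb)

end Cfsg.Agent.Lib.Helper9
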