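import Cfsg.Agent.S0666
import Cfsg.Agent.S0108
import Cfsg.Agent.S4040
import Cfsg.Agent.Lib.Helper7.SZ
import Cfsg.Agent.Lib.Helper7.Hall
import Cfsg.Agent.Lib.Helper3.GT7
import Cfsg.Agent.Lib.Helper2.NPC

set_option autoImplicit false
set_option linter.style.haveILetI false

namespace Cfsg.Agent.Lib.Helper9

open Cfsg
open scoped Pointwise

universe u

section basics

variable {G : Type*} [Group G]

/-- restriction of an endomorphism to an invariant subgroup -/
def tfRes (α : G →* G) (H : Subgroup G) (hH : ∀ x ∈ H, α x ∈ H) : H →* H :=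
  (α.comp H.subtype).codRestrict H (fun x => hH x x.2)

theorem tfRes_coe (α : G →* G) (H : Subgroup G) (hH : ∀ x ∈ H, α x ∈ H) (x : H) :
    ((tfRes α H hH x : H) : G) = α x := rfl

theorem tfRes_iterate (α : G →* G) (H : Subgroup G) (hH : ∀ x ∈ H, α x ∈ H) (n : ℕ) (x : H) :
    (((tfRes α H hH)^[n] x : H) : G) = α^[n] x := by
  induction n generalizing x with
  | zero => rfl
  | succ n ih => rw [Function.iterate_succ_apply, ih, tfRes_coe, ← Function.iterate_succ_apply]

theorem tf_injective (α : G →* G) (r : ℕ) (hr : 0 < r) (hαr : (α : G → G)^[r] = id) :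
    Function.Injective α := by
  intro x y hxy
  obtain ⟨r', rfl⟩ : ∃ r', r = r' + 1 := ⟨r - 1, by omega⟩
  have hx : α^[r' + 1] x = x := congrFun hαr x
  have hy : α^[r' + 1] y = y := congrFun hαr y
  rw [Function.iterate_succ_apply] at hx hy
  rw [← hx, ← hy, hxy]

theorem tf_map_eq [Finite G] (α : G →* G) (hinj : Function.Injective α) (H : Subgroup G)
    (hH : ∀ x ∈ H, α x ∈ H) : H.map α = H := by
  apply Subgroup.eq_of_le_of_card_ge
  · rintro _ ⟨x, hx, rfl⟩
    exact hH x hx
  · rw [Subgroup.card_map_of_injective hinj]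

theorem tf_mem_iff (α : G →* G) (hinj : Function.Injective α) (H : Subgroup G)
    (hH : H.map α = H) (x : G) : α x ∈ H ↔ x ∈ H := by
  constructor
  · intro hx
    rw [← hH] at hx
    obtain ⟨y, hy, hyx⟩ := hx
    rw [← hinj hyx]; exact hy
  · intro hx
    rw [← hH]; exact Subgroup.mem_map_of_mem α hx

/-- the fix lemma: a subgroup conjugate to its image has an invariant conjugate -/
theorem tf_exists_fixed_conj [Finite G] (α : G →* G) (hfpf : MonoidHom.FixedPointFree α)
    (P : Subgroup G) (g : G) (hg : P.map α = MulAut.conj g • P) :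
    ∃ y : G, (MulAut.conj y • P).map α = MulAut.conj y • P := by
  obtain ⟨z, hz⟩ := hfpf.commutatorMap_surjective g⁻¹
  rw [MonoidHom.commutatorMap_apply] at hz
  refine ⟨z⁻¹, ?_⟩
  have e1 : (MulAut.conj z⁻¹ • P).map α = MulAut.conj (α z⁻¹) • (P.map α) := by
    ext x
    constructor
    · rintro ⟨_, ⟨w, hw, rfl⟩, rfl⟩
      refine ⟨α w, Subgroup.mem_map_of_mem α hw, ?_⟩
      show α z⁻¹ * α w * (α z⁻¹)⁻¹ = α (z⁻¹ * w * z⁻¹⁻¹)
      simp only [map_mul, map_inv]
    · rintro ⟨_, ⟨w, hw, rfl⟩, rfl⟩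
      refine ⟨z⁻¹ * w * z⁻¹⁻¹, ⟨w, hw, rfl⟩, ?_⟩
      show α (z⁻¹ * w * z⁻¹⁻¹) = α z⁻¹ * α w * (α z⁻¹)⁻¹
      simp only [map_mul, map_inv]
  rw [e1, hg, ← mul_smul, ← map_mul]
  congr 2
  have : g = α z * z⁻¹ := by
    have h1 : g⁻¹ = z / α z := hz.symm
    have h2 : g = (z / α z)⁻¹ := by rw [← h1, inv_inv]
    rw [h2, div_eq_mul_inv, mul_inv_rev, inv_inv]
  rw [this, map_inv]; group

end basics

/-- the abstract averaging lemma -/
theorem tf_fixed_abs {V S : Type*} [CommGroup V] [Finite V] [Group S] [Finite S]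
    (σ : S →* MulAut V) (β : V →* V) (γ : S →* S) (r : ℕ) (hr : r.Prime)
    (hcomp : ∀ s v, β (σ s v) = σ (γ s) (β v))
    (hβ : MonoidHom.FixedPointFree β) (hβr : (β : V → V)^[r] = id)
    (hγ : MonoidHom.FixedPointFree γ) (hγr : (γ : S → S)^[r] = id)
    (hcop : (Nat.card V).Coprime (Nat.card S))
    (hfix : ∀ v, (∀ s, σ s v = v) → v = 1) (v : V) : v = 1 := by
  classical
  have := Fintype.ofFinite S
  have hT : ∀ w : V, ∏ s : S, σ s w = 1 := by
    intro w
    apply hfix
    intro t
    rw [map_prod]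
    refine Fintype.prod_equiv (Equiv.mulLeft t) _ _ (fun s => ?_)
    simp [map_mul]
  have hcompi : ∀ (i : ℕ) (s : S) (v : V), β^[i] (σ s v) = σ (γ^[i] s) (β^[i] v) := by
    intro i
    induction i with
    | zero => intro s v; rfl
    | succ i ih =>
      intro s v
      rw [Function.iterate_succ_apply', Function.iterate_succ_apply',
        Function.iterate_succ_apply', ih, hcomp]
  have hγi : ∀ (i : ℕ) (s : S), γ^[i] (s⁻¹) = (γ^[i] s)⁻¹ := fun i s => iterate_map_inv γ i s
  have h1 : ∀ s : S, ∏ i ∈ Finset.range r, σ (s * (γ^[i] s)⁻¹) (β^[i] v) = 1 := by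
    intro s
    have e : ∀ i ∈ Finset.range r,
        σ (s * (γ^[i] s)⁻¹) (β^[i] v) = σ s (β^[i] (σ s⁻¹ v)) := by
      intro i _
      rw [hcompi, hγi, map_mul]; rfl
    rw [Finset.prod_congr rfl e, ← map_prod]
    have h := hβ.prod_pow_eq_one hβr (σ s⁻¹ v)
    have e2 : ∏ i ∈ Finset.range r, β^[i] (σ s⁻¹ v) =
        ((List.range r).map fun k => β^[k] (σ s⁻¹ v)).prod := by
      rfl
    rw [e2, h, map_one]
  have h2 : ∏ s : S, ∏ i ∈ Finset.range r, σ (s * (γ^[i] s)⁻¹) (β^[i] v) = v ^ Nat.card S := by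
    rw [Finset.prod_comm]
    obtain ⟨r', rfl⟩ : ∃ r', r = r' + 1 := ⟨r - 1, by have := hr.pos; omega⟩
    rw [Finset.prod_range_succ']
    have e0 : ∏ s : S, σ (s * (γ^[0] s)⁻¹) (β^[0] v) = v ^ Nat.card S := by
      simp [Nat.card_eq_fintype_card]
    have ei : ∀ i ∈ Finset.range r',
        ∏ s : S, σ (s * (γ^[i + 1] s)⁻¹) (β^[i + 1] v) = 1 := by
      intro i hi
      have hi' := Finset.mem_range.mp hi
      obtain ⟨γi, hγi'⟩ : ∃ γi : S →* S, (γi : S → S) = γ^[i + 1] :=
        ⟨@HPow.hPow (Monoid.End S) ℕ (Monoid.End S) _ γ (i + 1), Monoid.End.coe_pow _ _ _⟩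
      have hfpfi : MonoidHom.FixedPointFree γi := by
        intro s hs
        rw [hγi'] at hs
        have hp1 : Function.IsPeriodicPt γ (i + 1) s := hs
        have hp2 : Function.IsPeriodicPt γ (r' + 1) s := congrFun hγr s
        have hp3 := hp1.gcd hp2
        have hg : Nat.gcd (i + 1) (r' + 1) = 1 := by
          rw [Nat.gcd_comm]
          exact (Nat.Prime.coprime_iff_not_dvd hr).mpr
            (fun hd => by have := Nat.le_of_dvd (by omega) hd; omega)
        rw [hg] at hp3
        exact hγ s hp3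
      have hbij : Function.Bijective (MonoidHom.commutatorMap γi) :=
        ⟨hfpfi.commutatorMap_injective, hfpfi.commutatorMap_surjective⟩
      have h := Function.Bijective.prod_comp hbij (fun t => σ t (β^[i + 1] v))
      rw [← hT (β^[i + 1] v), ← h]
      refine Finset.prod_congr rfl (fun s _ => ?_)
      rw [MonoidHom.commutatorMap_apply, hγi', div_eq_mul_inv]
    rw [Finset.prod_eq_one ei, one_mul, e0]
  have h3 : v ^ Nat.card S = 1 := by
    rw [← h2]; exact Finset.prod_eq_one (fun s _ => h1 s)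
  have h4 : orderOf v ∣ Nat.card S := orderOf_dvd_of_pow_eq_one h3
  have h5 : orderOf v ∣ Nat.card V := orderOf_dvd_natCard v
  exact orderOf_eq_one_iff.mp (Nat.eq_one_of_dvd_coprimes hcop h5 h4)

/-- concrete version of the averaging lemma, for subgroups -/
theorem tf_fixed {G : Type*} [Group G] [Finite G] (α : G →* G)
    (hfpf : MonoidHom.FixedPointFree α) (r : ℕ) (hr : r.Prime) (hαr : (α : G → G)^[r] = id)
    (V S : Subgroup G) (hV : ∀ x ∈ V, α x ∈ V) (hS : ∀ x ∈ S, α x ∈ S)
    (hab : ∀ a ∈ V, ∀ b ∈ V, a * b = b * a)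
    (hSV : S ≤ Subgroup.normalizer (V : Set G)) (hcop : (Nat.card V).Coprime (Nat.card S))
    (hfix : ∀ v ∈ V, (∀ s ∈ S, s * v = v * s) → v = 1) : V = ⊥ := by
  classical
  let _ : CommGroup V :=
    { (inferInstance : Group V) with mul_comm := fun a b => Subtype.ext (hab a a.2 b b.2) }
  rw [Subgroup.eq_bot_iff_forall]
  intro v hv
  have key := tf_fixed_abs (Cfsg.Agent.S0666.conjOn V S hSV) (tfRes α V hV) (tfRes α S hS) r hr
    ?_ ?_ ?_ ?_ ?_ hcop ?_ ⟨v, hv⟩
  · exact congrArg Subtype.val key
  · intro s w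
    apply Subtype.ext
    show α ((s : G) * w * (s : G)⁻¹) = α s * α w * (α s)⁻¹
    simp only [map_mul, map_inv]
  · intro w hw
    apply Subtype.ext
    exact hfpf w (congrArg Subtype.val hw)
  · funext w
    apply Subtype.ext
    rw [tfRes_iterate, hαr]; rfl
  · intro w hw
    apply Subtype.ext
    exact hfpf w (congrArg Subtype.val hw)
  · funext w
    apply Subtype.ext
    rw [tfRes_iterate, hαr]; rfl
  · intro w hw
    apply Subtype.ext
    apply hfix w w.2
    intro s hs
    have h1 := hw ⟨s, hs⟩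
    have h2 : s * (w : G) * s⁻¹ = w := congrArg Subtype.val h1
    calc s * (w : G) = (s * (w : G) * s⁻¹) * s := by group
      _ = w * s := by rw [h2]

theorem tf_quot {G : Type*} [Group G] [Finite G] (α : G →* G)
    (hfpf : MonoidHom.FixedPointFree α) (r : ℕ) (hαr : (α : G → G)^[r] = id)
    (N : Subgroup G) [N.Normal] (hN : ∀ x ∈ N, α x ∈ N) :
    ∃ β : G ⧸ N →* G ⧸ N, MonoidHom.FixedPointFree β ∧ (β : G ⧸ N → G ⧸ N)^[r] = id := by
  have hle : N ≤ N.comap α := fun x hx => hN x hx
  refine ⟨QuotientGroup.map N N α hle, ?_, ?_⟩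
  · intro x hx
    obtain ⟨g, rfl⟩ := QuotientGroup.mk_surjective x
    rw [QuotientGroup.map_mk] at hx
    have h1 : (α g)⁻¹ * g ∈ N := QuotientGroup.eq.mp hx
    have h2 : g⁻¹ * α g ∈ N := by
      have := N.inv_mem h1
      rwa [mul_inv_rev, inv_inv] at this
    have hfpfN : MonoidHom.FixedPointFree (tfRes α N hN) := by
      intro w hw
      apply Subtype.ext
      exact hfpf w (congrArg Subtype.val hw)
    obtain ⟨m, hm⟩ := hfpfN.commutatorMap_surjective ⟨g⁻¹ * α g, h2⟩
    have hm' : (m : G) / α m = g⁻¹ * α g := congrArg Subtype.val hm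
    have h3 : α (g * m) = g * m := by
      rw [map_mul]
      have : α g = g * ((m : G) / α m) := by rw [hm']; group
      rw [this, div_eq_mul_inv]; group
    have h4 := hfpf _ h3
    have h5 : g = (m : G)⁻¹ := eq_inv_of_mul_eq_one_left h4
    rw [h5]
    exact (QuotientGroup.eq_one_iff _).mpr (N.inv_mem m.2)
  · funext x
    obtain ⟨g, rfl⟩ := QuotientGroup.mk_surjective x
    have : ∀ k : ℕ, (QuotientGroup.map N N α hle)^[k] (g : G ⧸ N) =
        ((α^[k] g : G) : G ⧸ N) := by
      intro k
      induction k with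
      | zero => rfl
      | succ k ih =>
        rw [Function.iterate_succ_apply', ih, QuotientGroup.map_mk, Function.iterate_succ_apply']
    rw [this, hαr]; rfl

theorem tf_center_ne_bot {H : Type*} [Group H] [Nontrivial H] (hnil : Group.IsNilpotent H) :
    Subgroup.center H ≠ ⊥ := by
  intro hZ
  obtain ⟨n, hn⟩ := hnil.nilpotent'
  have hall : ∀ k, Subgroup.upperCentralSeries H k = ⊥ := by
    intro k
    induction k with
    | zero => exact Subgroup.upperCentralSeries_zero H
    | succ k ih =>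
      rw [eq_bot_iff]
      intro x hx
      rw [Subgroup.mem_upperCentralSeries_succ_iff] at hx
      rw [Subgroup.mem_bot]
      have hxc : x ∈ Subgroup.center H := by
        rw [Subgroup.mem_center_iff]
        intro y
        have h1 := hx y
        rw [ih, Subgroup.mem_bot, commutatorElement_def] at h1
        calc y * x = (x * y * x⁻¹ * y⁻¹)⁻¹ * (x * y) := by group
          _ = x * y := by rw [h1, inv_one, one_mul]
      rw [hZ, Subgroup.mem_bot] at hxc
      exact hxc
  rw [hall n] at hn
  exact bot_ne_top hn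

/-- Thompson's theorem, in endomorphism form -/
theorem thompson_fpf_aux (r : ℕ) (hr : r.Prime) : ∀ (n : ℕ) (G : Type u) [Group G] [Finite G],
    Nat.card G = n → ∀ α : G →* G, MonoidHom.FixedPointFree α → (α : G → G)^[r] = id →
    Group.IsNilpotent G := by
  intro n
  induction n using Nat.strong_induction_on with
  | _ n ih =>
  intro G _ _ hn α hfpf hαr
  classical
  have hinj : Function.Injective α := tf_injective α r hr.pos hαr
  have hsurj : Function.Surjective α := Finite.surjective_of_injective hinj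
  have ihsub : ∀ M : Subgroup G, (∀ x ∈ M, α x ∈ M) → M ≠ ⊤ → Group.IsNilpotent M := by
    intro M hM hne
    have hlt : Nat.card M < n := by
      rw [← hn]
      exact lt_of_le_of_ne (Subgroup.card_le_card_group M)
        (fun h => hne ((Subgroup.card_eq_iff_eq_top M).mp h))
    exact ih _ hlt M rfl (tfRes α M hM)
      (fun w hw => Subtype.ext (hfpf w (congrArg Subtype.val hw)))
      (by funext w; apply Subtype.ext; rw [tfRes_iterate, hαr]; rfl)
  have ihquot : ∀ (N : Subgroup G) [N.Normal], (∀ x ∈ N, α x ∈ N) → N ≠ ⊥ →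
      Group.IsNilpotent (G ⧸ N) := by
    intro N _ hN hne
    obtain ⟨β, hβ, hβr⟩ := tf_quot α hfpf r hαr N hN
    have hlt : Nat.card (G ⧸ N) < n := by
      rw [← hn, ← Subgroup.index_eq_card, ← Subgroup.index_mul_card N]
      have h1 : 1 < Nat.card N := (Subgroup.one_lt_card_iff_ne_bot N).mpr hne
      have h2 : 0 < N.index := Nat.pos_of_ne_zero Subgroup.index_ne_zero_of_finite
      nlinarith
    exact ih _ hlt (G ⧸ N) rfl β hβ hβr
  by_cases hZ : Subgroup.center G = ⊥
  swap
  · have hZinv : ∀ x ∈ Subgroup.center G, α x ∈ Subgroup.center G := by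
      intro x hx
      rw [Subgroup.mem_center_iff] at hx ⊢
      intro g
      obtain ⟨g', rfl⟩ := hsurj g
      rw [← map_mul, ← map_mul, hx g']
    have h1 := ihquot (Subgroup.center G) hZinv hZ
    exact Group.of_quotient_center_nilpotent h1
  by_cases hodd : ∀ q : ℕ, q.Prime → q ∣ Nat.card G → q = 2
  · obtain ⟨k, h1⟩ : ∃ k, Nat.card G = 2 ^ k :=
      ⟨_, Nat.eq_prime_pow_of_unique_prime_dvd Nat.card_pos.ne' (fun hd hdvd => hodd _ hd hdvd)⟩
    have : Fact (Nat.Prime 2) := ⟨Nat.prime_two⟩
    exact (IsPGroup.of_card h1).isNilpotent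
  push Not at hodd
  obtain ⟨q, hq, hqdvd, hq2⟩ := hodd
  have : Fact q.Prime := ⟨hq⟩
  obtain ⟨Q, hQinv⟩ : ∃ Q : Sylow q G, (Q : Subgroup G).map α = Q := by
    obtain ⟨Q₀⟩ : Nonempty (Sylow q G) := inferInstance
    have hc : Nat.card ((Q₀ : Subgroup G).map α) = q ^ (Nat.card G).factorization q := by
      rw [Subgroup.card_map_of_injective hinj, Sylow.card_eq_multiplicity]
    obtain ⟨g, hg⟩ := MulAction.exists_smul_eq G Q₀ (Sylow.ofCard _ hc)
    have hg' : (Q₀ : Subgroup G).map α = MulAut.conj g • (Q₀ : Subgroup G) := by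
      have h1 := congrArg (fun R : Sylow q G => (R : Subgroup G)) hg
      simp only [Sylow.coe_ofCard, Sylow.coe_subgroup_smul] at h1
      exact h1.symm
    obtain ⟨y, hy⟩ := tf_exists_fixed_conj α hfpf _ g hg'
    exact ⟨y • Q₀, by rw [Sylow.coe_subgroup_smul]; exact hy⟩
  have hQne : (Q : Subgroup G) ≠ ⊥ := Sylow.ne_bot_of_dvd_card Q hqdvd
  have hQinv' : ∀ x ∈ (Q : Subgroup G), α x ∈ (Q : Subgroup G) :=
    fun x hx => (tf_mem_iff α hinj _ hQinv x).mpr hx
  by_cases hpn : Cfsg.HasNormalPComplement q G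
  · obtain ⟨K, hKn, hKc, a, ha⟩ := Cfsg.Agent.Lib.Helper2.hasNormalPComplement_iff.mp hpn
    haveI := hKn
    by_cases hKbot : K = ⊥
    · have hc : Nat.card G = q ^ a := by rw [← ha, hKbot, Subgroup.index_bot]
      exact (IsPGroup.of_card hc).isNilpotent
    exfalso
    have hKinv : ∀ x ∈ K, α x ∈ K := by
      intro x hx
      apply Cfsg.Agent.Lib.Helper2.mem_of_index_pow_of_coprime_orderOf K ha
      rw [orderOf_injective α hinj x]
      exact Nat.Coprime.coprime_dvd_left (Subgroup.orderOf_dvd_natCard K hx) hKc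
    have hKtop : K ≠ ⊤ := by
      intro h
      rw [h, Subgroup.card_top] at hKc
      exact (Nat.Prime.coprime_iff_not_dvd hq).mp hKc.symm hqdvd
    have hKnil := ihsub K hKinv hKtop
    have hKmap : K.map α = K := tf_map_eq α hinj K hKinv
    have hVinv : ∀ x ∈ K ⊓ Subgroup.centralizer (K : Set G),
        α x ∈ K ⊓ Subgroup.centralizer (K : Set G) := by
      intro x hx
      obtain ⟨hxK, hxc⟩ := Subgroup.mem_inf.mp hx
      refine Subgroup.mem_inf.mpr ⟨hKinv x hxK, ?_⟩
      rw [Subgroup.mem_centralizer_iff] at hxc ⊢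
      intro k hk
      obtain ⟨k', rfl⟩ := hsurj k
      have hk' : k' ∈ K := (tf_mem_iff α hinj K hKmap k').mp hk
      rw [← map_mul, ← map_mul, hxc k' hk']
    have hVab : ∀ a ∈ K ⊓ Subgroup.centralizer (K : Set G),
        ∀ b ∈ K ⊓ Subgroup.centralizer (K : Set G), a * b = b * a := by
      intro a ha b hb
      exact Subgroup.mem_centralizer_iff.mp (Subgroup.mem_inf.mp hb).2 a (Subgroup.mem_inf.mp ha).1
    have hVn : (K ⊓ Subgroup.centralizer (K : Set G)).Normal := by
      constructor
      intro v hv g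
      obtain ⟨hvK, hvc⟩ := Subgroup.mem_inf.mp hv
      refine Subgroup.mem_inf.mpr ⟨hKn.conj_mem v hvK g, ?_⟩
      rw [Subgroup.mem_centralizer_iff] at hvc ⊢
      intro k hk
      have h1 := hvc (g⁻¹ * k * g) (by have := hKn.conj_mem k hk g⁻¹; simpa using this)
      calc k * (g * v * g⁻¹) = g * ((g⁻¹ * k * g) * v) * g⁻¹ := by group
        _ = g * (v * (g⁻¹ * k * g)) * g⁻¹ := by rw [h1]
        _ = g * v * g⁻¹ * k := by group
    have hKQ : K ⊔ (Q : Subgroup G) = ⊤ := by
      rw [← Subgroup.index_eq_one]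
      have h1 : (K ⊔ (Q : Subgroup G)).index ∣ q ^ a := ha ▸ Subgroup.index_dvd_of_le le_sup_left
      have h2 : (K ⊔ (Q : Subgroup G)).index ∣ (Q : Subgroup G).index :=
        Subgroup.index_dvd_of_le le_sup_right
      have h3 : (q ^ a).Coprime (Q : Subgroup G).index :=
        Nat.Coprime.pow_left a ((Nat.Prime.coprime_iff_not_dvd hq).mpr Q.not_dvd_index)
      exact Nat.eq_one_of_dvd_coprimes h3 h1 h2
    have hVbot : K ⊓ Subgroup.centralizer (K : Set G) = ⊥ := by
      apply tf_fixed α hfpf r hr hαr _ Q hVinv hQinv' hVab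
      · rw [Subgroup.normalizer_eq_top]; exact le_top
      · have h1 : Nat.card (K ⊓ Subgroup.centralizer (K : Set G) : Subgroup G) ∣ Nat.card K :=
          Subgroup.card_dvd_of_le inf_le_left
        have h2 : (Nat.card (K ⊓ Subgroup.centralizer (K : Set G) : Subgroup G)).Coprime q :=
          Nat.Coprime.coprime_dvd_left h1 hKc
        rw [Sylow.card_eq_multiplicity]
        exact Nat.Coprime.pow_right _ h2
      · intro v hv hvS
        have hle : K ⊔ (Q : Subgroup G) ≤ Subgroup.centralizer {v} := by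
          apply sup_le
          · intro k hk
            rw [Subgroup.mem_centralizer_iff]
            rintro _ rfl
            exact (Subgroup.mem_centralizer_iff.mp (Subgroup.mem_inf.mp hv).2 k hk).symm
          · intro s hs
            rw [Subgroup.mem_centralizer_iff]
            rintro _ rfl
            exact (hvS s hs).symm
        have hvZ : v ∈ Subgroup.center G := by
          rw [Subgroup.mem_center_iff]
          intro g
          have hg : g ∈ Subgroup.centralizer {v} := hle (hKQ ▸ Subgroup.mem_top g)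
          exact (Subgroup.mem_centralizer_iff.mp hg v rfl).symm
        rw [hZ, Subgroup.mem_bot] at hvZ
        exact hvZ
    haveI : Nontrivial K := (Subgroup.nontrivial_iff_ne_bot K).mpr hKbot
    apply tf_center_ne_bot hKnil
    rw [Subgroup.eq_bot_iff_forall]
    intro z hz
    have hzV : (z : G) ∈ K ⊓ Subgroup.centralizer (K : Set G) := by
      refine Subgroup.mem_inf.mpr ⟨z.2, ?_⟩
      rw [Subgroup.mem_centralizer_iff]
      intro k hk
      have := Subgroup.mem_center_iff.mp hz ⟨k, hk⟩
      exact congrArg Subtype.val this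
    rw [hVbot, Subgroup.mem_bot] at hzV
    exact Subtype.ext hzV
  · exfalso
    have hker : (Q : Subgroup G) ⊓ α.ker = ⊥ := by
      rw [(MonoidHom.ker_eq_bot_iff α).mpr hinj, inf_bot_eq]
    have hZmap : ((Q : Subgroup G) ⊓ Subgroup.centralizer ((Q : Subgroup G) : Set G)).map α =
        (Q : Subgroup G) ⊓ Subgroup.centralizer ((Q : Subgroup G) : Set G) := by
      have h1 := (Cfsg.Agent.Lib.Helper3.cfZ.{u} q).map α (Q : Subgroup G) hker
      rw [hQinv] at h1
      exact h1.symm
    have hJmap : (Cfsg.thompsonSubgroupOf q (Q : Subgroup G)).map α =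
        Cfsg.thompsonSubgroupOf q (Q : Subgroup G) := by
      have h1 := (Cfsg.Agent.Lib.Helper3.cfJe.{u} q).map α (Q : Subgroup G) hker
      rw [hQinv] at h1
      exact h1.symm
    have hZne : (Q : Subgroup G) ⊓ Subgroup.centralizer ((Q : Subgroup G) : Set G) ≠ ⊥ :=
      (Cfsg.Agent.Lib.Helper3.cfZ.{u} q).ne_bot (Q : Subgroup G) Q.isPGroup' hQne
    have hJne : Cfsg.thompsonSubgroupOf q (Q : Subgroup G) ≠ ⊥ :=
      (Cfsg.Agent.Lib.Helper3.cfJe.{u} q).ne_bot (Q : Subgroup G) Q.isPGroup' hQne
    generalize hZdef : (Q : Subgroup G) ⊓ Subgroup.centralizer ((Q : Subgroup G) : Set G) = Z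
      at hZmap hZne
    generalize hJdef : Cfsg.thompsonSubgroupOf q (Q : Subgroup G) = J at hJmap hJne
    have hCinv : ∀ x ∈ Subgroup.centralizer (Z : Set G),
        α x ∈ Subgroup.centralizer (Z : Set G) := by
      intro x hx
      rw [Subgroup.mem_centralizer_iff] at hx ⊢
      intro z hz
      obtain ⟨z', rfl⟩ := hsurj z
      have hz' : z' ∈ Z := (tf_mem_iff α hinj Z hZmap z').mp hz
      rw [← map_mul, ← map_mul, hx z' hz']
    have hNinv : ∀ x ∈ Subgroup.normalizer (J : Set G),
        α x ∈ Subgroup.normalizer (J : Set G) := by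
      intro x hx
      rw [Subgroup.mem_normalizer_iff] at hx ⊢
      intro h
      obtain ⟨h', rfl⟩ := hsurj h
      rw [tf_mem_iff α hinj J hJmap, hx h', ← tf_mem_iff α hinj J hJmap (x * h' * x⁻¹)]
      simp only [map_mul, map_inv]
    have hCne : Subgroup.centralizer (Z : Set G) ≠ ⊤ := by
      intro h
      apply hZne
      rw [eq_bot_iff, ← hZ]
      intro z hz
      rw [Subgroup.mem_center_iff]
      intro g
      have hg : g ∈ Subgroup.centralizer (Z : Set G) := h ▸ Subgroup.mem_top g
      exact (Subgroup.mem_centralizer_iff.mp hg z hz).symm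
    have hB : Cfsg.HasNormalPComplement q (Subgroup.centralizer (Z : Set G)) :=
      Cfsg.Agent.S4040.pn_of_nilpotent (ihsub _ hCinv hCne) q
    have hA : ¬ Cfsg.HasNormalPComplement q (Subgroup.normalizer (J : Set G)) := by
      intro hA
      have hset : ((Q : Subgroup G) : Set G) ⊓
          (Subgroup.centralizer (Q : Set G) : Set G) = (Z : Set G) := by
        rw [← hZdef]; rfl
      refine hpn ((Cfsg.Agent.S0108.result hq2 Q).mpr ⟨?_, ?_⟩)
      · rw [hJdef]; exact hA
      · rw [hset]; exact hB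
    have hJtop : Subgroup.normalizer (J : Set G) = ⊤ := by
      by_contra hne
      exact hA (Cfsg.Agent.S4040.pn_of_nilpotent (ihsub _ hNinv hne) q)
    haveI hJn : J.Normal := Subgroup.normalizer_eq_top_iff.mp hJtop
    have hJinv : ∀ x ∈ J, α x ∈ J := fun x hx => (tf_mem_iff α hinj J hJmap x).mpr hx
    have hquot := ihquot J hJinv hJne
    have hJQ : J ≤ (Q : Subgroup G) := by
      rw [← hJdef]; exact (Cfsg.Agent.Lib.Helper3.cfJe.{u} q).le (Q : Subgroup G)
    have hQn : (Q : Subgroup G).Normal := by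
      have hall : ∀ (r : ℕ) (_ : Fact r.Prime) (R : Sylow r (G ⧸ J)),
          (R : Subgroup (G ⧸ J)).Normal :=
        ((Group.isNilpotent_of_finite_tfae (G := G ⧸ J)).out 0 3).mp hquot
      obtain ⟨R, hR⟩ := (Q.isPGroup'.map (QuotientGroup.mk' J)).exists_le_sylow
      haveI := hall q inferInstance R
      have h1 : (Q : Subgroup G) ≤ (R : Subgroup (G ⧸ J)).comap (QuotientGroup.mk' J) := by
        intro x hx
        exact hR (Subgroup.mem_map_of_mem _ hx)
      have h2 : IsPGroup q ((R : Subgroup (G ⧸ J)).comap (QuotientGroup.mk' J)) := by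
        have hc := Cfsg.Agent.Lib.Helper7.card_comap_mk' J (R : Subgroup (G ⧸ J))
        obtain ⟨a, ha⟩ := IsPGroup.iff_card.mp (Q.isPGroup'.to_le hJQ)
        obtain ⟨b, hb⟩ := IsPGroup.iff_card.mp R.isPGroup'
        apply IsPGroup.of_card (n := a + b)
        rw [hc, ha, hb, pow_add]
      have h3 := Q.is_maximal' h2 h1
      rw [← h3]
      infer_instance
    haveI := hQn
    have hcopQ : (Nat.card (Q : Subgroup G)).Coprime (Q : Subgroup G).index :=
      Sylow.card_coprime_index Q
    obtain ⟨L, hL⟩ := Subgroup.exists_right_complement'_of_coprime hcopQ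
    have hLi : Nat.card L = (Q : Subgroup G).index :=
      Nat.eq_of_mul_eq_mul_left Nat.card_pos
        (hL.card_mul_card.trans (Subgroup.card_mul_index (Q : Subgroup G)).symm)
    have hLmapc : Subgroup.IsComplement' (Q : Subgroup G) (L.map α) := by
      apply Subgroup.isComplement'_of_coprime
      · rw [Subgroup.card_map_of_injective hinj]; exact hL.card_mul_card
      · rw [Subgroup.card_map_of_injective hinj, hLi]; exact hcopQ
    have hQsolv : Group.IsSolvable (Q : Subgroup G) := by
      haveI := Q.isPGroup'.isNilpotent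
      infer_instance
    obtain ⟨g, hg⟩ := Cfsg.Agent.Lib.Helper7.sz_conj (Q : Subgroup G) hcopQ (Or.inl hQsolv)
      L (L.map α) hL hLmapc
    obtain ⟨y, hy⟩ := tf_exists_fixed_conj α hfpf L g hg.symm
    have hL'card : Nat.card (MulAut.conj y • L : Subgroup G) = Nat.card L := by
      show Nat.card (L.map (MulAut.conj y).toMonoidHom) = _
      exact Subgroup.card_map_of_injective (MulAut.conj y).injective
    generalize hL'def : (MulAut.conj y • L : Subgroup G) = L' at hy hL'card
    have hL'c : Subgroup.IsComplement' (Q : Subgroup G) L' := by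
      apply Subgroup.isComplement'_of_coprime
      · rw [hL'card]; exact hL.card_mul_card
      · rw [hL'card, hLi]; exact hcopQ
    have hL'inv : ∀ x ∈ L', α x ∈ L' := fun x hx => (tf_mem_iff α hinj L' hy x).mpr hx
    haveI hZn : Z.Normal := by
      rw [← hZdef]
      exact (Cfsg.Agent.Lib.Helper3.cfZ.{u} q).normal_of_normal (Q : Subgroup G)
    have hZinv : ∀ x ∈ Z, α x ∈ Z := fun x hx => (tf_mem_iff α hinj Z hZmap x).mpr hx
    apply hZne
    apply tf_fixed α hfpf r hr hαr Z L' hZinv hL'inv
    · intro a ha b hb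
      rw [← hZdef] at ha hb
      exact Subgroup.mem_centralizer_iff.mp (Subgroup.mem_inf.mp hb).2 a (Subgroup.mem_inf.mp ha).1
    · rw [Subgroup.normalizer_eq_top]; exact le_top
    · have h1 : Nat.card Z ∣ Nat.card (Q : Subgroup G) := by
        rw [← hZdef]; exact Subgroup.card_dvd_of_le inf_le_left
      rw [hL'card, hLi]
      exact Nat.Coprime.coprime_dvd_left h1 hcopQ
    · intro v hv hvS
      rw [← hZdef] at hv
      have hle : (Q : Subgroup G) ⊔ L' ≤ Subgroup.centralizer {v} := by
        apply sup_le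
        · intro k hk
          rw [Subgroup.mem_centralizer_iff]
          rintro _ rfl
          exact (Subgroup.mem_centralizer_iff.mp (Subgroup.mem_inf.mp hv).2 k hk).symm
        · intro s hs
          rw [Subgroup.mem_centralizer_iff]
          rintro _ rfl
          exact (hvS s hs).symm
      have hvZ : v ∈ Subgroup.center G := by
        rw [Subgroup.mem_center_iff]
        intro g
        have hg : g ∈ Subgroup.centralizer {v} := hle (hL'c.sup_eq_top ▸ Subgroup.mem_top g)
        exact (Subgroup.mem_centralizer_iff.mp hg v rfl).symm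
      rw [hZ, Subgroup.mem_bot] at hvZ
      exact hvZ

end Cfsg.Agent.Lib.Helper9
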